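import Mathlib

/-!
Fixed points of an element of prime power order on sets of coprime size, and coprime generation.
-/

set_option autoImplicit false
set_option linter.unusedSectionVars false
set_option linter.style.haveILetI false

namespace Cfsg.Lib.FitHeight

universe u v

variable {Γ : Type u} [Group Γ]

theorem isPGroup_zpowers {g : Γ} {p n : ℕ} (hg : g ^ p ^ n = 1) : IsPGroup p (Subgroup.zpowers g) := fun y =>
  ⟨n, Subtype.ext (by
    obtain ⟨m, hm⟩ := Subgroup.mem_zpowers_iff.1 y.2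
    rw [Subgroup.coe_pow, ← hm, ← zpow_natCast, ← zpow_mul, mul_comm, zpow_mul, zpow_natCast, hg, one_zpow]
    rfl)⟩

theorem finite_zpowers {g : Γ} {p n : ℕ} [Fact p.Prime] (hg : g ^ p ^ n = 1) : Finite (Subgroup.zpowers g) :=
  Nat.finite_of_card_ne_zero (by
    rw [Nat.card_zpowers]
    exact (orderOf_pos_iff.2 (isOfFinOrder_iff_pow_eq_one.2 ⟨p ^ n, pow_pos (Fact.out : p.Prime).pos n, hg⟩)).ne')

/-- A fixed point on a set of coprime size. -/
theorem exists_fixed {α : Type v} [Finite α] [MulAction Γ α] {g : Γ} {p n : ℕ} [Fact p.Prime]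
    (hg : g ^ p ^ n = 1) (hα : ¬ p ∣ Nat.card α) : ∃ x : α, g • x = x := by
  haveI := finite_zpowers hg
  obtain ⟨x, hx⟩ := (isPGroup_zpowers hg).nonempty_fixed_point_of_prime_not_dvd_card α hα
  exact ⟨x, hx ⟨g, Subgroup.mem_zpowers g⟩⟩

/-- A coset stable under `g` contains a fixed element. -/
theorem exists_fixed_coset (U : Subgroup Γ) [Finite U] {g : Γ} {p n : ℕ} [Fact p.Prime] (hg : g ^ p ^ n = 1)
    (hU : ¬ p ∣ Nat.card U) (hgU : ∀ u ∈ U, g * u * g⁻¹ ∈ U) {l : Γ} (hl : l⁻¹ * g * l * g⁻¹ ∈ U) :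
    ∃ u ∈ U, Commute g (l * u) := by
  haveI := finite_zpowers hg
  let S : Set Γ := (fun u => l * u) '' (U : Set Γ)
  have hstep : ∀ x ∈ S, g * x * g⁻¹ ∈ S := by
    rintro _ ⟨u, hu, rfl⟩
    exact ⟨(l⁻¹ * g * l * g⁻¹) * (g * u * g⁻¹), mul_mem hl (hgU u hu), by group⟩
  have hpow : ∀ (k : ℕ) (x), x ∈ S → g ^ k * x * (g ^ k)⁻¹ ∈ S := by
    intro k
    induction k with
    | zero => intro x hx; simpa using hx
    | succ k ih =>
      intro x hx
      have := hstep _ (ih x hx)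
      rw [pow_succ']
      simpa [mul_assoc] using this
  have hmem : ∀ y : Subgroup.zpowers g, ∀ x ∈ S, (y : Γ) * x * (y : Γ)⁻¹ ∈ S := by
    intro y x hx
    have hfin : IsOfFinOrder g := isOfFinOrder_iff_pow_eq_one.2 ⟨p ^ n, pow_pos (Fact.out : p.Prime).pos n, hg⟩
    obtain ⟨k, hk⟩ := (hfin.mem_powers_iff_mem_zpowers.2 y.2)
    rw [← show g ^ k = (y : Γ) from hk]
    exact hpow k x hx
  letI : MulAction (Subgroup.zpowers g) S :=
    { smul := fun y x => ⟨(y : Γ) * x * (y : Γ)⁻¹, hmem y x x.2⟩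
      one_smul := fun x => Subtype.ext (by
        change ((1 : Subgroup.zpowers g) : Γ) * x * ((1 : Subgroup.zpowers g) : Γ)⁻¹ = x
        simp)
      mul_smul := fun a b x => Subtype.ext (by
        change ((a * b : Subgroup.zpowers g) : Γ) * x * ((a * b : Subgroup.zpowers g) : Γ)⁻¹ = _ * (_ * _ * _) * _
        rw [Subgroup.coe_mul]; group) }
  haveI : Finite S := Finite.Set.finite_image _ _
  have hcard : Nat.card S = Nat.card U := Nat.card_image_of_injective (mul_right_injective l) _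
  obtain ⟨⟨_, u, hu, rfl⟩, hx⟩ := exists_fixed (Γ := Subgroup.zpowers g) (α := S)
    (g := ⟨g, Subgroup.mem_zpowers g⟩) (p := p) (n := n) (Subtype.ext (by simpa using hg)) (hcard ▸ hU)
  refine ⟨u, hu, ?_⟩
  have h1 : g * (l * u) * g⁻¹ = l * u := congrArg Subtype.val hx
  exact mul_inv_eq_iff_eq_mul.1 h1

end Cfsg.Lib.FitHeight
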