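import Cfsg.Agent.FitHeight.Sections
import Cfsg.Agent.FitHeight.Fix

/-!
The linear action on an elementary abelian section and its scalar extension.
-/

set_option autoImplicit false
set_option linter.unusedSectionVars false
set_option linter.style.haveILetI false
set_option linter.unusedVariables false

namespace Cfsg.Lib.FitHeight

open scoped commutatorElement

universe u v w

section BaseChange

variable {K : Type u} [Field K] {F : Type v} [Field F] [Algebra K F] {D : ℕ}

/-- The scalar extension of an endomorphism of a coordinate space. -/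
noncomputable def bchg (F : Type v) [Field F] [Algebra K F] :
    Module.End K (Fin D → K) →* Module.End F (Fin D → F) :=
  ((Matrix.toLinAlgEquiv' : Matrix (Fin D) (Fin D) F ≃ₐ[F] _).toRingEquiv.toRingHom.comp
    ((algebraMap K F).mapMatrix.comp
      (LinearMap.toMatrixAlgEquiv' : Module.End K (Fin D → K) ≃ₐ[K] _).toRingEquiv.toRingHom)).toMonoidHom

/-- The coordinatewise embedding. -/
def emb (F : Type v) [Field F] [Algebra K F] : (Fin D → K) →+ (Fin D → F) where
  toFun v i := algebraMap K F (v i)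
  map_zero' := funext fun _ => map_zero _
  map_add' _ _ := funext fun _ => map_add _ _ _

theorem bchg_emb (f : Module.End K (Fin D → K)) (v : Fin D → K) : bchg F f (emb F v) = emb F (f v) := by
  funext i
  have h : f v = (LinearMap.toMatrixAlgEquiv' f).mulVec v := by
    conv_lhs => rw [← Matrix.toLinAlgEquiv'_toMatrixAlgEquiv' f]
    rfl
  change ((algebraMap K F).mapMatrix (LinearMap.toMatrixAlgEquiv' f)).mulVec (emb F v) i = algebraMap K F (f v i)
  rw [h, RingHom.map_mulVec]
  rfl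

theorem emb_injective : Function.Injective (emb F : (Fin D → K) →+ (Fin D → F)) := fun a b h =>
  funext fun i => (algebraMap K F).injective (congrFun h i)

theorem emb_smul (c : K) (v : Fin D → K) : emb F (c • v) = algebraMap K F c • emb F v :=
  funext fun i => map_mul (algebraMap K F) c (v i)

theorem span_emb : Submodule.span F (Set.range (emb F : (Fin D → K) →+ (Fin D → F))) = ⊤ := by
  classical
  refine eq_top_iff.2 fun v _ => ?_
  rw [pi_eq_sum_univ v]
  refine Submodule.sum_mem _ fun i _ => Submodule.smul_mem _ _ (Submodule.subset_span ⟨fun j => if i = j then 1 else 0, ?_⟩)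
  funext j
  change algebraMap K F _ = _
  split <;> simp [*]

theorem bchg_injective : Function.Injective (bchg F : Module.End K (Fin D → K) →* Module.End F (Fin D → F)) := by
  intro f g h
  refine LinearMap.ext fun v => emb_injective (F := F) ?_
  rw [← bchg_emb, ← bchg_emb, h]

/-- An operator is determined on the rational points. -/
theorem ext_emb {f g : Module.End F (Fin D → F)} (h : ∀ v : Fin D → K, f (emb F v) = g (emb F v)) : f = g :=
  LinearMap.ext_on span_emb (by rintro _ ⟨v, rfl⟩; exact h v)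

/-- Independent rational vectors stay independent. -/
theorem emb_smul_mem {v w : Fin D → K} {c : F} (hv : v ≠ 0) (h : emb F w = c • emb F v) :
    ∃ a : K, w = a • v := by
  obtain ⟨i, hi⟩ := Function.ne_iff.1 hv
  refine ⟨w i / v i, emb_injective (F := F) ?_⟩
  rw [emb_smul, h]
  congr 1
  have h1 : algebraMap K F (w i) = c * algebraMap K F (v i) := congrFun h i
  rw [map_div₀, h1, mul_div_assoc, div_self, mul_one]
  exact fun h0 => hi ((algebraMap K F).injective (h0.trans (map_zero _).symm))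

end BaseChange

variable {Γ : Type u} [Group Γ]

/-- The coordinates of an elementary abelian section. -/
structure SectRep (X L : Subgroup Γ) (q : ℕ) [Fact q.Prime] where
  D : ℕ
  ι : Γ → (Fin D → ZMod q)
  π : Γ →* Module.End (ZMod q) (Fin D → ZMod q)
  add : ∀ x ∈ X, ∀ y ∈ X, ι (x * y) = ι x + ι y
  ker : ∀ x ∈ X, ι x = 0 ↔ x ∈ L
  surj : ∀ v, ∃ x ∈ X, ι x = v
  act : ∀ g, ∀ x ∈ X, π g (ι x) = ι (g * x * g⁻¹)

theorem exists_sectRep [Finite Γ] (X L : Subgroup Γ) [X.Normal] [L.Normal] {q : ℕ} [Fact q.Prime]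
    (hcom : ⁅X, X⁆ ≤ L) (hpow : ∀ x ∈ X, x ^ q ∈ L) : Nonempty (SectRep X L q) := by
  classical
  set τ := QuotientGroup.mk' L with hτ
  haveI : (X.map τ).Normal := Subgroup.Normal.map inferInstance _ (QuotientGroup.mk'_surjective L)
  haveI : IsMulCommutative (X.map τ) := ⟨⟨by
    rintro ⟨_, x, hx, rfl⟩ ⟨_, y, hy, rfl⟩
    refine Subtype.ext (commutatorElement_eq_one_iff_mul_comm.1 ?_)
    rw [← map_commutatorElement]
    exact (QuotientGroup.eq_one_iff _).2 (hcom (Subgroup.commutator_mem_commutator hx hy))⟩⟩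
  letI : CommGroup (X.map τ) := { mul_comm := mul_comm' }
  have hA : ∀ w : X.map τ, w ^ q = 1 := by
    rintro ⟨_, a, ha, rfl⟩
    refine Subtype.ext ?_
    rw [Subgroup.coe_pow, ← map_pow]
    exact (QuotientGroup.eq_one_iff _).2 (hpow a ha)
  haveI : Module (ZMod q) (Additive (X.map τ)) := AddCommGroup.zmodModule fun w => by
    apply Additive.toMul.injective
    rw [toMul_nsmul, hA]; rfl
  haveI : Finite (Additive (X.map τ)) := Finite.of_equiv (X.map τ) Additive.ofMul
  haveI : Module.Finite (ZMod q) (Additive (X.map τ)) := Module.Finite.of_finite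
  let b := Module.finBasis (ZMod q) (Additive (X.map τ))
  let c : Γ →* MulAut (X.map τ) := (MulAut.conjNormal (H := X.map τ)).comp τ
  let e : MulAut (X.map τ) →* Module.End (ZMod q) (Additive (X.map τ)) :=
    { toFun := fun f => (MonoidHom.toAdditive f.toMonoidHom).toZModLinearMap q
      map_one' := LinearMap.ext fun _ => rfl
      map_mul' := fun _ _ => LinearMap.ext fun _ => rfl }
  let E := b.equivFun
  let cl : Γ → Additive (X.map τ) := fun g =>
    if h : g ∈ X then Additive.ofMul ⟨τ g, Subgroup.mem_map_of_mem τ h⟩ else 0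
  have hcl : ∀ g (h : g ∈ X), cl g = Additive.ofMul ⟨τ g, Subgroup.mem_map_of_mem τ h⟩ := fun g h => dif_pos h
  refine ⟨{ D := _, ι := fun g => E (cl g), π := (E.conjRingEquiv).toMonoidHom.comp (e.comp c)
            add := ?_, ker := ?_, surj := ?_, act := ?_ }⟩
  · intro x hx y hy
    rw [← map_add, hcl x hx, hcl y hy, hcl _ (mul_mem hx hy), ← ofMul_mul]
    congr 2
  · intro x hx
    rw [LinearEquiv.map_eq_zero_iff, hcl x hx, ofMul_eq_zero, ← OneMemClass.coe_eq_one]
    exact QuotientGroup.eq_one_iff x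
  · intro v
    obtain ⟨⟨_, x, hx, rfl⟩, hxv⟩ := Additive.ofMul.surjective (E.symm v)
    refine ⟨x, hx, ?_⟩
    change E (cl x) = v
    rw [hcl x hx, ← LinearEquiv.eq_symm_apply]
    exact hxv
  · intro g x hx
    have hgx : g * x * g⁻¹ ∈ X := ‹X.Normal›.conj_mem x hx g
    change E ((e (c g)) (E.symm (E (cl x)))) = E (cl (g * x * g⁻¹))
    rw [LinearEquiv.symm_apply_apply, hcl x hx, hcl _ hgx]
    congr 1

namespace SectRep

variable {X L : Subgroup Γ} {q : ℕ} [Fact q.Prime] (S : SectRep X L q)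

theorem map_one : S.ι 1 = 0 := (S.ker 1 (one_mem X)).2 (one_mem L)

theorem map_inv {x : Γ} (hx : x ∈ X) : S.ι x⁻¹ = -S.ι x := by
  have h := S.add x⁻¹ (inv_mem hx) x hx
  rw [inv_mul_cancel, S.map_one] at h
  exact eq_neg_of_add_eq_zero_left h.symm

theorem map_pow {x : Γ} (hx : x ∈ X) : ∀ n : ℕ, S.ι (x ^ n) = n • S.ι x
  | 0 => by rw [pow_zero, zero_smul, S.map_one]
  | n + 1 => by rw [pow_succ, S.add _ (pow_mem hx n) x hx, map_pow hx n, succ_nsmul]

theorem eq_iff {x y : Γ} (hx : x ∈ X) (hy : y ∈ X) : S.ι x = S.ι y ↔ x⁻¹ * y ∈ L := by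
  rw [← S.ker _ (mul_mem (inv_mem hx) hy), S.add _ (inv_mem hx) y hy, S.map_inv hx, neg_add_eq_zero]

theorem act_sub [X.Normal] (g : Γ) {x : Γ} (hx : x ∈ X) : S.π g (S.ι x) - S.ι x = S.ι ⁅g, x⁆ := by
  rw [S.act g x hx, sub_eq_add_neg, ← S.map_inv hx, ← S.add _ (‹X.Normal›.conj_mem x hx g) _ (inv_mem hx),
    commutatorElement_def]

theorem fix_iff [X.Normal] (g : Γ) {x : Γ} (hx : x ∈ X) : S.π g (S.ι x) = S.ι x ↔ ⁅g, x⁆ ∈ L := by
  have hgx : ⁅g, x⁆ ∈ X := by
    rw [commutatorElement_def]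
    exact mul_mem (‹X.Normal›.conj_mem x hx g) (inv_mem hx)
  rw [← sub_eq_zero, S.act_sub g hx, S.ker _ hgx]

theorem pi_eq_one_iff [X.Normal] [L.Normal] (g : Γ) : S.π g = 1 ↔ g ∈ cgrp X L := by
  rw [mem_cgrp]
  refine ⟨fun h x hx => (S.fix_iff g hx).1 (by rw [h]; rfl), fun h => LinearMap.ext fun v => ?_⟩
  obtain ⟨x, hx, rfl⟩ := S.surj v
  exact (S.fix_iff g hx).2 (h x hx)

/-- Fixed vectors lift to fixed elements. -/
theorem exists_fixed_lift [Finite Γ] [X.Normal] [L.Normal] (hLX : L ≤ X) {g : Γ} {p n : ℕ} (hp : p.Prime)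
    (hg : g ^ p ^ n = 1) (hcop : ¬ p ∣ Nat.card L) {v : Fin S.D → ZMod q} (hv : S.π g v = v) :
    ∃ x ∈ X, Commute g x ∧ S.ι x = v := by
  haveI := Fact.mk hp
  obtain ⟨x, hx, rfl⟩ := S.surj v
  have h1 : ⁅g, x⁆ ∈ L := (S.fix_iff g hx).1 hv
  have h2 : x⁻¹ * g * x * g⁻¹ ∈ L := by
    have h3 := ‹L.Normal›.conj_mem _ h1 x⁻¹
    rw [commutatorElement_def, inv_inv] at h3
    have e : x⁻¹ * (g * x * g⁻¹ * x⁻¹) * x = x⁻¹ * g * x * g⁻¹ := by group
    rwa [e] at h3
  obtain ⟨u, hu, huc⟩ := exists_fixed_coset L hg hcop (fun u hu => ‹L.Normal›.conj_mem u hu g) h2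
  exact ⟨x * u, mul_mem hx (hLX hu), huc, by rw [S.add _ hx _ (hLX hu), (S.ker u (hLX hu)).2 hu, add_zero]⟩

end SectRep

end Cfsg.Lib.FitHeight
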