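import Cfsg.Agent.FitHeight.Pieces
import Cfsg.Agent.FitHeight.SectRep

/-!
An acting group on a class-two section.
-/

set_option autoImplicit false
set_option linter.unusedSectionVars false
set_option linter.style.haveILetI false
set_option linter.unusedVariables false

namespace Cfsg.Lib.FitHeight

open scoped commutatorElement
open Module

universe u v w

variable {F : Type u} [Field F] {V : Type v} [AddCommGroup V] [Module F V] {H : Type w} [Group H] [Finite H]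
  {ρ : H →* Module.End F V} {X Z : Subgroup H} {s : H} {r q : ℕ}

/-- A group of prime power order acting on a section. -/
structure Acting (X Z : Subgroup H) (s : H) (r q : ℕ) (T : Subgroup H) (qT : ℕ) : Prop where
  hp : qT.Prime
  pT : IsPGroup qT T
  hTr : qT ≠ r
  hTq : qT ≠ q
  cenZ : ∀ t ∈ T, ∀ z ∈ Z, Commute t z
  sT : ∀ t ∈ T, s * t * s⁻¹ ∈ T
  gen : ∀ U : Subgroup H, (∀ l ∈ T, l⁻¹ * s * l * s⁻¹ ∈ U) → T ≤ U
  fixC : ∀ c ∈ T, Commute s c → ∀ t ∈ T, ∀ x ∈ X, ⁅⁅c, t⁆, x⁆ ∈ Z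
  cls2 : ∀ a ∈ T, ∀ b ∈ T, ∀ t ∈ T, ∀ x ∈ X, ⁅⁅⁅a, b⁆, t⁆, x⁆ ∈ Z

namespace Acting

variable {T : Subgroup H} {qT : ℕ} (a : Acting X Z s r q T qT)
include a

theorem card_cop_q (hq : q.Prime) : ¬ q ∣ Nat.card T := by
  haveI := Fact.mk a.hp
  obtain ⟨m, hm⟩ := IsPGroup.iff_card.1 a.pT
  rw [hm]
  exact fun hd => a.hTq ((Nat.prime_dvd_prime_iff_eq hq a.hp).1 (hq.dvd_of_dvd_pow hd)).symm

theorem not_dvd_card (hr : r.Prime) : ¬ r ∣ Nat.card T := by
  haveI := Fact.mk a.hp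
  obtain ⟨m, hm⟩ := IsPGroup.iff_card.1 a.pT
  rw [hm]
  exact fun hd => a.hTr ((Nat.prime_dvd_prime_iff_eq hr a.hp).1 (hr.dvd_of_dvd_pow hd)).symm

theorem card_cast (hq : q.Prime) [Fact q.Prime] : ((Nat.card T : ℕ) : ZMod q) ≠ 0 := by
  rw [ne_eq, ZMod.natCast_eq_zero_iff]
  exact a.card_cop_q hq

end Acting

/-- The moved elements of a section lie in the kernel of the average. -/
theorem SectRep.tSum_moved {Δ : Type w} [Group Δ] [Finite Δ] {X L : Subgroup Δ} [X.Normal] [L.Normal] {q : ℕ} [Fact q.Prime]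
    (S : SectRep X L q) (T : Subgroup Δ) (hLX : L ≤ X) {x : Δ} (hx : x ∈ ⁅X, T⁆ ⊔ L) :
    x ∈ X ∧ tSum S.π T (S.ι x) = 0 := by
  let K : Subgroup Δ :=
    { carrier := {x | x ∈ X ∧ tSum S.π T (S.ι x) = 0}
      one_mem' := ⟨one_mem X, by rw [S.map_one, map_zero]⟩
      mul_mem' := fun {a b} ha hb => ⟨mul_mem ha.1 hb.1, by rw [S.add a ha.1 b hb.1, map_add, ha.2, hb.2, add_zero]⟩
      inv_mem' := fun {a} ha => ⟨inv_mem ha.1, by rw [S.map_inv ha.1, map_neg, ha.2, neg_zero]⟩ }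
  refine (sup_le ?_ ?_ : ⁅X, T⁆ ⊔ L ≤ K) hx
  · refine Subgroup.commutator_le.2 fun y hy t ht => ?_
    have h1 : ⁅t, y⁆ ∈ K := ⟨by
      rw [commutatorElement_def]
      exact mul_mem (‹X.Normal›.conj_mem y hy t) (inv_mem hy), by
      rw [← S.act_sub t hy, map_sub, tSum_rho_right S.π ht, sub_self]⟩
    have := inv_mem h1
    rwa [commutatorElement_inv] at this
  · exact fun l hl => ⟨hLX hl, by rw [(S.ker l (hLX hl)).2 hl, map_zero]⟩

end Cfsg.Lib.FitHeight
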