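import Cfsg.Agent.FitHeight.Constituent

/-!
Eigenspaces of the centre, the radical of a weight, and orbits of moved weights.
-/

set_option autoImplicit false
set_option linter.unusedSectionVars false
set_option linter.style.haveILetI false
set_option linter.unusedVariables false

namespace Cfsg.Lib.FitHeight

open scoped commutatorElement
open Module

universe u v w

variable {F : Type u} [Field F] {V : Type v} [AddCommGroup V] [Module F V] {H : Type w} [Group H] [Finite H]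
  (ρ : H →* Module.End F V)

/-- A group element of order prime to the characteristic that is trivial on both factors is trivial. -/
theorem fix_of_two_steps {u : H} (hu : ((orderOf u : ℕ) : F) ≠ 0) {v b : V} (hv : ρ u v = v + b)
    (hb : ρ u b = b) : b = 0 := by
  have h1 : ∀ n : ℕ, ρ (u ^ n) v = v + (n : F) • b := by
    intro n
    induction n with
    | zero => simp
    | succ n ih =>
      rw [pow_succ', ← rho_rho, ih, map_add, map_smul, hv, hb, Nat.cast_succ, add_smul, one_smul]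
      abel
  have h2 := h1 (orderOf u)
  rw [pow_orderOf_eq_one, map_one, Module.End.one_apply, left_eq_add] at h2
  exact (smul_eq_zero.1 h2).resolve_left hu

/-- A fixed-point-free abelian group: elements trivial on the fixed vectors are trivial on the moved part. -/
theorem eq_on_ker_tSum [FiniteDimensional F V] {r : ℕ} (A : Subgroup H) {s g : H} (hr : r.Prime)
    (hs : s ^ r = 1) (hsA : ∀ t ∈ A, s * t * s⁻¹ ∈ A) (hfpf : ∀ t ∈ A, Commute s t → t = 1)
    (hcomm : ∀ a ∈ A, ∀ b ∈ A, Commute a b) (hAF : ((Nat.card A : ℕ) : F) ≠ 0) (hrA : ¬ r ∣ Nat.card A)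
    (hg : Commute g s) (hgA : ∀ t ∈ A, g * t * g⁻¹ ∈ A) (hgr : ¬ r ∣ orderOf g)
    (hfix : ∀ v, tSum ρ A v = 0 → ρ s v = v → ρ g v = v) : ∀ v, tSum ρ A v = 0 → ρ g v = v := by
  classical
  haveI := Fact.mk hr
  set U := LinearMap.ker (tSum ρ A) with hU
  have hmem : ∀ g : H, (∀ t ∈ A, g * t * g⁻¹ ∈ A) → g ∈ stab ρ U := fun g hgA => mem_stab_of_forall ρ fun x hx => by
    rw [hU, LinearMap.mem_ker, tSum_conj ρ hgA, LinearMap.mem_ker.1 hx, map_zero]
  have hAU : A ≤ stab ρ U := fun a ha => hmem a fun t ht => mul_mem (mul_mem ha ht) (inv_mem ha)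
  haveI := Fintype.ofFinite (A.subgroupOf (stab ρ U))
  haveI := Fintype.ofFinite A
  have hcard : Nat.card (A.subgroupOf (stab ρ U)) = Nat.card A :=
    Nat.card_congr (Subgroup.subgroupOfEquivOfLe hAU).toEquiv
  have key := eq_one_of_fixes' (subRep ρ U) (A.subgroupOf (stab ρ U)) (s := ⟨s, hmem s hsA⟩) (d := ⟨g, hmem g hgA⟩)
    hr (Subtype.ext hs) (fun t ht => hsA _ ht) (fun t ht htc => ?_) (fun a ha b hb => ?_) ?_ ?_
    (Subtype.ext hg.eq) (fun t ht => hgA _ ht) (by rwa [Subgroup.orderOf_mk])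
    (fun v hv => Subtype.ext (hfix v (LinearMap.mem_ker.1 v.2) (congrArg Subtype.val hv)))
  · exact fun v hv => congrArg Subtype.val (LinearMap.congr_fun key ⟨v, LinearMap.mem_ker.2 hv⟩)
  · let K : Subgroup (stab ρ U) := A.subgroupOf (stab ρ U) ⊓ (subRep ρ U).toHomUnits.ker
    have hKmem : ∀ x, x ∈ K ↔ (x : H) ∈ A ∧ subRep ρ U x = 1 := fun x => by
      rw [Subgroup.mem_inf, Subgroup.mem_subgroupOf, MonoidHom.mem_ker, Units.ext_iff]
      rfl
    have h1 : t⁻¹ * ⟨s, hmem s hsA⟩ * t * (⟨s, hmem s hsA⟩ : stab ρ U)⁻¹ ∈ K := by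
      refine (hKmem _).2 ⟨?_, ?_⟩
      · change (t : H)⁻¹ * s * t * s⁻¹ ∈ A
        rw [mul_assoc, mul_assoc, ← mul_assoc s]
        exact mul_mem (inv_mem ht) (hsA _ ht)
      · rw [mul_assoc (t⁻¹), map_mul, map_mul _ t⁻¹, htc, map_mul _ t, ← mul_assoc, ← map_mul, inv_mul_cancel, map_one,
          one_mul, ← map_mul, mul_inv_cancel, map_one]
    obtain ⟨u, hu, huc⟩ := exists_fixed_coset K (g := ⟨s, hmem s hsA⟩) (p := r) (n := 1)
      (Subtype.ext (by simpa using hs))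
      (fun hd => hrA (hd.trans ((Subgroup.card_dvd_of_le inf_le_left).trans (dvd_of_eq hcard))))
      (fun u hu => by
        obtain ⟨hu1, hu2⟩ := (hKmem u).1 hu
        refine (hKmem _).2 ⟨hsA _ hu1, ?_⟩
        rw [map_mul, map_mul, hu2, mul_one, ← map_mul, mul_inv_cancel, map_one]) h1
    have h2 : t * u = 1 := Subtype.ext (hfpf _ (mul_mem (show (t : H) ∈ A from ht) ((hKmem u).1 hu).1)
      (congrArg Subtype.val huc.eq))
    rw [eq_inv_of_mul_eq_one_left h2]
    exact ((hKmem _).1 (inv_mem hu)).2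
  · congr 1
    exact Subtype.ext (hcomm _ ha _ hb).eq
  · rw [← Nat.card_eq_fintype_card, hcard]
    exact hAF
  · intro v
    refine Subtype.ext ?_
    rw [Submodule.coe_sum, Submodule.coe_zero]
    have h1 := LinearMap.mem_ker.1 v.2
    rw [tSum_apply] at h1
    exact (Fintype.sum_equiv (Subgroup.subgroupOfEquivOfLe hAU).toEquiv _ _ fun t => rfl).trans h1

/-- The orbit sum of a moved weight vector. -/
theorem orbSum_weight {r : ℕ} (hr : r.Prime) {s : H} (hs : s ^ r = 1) (A : Subgroup H)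
    (hsA : ∀ a ∈ A, s * a * s⁻¹ ∈ A) (χ : H → F) {v : V} (hv0 : v ≠ 0)
    (hv : ∀ a ∈ A, ρ a v = χ a • v) (hmov : ∃ a ∈ A, χ (s * a * s⁻¹) ≠ χ a) :
    orbSum ρ s r v ≠ 0 ∧ (∀ e ∈ A, Commute s e → ρ e (orbSum ρ s r v) = χ e • orbSum ρ s r v) ∧
      ∀ B : Subgroup H, (∀ b ∈ B, s * b * s⁻¹ ∈ B) → (∃ b ∈ A, b ∈ B ∧ χ b ≠ 1) →
        tSum ρ B (orbSum ρ s r v) = 0 := by
  classical
  have hpow : ∀ (S : Subgroup H), (∀ a ∈ S, s * a * s⁻¹ ∈ S) → ∀ (i : ℕ), ∀ a ∈ S, s ^ i * a * (s ^ i)⁻¹ ∈ S := by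
    intro S hS i
    induction i with
    | zero => simp
    | succ i ih =>
      intro a ha
      rw [pow_succ', show s * s ^ i * a * (s * s ^ i)⁻¹ = s * (s ^ i * a * (s ^ i)⁻¹) * s⁻¹ by group]
      exact hS _ (ih a ha)
  have hinv : ∀ i : ℕ, (s ^ i)⁻¹ = s ^ (i * (r - 1)) := fun i => (eq_inv_of_mul_eq_one_left (by
    rw [← pow_add, show i * (r - 1) + i = r * i by
      have := hr.pos
      rw [Nat.mul_sub_one, Nat.sub_add_cancel (Nat.le_mul_of_pos_right i this), mul_comm], pow_mul, hs, one_pow])).symm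
  have heig : ∀ i : ℕ, ∀ a ∈ A, ρ a (ρ (s ^ i) v) = χ ((s ^ i)⁻¹ * a * s ^ i) • ρ (s ^ i) v := by
    intro i a ha
    have hmem : (s ^ i)⁻¹ * a * s ^ i ∈ A := by
      have := hpow A hsA (i * (r - 1)) a ha
      rw [← hinv, inv_inv] at this
      exact this
    rw [← map_smul, ← hv _ hmem, rho_rho, rho_rho]
    congr 2; group
  have hdist : ∀ i ∈ Finset.range r, i ≠ 0 → ∃ a ∈ A, χ ((s ^ i)⁻¹ * a * s ^ i) ≠ χ a := by
    intro i hi hi0
    by_contra hc
    push Not at hc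
    have hk : ∀ k : ℕ, ∀ a ∈ A, χ ((s ^ (i * k))⁻¹ * a * s ^ (i * k)) = χ a := by
      intro k
      induction k with
      | zero => simp
      | succ k ih =>
        intro a ha
        have hmem : (s ^ (i * k))⁻¹ * a * s ^ (i * k) ∈ A := by
          have := hpow A hsA (i * k * (r - 1)) a ha
          rw [← hinv, inv_inv] at this
          exact this
        rw [← ih a ha, ← hc _ hmem, Nat.mul_succ, pow_add]
        congr 1; group
    obtain ⟨k, hk'⟩ := exists_pow_eq_self_of_coprime (x := s) (n := i)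
      (((hr.coprime_iff_not_dvd.2 (not_dvd_of_range hr hi hi0)).symm).coprime_dvd_right (orderOf_dvd_of_pow_eq_one hs))
    rw [← pow_mul] at hk'
    obtain ⟨a, ha, han⟩ := hmov
    refine han ?_
    have h1 := hk k _ (hsA a ha)
    rw [hk', show s⁻¹ * (s * a * s⁻¹) * s = a by group] at h1
    exact h1.symm
  refine ⟨?_, fun e he hse => ?_, fun B hB hb => ?_⟩
  · intro h0
    have key : ∀ S : Finset ℕ, S ⊆ (Finset.range r).erase 0 → ∃ f : Module.End F V, ∃ c : F, c ≠ 0 ∧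
        f v = c • v ∧ (∀ i, ∃ c' : F, f (ρ (s ^ i) v) = c' • ρ (s ^ i) v) ∧ ∀ i ∈ S, f (ρ (s ^ i) v) = 0 := by
      intro S
      induction S using Finset.induction with
      | empty => exact fun _ => ⟨1, 1, one_ne_zero, by simp, fun i => ⟨1, by simp⟩, by simp⟩
      | insert j S hj ih =>
        intro hS
        obtain ⟨f, c, hc, hfv, hfe, hfS⟩ := ih ((Finset.subset_insert _ _).trans hS)
        obtain ⟨hj0, hjr⟩ := Finset.mem_erase.1 (hS (Finset.mem_insert_self j S))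
        obtain ⟨a, ha, han⟩ := hdist j hjr hj0
        set k := χ ((s ^ j)⁻¹ * a * s ^ j) with hk
        refine ⟨(ρ a - k • (1 : Module.End F V)) * f, (χ a - k) * c, mul_ne_zero (sub_ne_zero.2 han.symm) hc, ?_,
          fun i => ?_, fun i hi => ?_⟩
        · rw [Module.End.mul_apply, hfv, map_smul, LinearMap.sub_apply, LinearMap.smul_apply, Module.End.one_apply,
            hv a ha, ← sub_smul, smul_smul, mul_comm]
        · obtain ⟨c', hc'⟩ := hfe i
          refine ⟨(χ ((s ^ i)⁻¹ * a * s ^ i) - k) * c', ?_⟩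
          rw [Module.End.mul_apply, hc', map_smul, LinearMap.sub_apply, LinearMap.smul_apply, Module.End.one_apply,
            heig i a ha, ← sub_smul, smul_smul, mul_comm]
        · rcases Finset.mem_insert.1 hi with rfl | hi
          · obtain ⟨c', hc'⟩ := hfe i
            rw [Module.End.mul_apply, hc', map_smul, LinearMap.sub_apply, LinearMap.smul_apply, Module.End.one_apply,
              heig i a ha, ← hk, sub_self, smul_zero]
          · rw [Module.End.mul_apply, hfS i hi, map_zero]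
    obtain ⟨f, c, hc, hfv, -, hf0⟩ := key _ subset_rfl
    have h1 := congrArg f h0
    rw [map_zero, orbSum_apply, map_sum, Finset.sum_eq_single 0 (fun i hi hi0 => hf0 i (Finset.mem_erase.2 ⟨hi0, hi⟩))
      (fun hn => absurd (Finset.mem_range.2 hr.pos) hn), pow_zero, map_one, Module.End.one_apply, hfv] at h1
    exact hv0 ((smul_eq_zero.1 h1).resolve_left hc)
  · rw [orbSum_apply, map_sum, Finset.smul_sum]
    refine Finset.sum_congr rfl fun i _ => ?_
    rw [heig i e he, mul_assoc, ← (hse.pow_left i).eq, inv_mul_cancel_left]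
  · obtain ⟨b, hbA, hbB, hb1⟩ := hb
    rw [orbSum_apply, map_sum]
    refine Finset.sum_eq_zero fun i _ => ?_
    refine tSum_eq_zero_of_eigen ρ (hpow B hB i b hbB) hb1 ?_
    rw [heig i _ (hpow A hsA i b hbA)]
    congr 2; group

/-- The eigenspace of a weight of `Z`. -/
def piece (Z : Subgroup H) (χ : Z →* Fˣ) : Submodule F V :=
  ⨅ z : Z, LinearMap.ker (ρ (z : H) - (χ z : F) • (1 : Module.End F V))

theorem mem_piece {Z : Subgroup H} {χ : Z →* Fˣ} {v : V} :
    v ∈ piece ρ Z χ ↔ ∀ z : Z, ρ (z : H) v = (χ z : F) • v := by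
  simp [piece, sub_eq_zero]

/-- An element moving each element of `Z` within its weight keeps the weight space. -/
theorem piece_invariant {Z : Subgroup H} {χ : Z →* Fˣ} {g : H}
    (hg : ∀ z : Z, ∀ v ∈ piece ρ Z χ, ρ (g⁻¹ * z * g) v = (χ z : F) • v) :
    ∀ v ∈ piece ρ Z χ, ρ g v ∈ piece ρ Z χ := by
  intro v hv
  rw [mem_piece]
  intro z
  rw [← map_smul, ← hg z v hv, rho_rho, rho_rho]
  congr 2; group

variable {ρ} {X Z : Subgroup H} {s : H} {r q : ℕ}

namespace Frame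

variable (h : Frame ρ X Z s r q)
include h

theorem piece_invariant_X (χ : Z →* Fˣ) {t : H} (ht : t ∈ X) :
    ∀ v ∈ piece ρ Z χ, ρ t v ∈ piece ρ Z χ :=
  piece_invariant ρ fun z v hv => by
    rw [mul_assoc, (h.cen z z.2 t ht).eq, inv_mul_cancel_left, (mem_piece ρ).1 hv z]

theorem piece_invariant_cen (χ : Z →* Fˣ) {d : H} (hd : ∀ z ∈ Z, Commute d z) :
    ∀ v ∈ piece ρ Z χ, ρ d v ∈ piece ρ Z χ :=
  piece_invariant ρ fun z v hv => by
    rw [mul_assoc, ← (hd z z.2).eq, inv_mul_cancel_left, (mem_piece ρ).1 hv z]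

theorem scalar_on_piece (χ : Z →* Fˣ) {U : Submodule F V} (hU : U ≤ piece ρ Z χ) :
    ∀ z ∈ Z, ∃ c : F, ∀ v ∈ U, ρ z v = c • v :=
  fun z hz => ⟨(χ ⟨z, hz⟩ : F), fun v hv => (mem_piece ρ).1 (hU hv) ⟨z, hz⟩⟩

theorem Z_char_vec [IsAlgClosed F] [FiniteDimensional F V] {z : H} (hz : z ∈ Z) {U : Submodule F V}
    (hinv : ∀ a ∈ Z, ∀ x ∈ U, ρ a x ∈ U) {x : V} (hx : x ∈ U) (hzx : ρ z x ≠ x) :
    ∃ (v : V) (χ : Z →* Fˣ), v ∈ U ∧ v ≠ 0 ∧ χ ⟨z, hz⟩ ≠ 1 ∧ v ∈ piece ρ Z χ := by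
  obtain ⟨v, χ, hv, hv0, hχ, he⟩ := exists_char_vec_ne ρ Z (fun a ha b hb => congrArg ρ (h.comm_Z ha hb).eq)
    (h.card_cast h.hZX) U hinv ⟨z, hz⟩ hx hzx
  exact ⟨v, χ, hv, hv0, hχ, (mem_piece ρ).2 he⟩

/-- The radical on a scalar piece as a subgroup. -/
def radGroup (U : Submodule F V) : Subgroup H where
  carrier := {t | t ∈ X ∧ Rad ρ ⁅X, Subgroup.zpowers s⁆ U t}
  one_mem' := ⟨one_mem X, fun a ha v hv => by simp⟩
  mul_mem' := fun {a b} ha hb => ⟨mul_mem ha.1 hb.1, fun c hc v hv => by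
    have hz : ⁅b, c⁆ ∈ Z := h.com (Subgroup.commutator_mem_commutator hb.1 (h.mv_le hc))
    rw [show ⁅a * b, c⁆ = a * ⁅b, c⁆ * a⁻¹ * ⁅a, c⁆ by simp only [commutatorElement_def]; group,
      ← (h.cen _ hz a ha.1).eq, mul_inv_cancel_right, ← rho_rho, ha.2 c hc v hv, hb.2 c hc v hv]⟩
  inv_mem' := fun {a} ha => ⟨inv_mem ha.1, fun c hc v hv => by
    have hz : ⁅a, c⁆⁻¹ ∈ Z := inv_mem (h.com (Subgroup.commutator_mem_commutator ha.1 (h.mv_le hc)))
    rw [show ⁅a⁻¹, c⁆ = a⁻¹ * ⁅a, c⁆⁻¹ * a by simp only [commutatorElement_def]; group, mul_assoc,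
      (h.cen _ hz a ha.1).eq, inv_mul_cancel_left]
    conv_lhs => rw [← ha.2 c hc v hv]
    rw [rho_inv_apply]⟩

theorem Z_le_radGroup (U : Submodule F V) : Z ≤ h.radGroup U := fun z hz => ⟨h.hZX hz, fun a ha v hv => by
  rw [commutatorElement_eq_one_iff_mul_comm.2 (h.cen z hz a (h.mv_le ha)).eq, map_one, Module.End.one_apply]⟩

theorem radGroup_le (U : Submodule F V) : h.radGroup U ≤ X := fun t ht => ht.1

theorem comm_le_radGroup (U : Submodule F V) : ⁅X, X⁆ ≤ h.radGroup U := h.com.trans (h.Z_le_radGroup U)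

end Frame

end Cfsg.Lib.FitHeight
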