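import Cfsg.Agent.FitHeight.Levels
import Cfsg.Agent.FitHeight.Pieces
import Cfsg.Agent.FitHeight.SectRep
import Cfsg.Agent.FitHeight.Acting

/-!
The linear group of a level of a tower on the next level.
-/

set_option autoImplicit false
set_option linter.unusedSectionVars false
set_option linter.style.haveILetI false
set_option linter.unusedVariables false

namespace Cfsg.Lib.FitHeight

open scoped commutatorElement

universe u v

variable {Γ : Type u} [Group Γ] [Finite Γ] {G : Subgroup Γ} {n : ℕ} {s : Γ} {r : ℕ}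

/-- An element seen on the fixed moved vectors of the next level. -/
def Tower.Seen (T : Tower G n) (s : Γ) (j : ℕ) (d : Γ) : Prop :=
  ∃ w ∈ cfix G s, w ∈ ⁅T.X (j + 1), ⁅T.X j, Subgroup.zpowers s⁆⁆ ⊔ T.L (j + 1) ∧ ⁅w, d⁆ ∉ T.L (j + 1)

/-- The representation on a section over an algebraically closed field. -/
noncomputable def bcRep {X L : Subgroup Γ} {q : ℕ} [Fact q.Prime] (S : SectRep X L q) :
    Γ →* Module.End (AlgebraicClosure (ZMod q)) (Fin S.D → AlgebraicClosure (ZMod q)) :=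
  (bchg (AlgebraicClosure (ZMod q))).comp S.π

theorem bcRep_emb {X L : Subgroup Γ} {q : ℕ} [Fact q.Prime] (S : SectRep X L q) (g : Γ) (v : Fin S.D → ZMod q) :
    bcRep S g (emb (AlgebraicClosure (ZMod q)) v) = emb (AlgebraicClosure (ZMod q)) (S.π g v) :=
  bchg_emb _ _

theorem orbSum_emb {X L : Subgroup Γ} {q : ℕ} [Fact q.Prime] (S : SectRep X L q) (g : Γ) (N : ℕ)
    (v : Fin S.D → ZMod q) :
    orbSum (bcRep S) g N (emb (AlgebraicClosure (ZMod q)) v) = emb (AlgebraicClosure (ZMod q)) (orbSum S.π g N v) := by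
  rw [orbSum_apply, orbSum_apply, map_sum]
  exact Finset.sum_congr rfl fun i _ => bcRep_emb S _ _

theorem sect_ext {X L : Subgroup Γ} {q : ℕ} [Fact q.Prime] (S : SectRep X L q)
    {f g : Module.End (AlgebraicClosure (ZMod q)) (Fin S.D → AlgebraicClosure (ZMod q))}
    (h : ∀ x ∈ X, f (emb _ (S.ι x)) = g (emb _ (S.ι x))) : f = g :=
  ext_emb fun v => by
    obtain ⟨x, hx, rfl⟩ := S.surj v
    exact h x hx

theorem Tower.prime_dvd (T : Tower G n) {i : ℕ} (hi : i ≤ n) : T.q i ∣ Nat.card G := by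
  haveI := Fact.mk (T.prime i hi)
  haveI := T.nK
  obtain ⟨x, hx, hxL⟩ := SetLike.not_le_iff_exists.1 (T.hne i hi)
  obtain ⟨u, hu, ⟨m, hm⟩, huc⟩ := exists_qpart (T.K i) x (T.prime i hi) (T.pgrp i hi x hx)
  have hu1 : u ≠ 1 := fun e => hxL (by
    rw [e, mul_one] at huc
    simpa using inv_mem (T.hKL i hi huc))
  obtain ⟨k, -, hk⟩ := (Nat.dvd_prime_pow (T.prime i hi)).1 (orderOf_dvd_of_pow_eq_one hm)
  have hk0 : k ≠ 0 := fun e => hu1 (orderOf_eq_one_iff.1 (by rw [hk, e, pow_zero]))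
  exact ((dvd_pow_self _ hk0).trans (dvd_of_eq hk.symm)).trans
    (Subgroup.orderOf_dvd_natCard G ((Subgroup.zpowers_le.2 (R_le i G (T.hXR i hi hx))) hu))

theorem Tower.q_ne (T : Tower G n) (hS : Setting G s r n) {i : ℕ} (hi : i ≤ n) : T.q i ≠ r :=
  fun e => hS.hcop (e ▸ T.prime_dvd hi)

theorem Tower.le_G (T : Tower G n) {i : ℕ} (hi : i ≤ n) : T.X i ≤ G := (T.hXR i hi).trans (R_le i G)

theorem Tower.not_dvd_orderOf (hS : Setting G s r n) {g : Γ} (hg : g ∈ G) : ¬ r ∣ orderOf g :=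
  fun h => hS.hcop (h.trans (Subgroup.orderOf_dvd_natCard G hg))

/-- Every element of the next level is a commutator with the level, up to the top. -/
theorem Tower.le_comm_next (T : Tower G n) {j : ℕ} (hj : j < n) :
    T.X (j + 1) ≤ ⁅T.X (j + 1), T.X j⁆ ⊔ T.L (j + 1) := by
  haveI := T.nX
  haveI := T.nL
  rcases T.irr (j + 1) hj (⁅T.X (j + 1), T.X j⁆ ⊔ T.L (j + 1)) inferInstance le_sup_right
    (sup_le (Subgroup.commutator_le_left _ _) (T.hLX _ hj)) with hY | hY
  · exfalso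
    refine T.hne j hj.le (le_trans ?_ (T.hKL j hj.le))
    rw [T.kdef j hj]
    exact le_inf le_rfl fun y hy => mem_cgrp.2 fun x hx => comm_symm_mem
      (hY.le (Subgroup.mem_sup_left (Subgroup.commutator_mem_commutator hx hy)))
  · exact hY.ge

theorem Tower.mem_K (T : Tower G n) {j : ℕ} (hj : j < n) {a : Γ} (ha : a ∈ T.X j) :
    a ∈ T.K j ↔ a ∈ cgrp (h := T.nL (j + 1)) (T.X (j + 1)) (T.L (j + 1)) := by
  rw [T.kdef j hj, Subgroup.mem_inf, and_iff_right ha]

/-- The kernel of a level may be dropped from a commutator with the next level. -/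
theorem Tower.comm_absorb (T : Tower G n) {j : ℕ} (hj : j < n) {A B : Subgroup Γ} (hAB : A ≤ B ⊔ T.K j) :
    ⁅T.X (j + 1), A⁆ ⊔ T.L (j + 1) ≤ ⁅T.X (j + 1), B⁆ ⊔ T.L (j + 1) := by
  haveI := T.nX
  haveI := T.nL
  haveI := T.nK
  refine sup_le (Subgroup.commutator_le.2 fun x hx a ha => ?_) le_sup_right
  obtain ⟨b, hb, k, hk, rfl⟩ := Subgroup.mem_sup_of_normal_right.1 (hAB ha)
  rw [show ⁅x, b * k⁆ = ⁅x, b⁆ * (b * ⁅x, k⁆ * b⁻¹) by simp only [commutatorElement_def]; group]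
  refine Subgroup.mul_mem_sup (Subgroup.commutator_mem_commutator hx hb) ((T.nL (j + 1)).conj_mem _ ?_ b)
  rw [T.kdef j hj] at hk
  exact comm_symm_mem (mem_cgrp.1 hk.2 x hx)

namespace Tower

variable (T : Tower G n) {j : ℕ} [Fact (T.q (j + 1)).Prime] (S : SectRep (T.X (j + 1)) (T.L (j + 1)) (T.q (j + 1)))

theorem img_eq_one [G.Normal] (a : Γ) :
    img (bcRep S) a = 1 ↔ a ∈ cgrp (h := T.nL (j + 1)) (T.X (j + 1)) (T.L (j + 1)) := by
  haveI := T.nX
  haveI := T.nL
  rw [← S.pi_eq_one_iff, show (1 : (bcRep S).toHomUnits.range) = img (bcRep S) 1 from (map_one _).symm, img_eq_iff]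
  change bchg _ (S.π a) = bchg _ (S.π 1) ↔ _
  rw [map_one S.π, bchg_injective.eq_iff]

theorem img_K [G.Normal] (hj : j < n) {a : Γ} (ha : a ∈ T.K j) : img (bcRep S) a = 1 :=
  (T.img_eq_one S a).2 (by rw [T.kdef j hj] at ha; exact ha.2)

theorem commute_img [G.Normal] (hj : j < n) {a b : Γ} (h : ⁅a, b⁆ ∈ T.K j) :
    Commute (img (bcRep S) a) (img (bcRep S) b) := by
  rw [← commutatorElement_eq_one_iff_commute, ← map_commutatorElement]
  exact T.img_K S hj h

theorem img_mem_Z [G.Normal] (hj : j < n) {a : Γ} (ha : a ∈ T.X j) :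
    img (bcRep S) a ∈ (T.L j).map (img (bcRep S)) ↔ a ∈ T.L j := by
  refine ⟨?_, fun h => Subgroup.mem_map_of_mem _ h⟩
  rintro ⟨l, hl, hla⟩
  have h1 : img (bcRep S) (l⁻¹ * a) = 1 := by rw [map_mul, map_inv, hla, inv_mul_cancel]
  have h2 := T.hKL j hj.le ((T.mem_K hj (mul_mem (inv_mem (T.hLX j hj.le hl)) ha)).2 ((T.img_eq_one S _).1 h1))
  have := mul_mem hl h2
  rwa [mul_inv_cancel_left] at this

set_option maxHeartbeats 1000000 in
theorem frame [G.Normal] (hS : Setting G s r n) (hj : j < n) :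
    Frame (imgRep (bcRep S)) ((T.X j).map (img (bcRep S))) ((T.L j).map (img (bcRep S)))
      (img (bcRep S) s) r (T.q j) := by
  classical
  haveI := T.nX
  haveI := T.nL
  haveI := Fact.mk (T.prime j hj.le)
  set φ := img (bcRep S) with hφ
  set q' := T.q (j + 1)
  have hsurj : Function.Surjective φ := MonoidHom.rangeRestrict_surjective _
  have hcast : ∀ p : ℕ, p.Prime → p ≠ q' → (p : AlgebraicClosure (ZMod q')) ≠ 0 := fun p hp hne h0 =>
    hne ((Nat.prime_dvd_prime_iff_eq (T.prime (j + 1) hj) hp).1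
      ((CharP.cast_eq_zero_iff (AlgebraicClosure (ZMod q')) q' p).1 h0)).symm
  have hp : IsPGroup (T.q j) ((T.X j).map φ) := by
    rintro ⟨_, x, hx, rfl⟩
    obtain ⟨m, hm⟩ := T.pgrp j hj.le x hx
    exact ⟨m, Subtype.ext (by rw [Subgroup.coe_pow, ← map_pow]; exact T.img_K S hj hm)⟩
  refine ⟨imgRep_injective _, hS.hr, by rw [← map_pow, hS.hs, map_one], hcast r hS.hr fun e => T.q_ne hS hj e.symm,
    T.prime j hj.le, hcast _ (T.prime j hj.le) (T.ne j hj), T.q_ne hS hj.le,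
    Subgroup.Normal.map (T.nX j) _ hsurj, Subgroup.Normal.map (T.nL j) _ hsurj, hp,
    Subgroup.map_mono (T.hLX j hj.le), ?_, ?_, ?_, ?_, fun v hv => ?_⟩
  · rw [← Subgroup.map_commutator]
    exact Subgroup.map_mono (T.com j hj.le)
  · refine (Subgroup.map_mono (hS.lder T j hj.le)).trans ?_
    rw [Subgroup.map_sup, Subgroup.map_commutator]
    exact sup_le le_rfl (by rintro _ ⟨k, hk, rfl⟩; rw [T.img_K S hj hk]; exact one_mem _)
  · rintro _ ⟨z, hz, rfl⟩ _ ⟨x, hx, rfl⟩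
    exact T.commute_img S hj (T.cen j hj.le (Subgroup.commutator_mem_commutator hz hx))
  · rintro _ ⟨x, hx, rfl⟩
    rw [← map_pow]
    exact Subgroup.mem_map_of_mem _ (T.pow j hj.le x hx)
  · -- no fixed vectors
    haveI := Fintype.ofFinite ((T.X j).map φ)
    have hlift : ∀ y : (T.X j).map φ, ∃ x ∈ T.X j, φ x = (y : (bcRep S).toHomUnits.range) := fun y => y.2
    choose lift hliftX hlift using hlift
    have hrep : ∀ x x' : Γ, φ x = φ x' → S.π x = S.π x' := fun x x' e => bchg_injective ((img_eq_iff _).1 e)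
    let Y : Subgroup Γ := T.X (j + 1) ⊓ cgrp (T.X j ⊔ T.L (j + 1)) (T.L (j + 1))
    have hY : ∀ y, y ∈ Y ↔ y ∈ T.X (j + 1) ∧ ∀ x ∈ T.X j, ⁅x, y⁆ ∈ T.L (j + 1) := fun y => by
      refine ⟨fun h => ⟨h.1, fun x hx => comm_symm_mem (mem_cgrp.1 h.2 x (Subgroup.mem_sup_left hx))⟩,
        fun h => ⟨h.1, mem_cgrp.2 fun x hx => ?_⟩⟩
      obtain ⟨a, ha, l, hl, rfl⟩ := Subgroup.mem_sup_of_normal_right.1 hx
      rw [show ⁅y, a * l⁆ = ⁅y, a⁆ * (a * ⁅y, l⁆ * a⁻¹) by simp only [commutatorElement_def]; group]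
      refine mul_mem (comm_symm_mem (h.2 a ha)) ((T.nL _).conj_mem _ ?_ a)
      rw [show ⁅y, l⁆ = (y * l * y⁻¹) * l⁻¹ from rfl]
      exact mul_mem ((T.nL _).conj_mem l hl y) (inv_mem hl)
    have hfix0 : ∀ w, (∀ x ∈ T.X j, S.π x w = w) → w = 0 := by
      intro w hw
      obtain ⟨y, hy, rfl⟩ := S.surj w
      rcases T.irr (j + 1) hj Y inferInstance (fun l hl => (hY l).2 ⟨T.hLX _ hj hl, fun x _ => by
          rw [show ⁅x, l⁆ = (x * l * x⁻¹) * l⁻¹ from rfl]
          exact mul_mem ((T.nL _).conj_mem l hl x) (inv_mem hl)⟩) inf_le_left with hYe | hYe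
      · exact (S.ker y hy).2 (hYe.le ((hY y).2 ⟨hy, fun x hx => (S.fix_iff x hy).1 (hw x hx)⟩))
      · exfalso
        refine T.hne j hj.le (fun x hx => T.hKL j hj.le ((T.mem_K hj hx).2 (mem_cgrp.2 fun z hz => ?_)))
        exact ((hY z).1 (hYe.ge hz)).2 x hx
    have hzero : ∀ w : Fin S.D → ZMod q', tSum (imgRep (bcRep S)) ((T.X j).map φ)
        (emb (AlgebraicClosure (ZMod q')) w) = 0 := by
      intro w
      rw [tSum_apply, Finset.sum_congr rfl fun (y : ((T.X j).map φ : Subgroup (bcRep S).toHomUnits.range)) _ => show imgRep (bcRep S) (y : (bcRep S).toHomUnits.range) (emb _ w) =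
          emb _ (S.π (lift y) w) by rw [← hlift y, imgRep_img, bcRep_emb], ← map_sum]
      refine (congrArg (emb (AlgebraicClosure (ZMod q'))) (hfix0 _ fun x hx => ?_)).trans (map_zero _)
      rw [map_sum]
      let y0 : (T.X j).map φ := ⟨φ x, Subgroup.mem_map_of_mem _ hx⟩
      refine Fintype.sum_equiv (Equiv.mulLeft y0) _ _ fun y => ?_
      rw [rho_rho]
      have e : φ (x * lift y) = φ (lift (Equiv.mulLeft y0 y)) := by
        rw [map_mul φ x, hlift, hlift]
        rfl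
      exact LinearMap.congr_fun (hrep _ _ e) w
    have h1 : tSum (imgRep (bcRep S)) ((T.X j).map φ) v = 0 := by
      have := ext_emb (K := ZMod q') (f := tSum (imgRep (bcRep S)) ((T.X j).map φ)) (g := 0)
        (fun w => by rw [hzero, LinearMap.zero_apply])
      rw [this, LinearMap.zero_apply]
    rw [tSum_of_fixed _ hv] at h1
    refine (smul_eq_zero.1 h1).resolve_left ?_
    obtain ⟨m, hm⟩ := IsPGroup.iff_card.1 hp
    rw [hm, Nat.cast_pow]
    exact pow_ne_zero _ (hcast _ (T.prime j hj.le) (T.ne j hj))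

/-- Fixed elements of the image lift to fixed elements. -/
theorem exists_lift [G.Normal] (hS : Setting G s r n) (hj : j < n) {y : (bcRep S).toHomUnits.range}
    (hy : y ∈ (T.X j).map (img (bcRep S))) (hys : Commute y (img (bcRep S) s)) :
    ∃ a ∈ cfix G s ⊓ T.X j, img (bcRep S) a = y := by
  haveI := T.nX
  haveI := T.nK
  haveI := Fact.mk hS.hr
  obtain ⟨a, ha, rfl⟩ := hy
  have h1 : a⁻¹ * s * a * s⁻¹ ∈ T.K j := by
    refine (T.mem_K hj ?_).2 ((T.img_eq_one S _).1 ?_)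
    · rw [mul_assoc, mul_assoc, ← mul_assoc s]
      exact mul_mem (inv_mem ha) ((T.nX j).conj_mem a ha s)
    · rw [map_mul, map_mul, map_mul, map_inv, map_inv, mul_assoc (img (bcRep S) a)⁻¹, ← hys.eq, ← mul_assoc,
        inv_mul_cancel, one_mul, mul_inv_cancel]
  have hKX : T.K j ≤ T.X j := (T.hKL j hj.le).trans (T.hLX j hj.le)
  obtain ⟨u, hu, huc⟩ := exists_fixed_coset (T.K j) (g := s) (p := r) (n := 1) (by rw [pow_one]; exact hS.hs)
    (hS.not_dvd (hKX.trans (T.le_G hj.le))) (fun u hu => (T.nK j).conj_mem u hu s) h1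
  have hau : a * u ∈ T.X j := mul_mem ha (hKX hu)
  exact ⟨a * u, ⟨mem_cfix.2 ⟨T.le_G hj.le hau, huc⟩, hau⟩, by rw [map_mul, T.img_K S hj hu, mul_one]⟩

set_option maxHeartbeats 800000 in
/-- An element fixing every fixed rational vector of the moved part fixes all such vectors. -/
theorem bad_of_forall [G.Normal] (hS : Setting G s r n) (hj : j < n) {e : Γ}
    (he : ∀ w ∈ cfix G s, w ∈ ⁅T.X (j + 1), ⁅T.X j, Subgroup.zpowers s⁆⁆ ⊔ T.L (j + 1) → ⁅w, e⁆ ∈ T.L (j + 1)) :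
    Bad (imgRep (bcRep S)) ⁅(T.X j).map (img (bcRep S)), Subgroup.zpowers (img (bcRep S) s)⁆ (img (bcRep S) s)
      (img (bcRep S) e) := by
  classical
  haveI := T.nX
  haveI := T.nL
  have hF := T.frame S hS hj
  set φ := img (bcRep S) with hφ
  set Ts := ⁅T.X j, Subgroup.zpowers s⁆ with hTs
  have hTmap : ⁅(T.X j).map φ, Subgroup.zpowers (φ s)⁆ = Ts.map φ := by
    rw [hTs, Subgroup.map_commutator, MonoidHom.map_zpowers]
  rw [hTmap]
  haveI := Fintype.ofFinite (Ts.map φ)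
  have hlift : ∀ y : Ts.map φ, ∃ t ∈ Ts, φ t = (y : (bcRep S).toHomUnits.range) := fun y => y.2
  choose lift hliftT hlift using hlift
  set M := ⁅T.X (j + 1), Ts⁆ ⊔ T.L (j + 1) with hM
  have hMX : M ≤ T.X (j + 1) := sup_le (Subgroup.commutator_le_left _ _) (T.hLX _ hj)
  let W : AddSubmonoid (Fin S.D → ZMod (T.q (j + 1))) :=
    { carrier := {w | ∃ x ∈ M, S.ι x = w}
      zero_mem' := ⟨1, one_mem M, S.map_one⟩
      add_mem' := by
        rintro _ _ ⟨x, hx, rfl⟩ ⟨y, hy, rfl⟩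
        exact ⟨x * y, mul_mem hx hy, S.add x (hMX hx) y (hMX hy)⟩ }
  have hW : ∀ w, w ∈ W ↔ ∃ x ∈ M, S.ι x = w := fun w => Iff.rfl
  have hWneg : ∀ w ∈ W, -w ∈ W := fun w hw => by
    obtain ⟨x, hx, rfl⟩ := (hW w).1 hw
    exact (hW _).2 ⟨x⁻¹, inv_mem hx, S.map_inv (hMX hx)⟩
  have hdiff : ∀ t ∈ Ts, ∀ w, w - S.π t w ∈ W := fun t ht w => by
    obtain ⟨x, hx, rfl⟩ := S.surj w
    rw [← neg_sub, S.act_sub t hx]
    refine hWneg _ ((hW _).2 ⟨_, Subgroup.mem_sup_left ?_, rfl⟩)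
    have := inv_mem (Subgroup.commutator_mem_commutator hx ht)
    rwa [commutatorElement_inv] at this
  have hsM : ∀ x ∈ M, ∀ i : ℕ, s ^ i * x * (s ^ i)⁻¹ ∈ M := by
    intro x hx i
    have hc : (M.map (MulAut.conj (s ^ i)).toMonoidHom) = M := by
      rw [hM, Subgroup.map_sup, Subgroup.map_commutator, hTs, Subgroup.map_commutator, MonoidHom.map_zpowers]
      congr 1
      · congr 1
        · exact Cfsg.Lib.Coprime.conjMap_eq_self (by rw [Subgroup.normalizer_eq_top_iff.2 (T.nX (j + 1))]; trivial)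
        · congr 1
          · exact Cfsg.Lib.Coprime.conjMap_eq_self (by rw [Subgroup.normalizer_eq_top_iff.2 (T.nX j)]; trivial)
          · congr 1
            change s ^ i * s * (s ^ i)⁻¹ = s
            rw [((Commute.refl s).pow_left i).eq, mul_inv_cancel_right]
      · exact Cfsg.Lib.Coprime.conjMap_eq_self (by rw [Subgroup.normalizer_eq_top_iff.2 (T.nL (j + 1))]; trivial)
    rw [← hc]
    exact ⟨x, hx, rfl⟩
  haveI := Fact.mk hS.hr
  intro v hv hvs
  set A : Module.End (AlgebraicClosure (ZMod (T.q (j + 1)))) (Fin S.D → AlgebraicClosure (ZMod (T.q (j + 1)))) :=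
    orbSum (bcRep S) s r * ((Fintype.card (Ts.map φ) : AlgebraicClosure (ZMod (T.q (j + 1)))) • 1 -
      tSum (imgRep (bcRep S)) (Ts.map φ)) with hA
  have hA1 : bcRep S e * A = A := by
    refine sect_ext S fun x hx => ?_
    set w₀ := ∑ y : Ts.map φ, (S.ι x - S.π (lift y) (S.ι x))
    have hw₀ : w₀ ∈ W := AddSubmonoid.sum_mem _ fun y _ => hdiff _ (hliftT y) _
    have hAx : A (emb _ (S.ι x)) = emb _ (orbSum S.π s r w₀) := by
      rw [hA, Module.End.mul_apply, ← orbSum_emb]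
      congr 1
      rw [LinearMap.sub_apply, LinearMap.smul_apply, Module.End.one_apply, tSum_apply, map_sum, Nat.cast_smul_eq_nsmul,
        ← Finset.card_univ, ← Finset.sum_const, ← Finset.sum_sub_distrib]
      refine Finset.sum_congr rfl fun y _ => ?_
      rw [map_sub, ← hlift y, imgRep_img, bcRep_emb]
    have hmem : orbSum S.π s r w₀ ∈ W := by
      rw [orbSum_apply]
      refine AddSubmonoid.sum_mem _ fun i _ => ?_
      obtain ⟨z, hz, hzw⟩ := (hW _).1 hw₀
      exact (hW _).2 ⟨_, hsM z hz i, by rw [← S.act (s ^ i) z (hMX hz), hzw]⟩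
    obtain ⟨z, hz, hzw⟩ := (hW _).1 hmem
    obtain ⟨z', hz', hz's, hz'w⟩ := S.exists_fixed_lift (g := s) (p := r) (n := 1) (T.hLX _ hj) hS.hr
      (by rw [pow_one]; exact hS.hs) (hS.not_dvd ((T.hLX _ hj).trans (T.le_G hj)))
      (v := orbSum S.π s r w₀) (rho_orbSum S.π hS.hr hS.hs _)
    have hz'M : z' ∈ M := by
      have h1 := Subgroup.mem_sup_right (S := ⁅T.X (j + 1), Ts⁆) ((S.eq_iff (hMX hz) hz').1 (hzw.trans hz'w.symm))
      have := mul_mem hz h1
      rwa [mul_inv_cancel_left] at this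
    rw [Module.End.mul_apply, hAx, bcRep_emb]
    congr 1
    rw [← hz'w]
    exact (S.fix_iff e hz').2 (comm_symm_mem (he z' (mem_cfix.2 ⟨T.le_G hj hz', hz's⟩) hz'M))
  have hsv : bcRep S s v = v := hvs
  have hv2 : A v = ((r : AlgebraicClosure (ZMod (T.q (j + 1)))) *
      (Fintype.card (Ts.map φ) : AlgebraicClosure (ZMod (T.q (j + 1))))) • v := by
    rw [hA, Module.End.mul_apply, LinearMap.sub_apply, LinearMap.smul_apply, Module.End.one_apply, hv, sub_zero,
      map_smul, orbSum_fixed (bcRep S) hsv, smul_smul, mul_comm]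
  have hcard : (Fintype.card (Ts.map φ) : AlgebraicClosure (ZMod (T.q (j + 1)))) ≠ 0 := by
    rw [← Nat.card_eq_fintype_card]
    refine hF.card_cast (Subgroup.map_mono ?_)
    exact Subgroup.commutator_le_left _ _
  have h2 := LinearMap.congr_fun hA1 v
  rw [Module.End.mul_apply, hv2, map_smul] at h2
  exact smul_right_injective _ (mul_ne_zero hF.hrF hcard) h2

/-- A fixed rational vector reflects the fixed vectors. -/
theorem exists_fixed_moved [G.Normal] (hS : Setting G s r n) (hj : j < n) {e : Γ}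
    (he : ∀ w ∈ cfix G s ⊓ T.X (j + 1), ⁅w, e⁆ ∈ T.L (j + 1))
    {v : Fin S.D → AlgebraicClosure (ZMod (T.q (j + 1)))} (hv : bcRep S s v = v) : bcRep S e v = v := by
  haveI := T.nX
  haveI := T.nL
  have hF := T.frame S hS hj
  have hA1 : bcRep S e * orbSum (bcRep S) s r = orbSum (bcRep S) s r := by
    refine sect_ext S fun x hx => ?_
    rw [Module.End.mul_apply, orbSum_emb, bcRep_emb]
    congr 1
    obtain ⟨z, hz, hzs, hzw⟩ := S.exists_fixed_lift (g := s) (p := r) (n := 1) (T.hLX _ hj) hS.hr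
      (by rw [pow_one]; exact hS.hs) (hS.not_dvd ((T.hLX _ hj).trans (T.le_G hj)))
      (v := orbSum S.π s r (S.ι x)) (rho_orbSum S.π hS.hr hS.hs _)
    rw [← hzw]
    exact (S.fix_iff e hz).2 (comm_symm_mem (he z ⟨mem_cfix.2 ⟨T.le_G hj hz, hzs⟩, hz⟩))
  have h2 := LinearMap.congr_fun hA1 v
  rw [Module.End.mul_apply, orbSum_fixed (bcRep S) hv, map_smul] at h2
  exact smul_right_injective _ hF.hrF h2

theorem exists_fixed_lift_ne [G.Normal] (hS : Setting G s r n) (hj : j < n)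
    {v : Fin S.D → AlgebraicClosure (ZMod (T.q (j + 1)))} (hv : bcRep S s v = v) (hv0 : v ≠ 0) :
    ∃ w ∈ cfix G s ⊓ T.X (j + 1), w ∉ T.L (j + 1) := by
  haveI := T.nX
  haveI := T.nL
  have hF := T.frame S hS hj
  by_contra hc
  push Not at hc
  have hA1 : orbSum (bcRep S) s r = 0 := by
    refine sect_ext S fun x hx => ?_
    rw [orbSum_emb, LinearMap.zero_apply]
    obtain ⟨z, hz, hzs, hzw⟩ := S.exists_fixed_lift (g := s) (p := r) (n := 1) (T.hLX _ hj) hS.hr
      (by rw [pow_one]; exact hS.hs) (hS.not_dvd ((T.hLX _ hj).trans (T.le_G hj)))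
      (v := orbSum S.π s r (S.ι x)) (rho_orbSum S.π hS.hr hS.hs _)
    rw [← hzw, (S.ker z hz).2 (hc z ⟨mem_cfix.2 ⟨T.le_G hj hz, hzs⟩, hz⟩), map_zero]
  have h2 := orbSum_fixed (bcRep S) hv r
  rw [hA1, LinearMap.zero_apply] at h2
  exact hv0 ((smul_eq_zero.1 h2.symm).resolve_left hF.hrF)

end Tower

end Cfsg.Lib.FitHeight
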