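import Cfsg.Agent.FitHeight.Pieces

/-!
Fixed vectors of a class-two group and the action of fixed elements trivial on both factors of a
filtration.
-/

set_option autoImplicit false
set_option linter.unusedSectionVars false
set_option linter.style.haveILetI false
set_option linter.unusedVariables false

namespace Cfsg.Lib.FitHeight

open scoped commutatorElement
open Module

universe u v w

variable {F : Type u} [Field F] {V : Type v} [AddCommGroup V] [Module F V] {H : Type w} [Group H] [Finite H]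
  {ρ : H →* Module.End F V}

theorem tSum_subRep {B : Submodule F V} {A : Subgroup H} (hA : A ≤ stab ρ B) (x : B) :
    (tSum (subRep ρ B) (A.subgroupOf (stab ρ B)) x : V) = tSum ρ A (x : V) := by
  haveI := Fintype.ofFinite A
  haveI := Fintype.ofFinite (A.subgroupOf (stab ρ B))
  rw [tSum_apply, tSum_apply, Submodule.coe_sum]
  exact Fintype.sum_equiv (Subgroup.subgroupOfEquivOfLe hA).toEquiv _ _ fun t => rfl

theorem tSum_quotRep {B : Submodule F V} {A : Subgroup H} (hA : A ≤ stab ρ B) (x : V) :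
    tSum (quotRep ρ B) (A.subgroupOf (stab ρ B)) (Submodule.Quotient.mk x) =
      (Submodule.Quotient.mk (tSum ρ A x) : V ⧸ B) := by
  haveI := Fintype.ofFinite A
  haveI := Fintype.ofFinite (A.subgroupOf (stab ρ B))
  rw [tSum_apply, tSum_apply, ← Submodule.mkQ_apply, ← Submodule.mkQ_apply, map_sum]
  exact Fintype.sum_equiv (Subgroup.subgroupOfEquivOfLe hA).toEquiv _ _ fun t => rfl

variable {X Z : Subgroup H} {s : H} {r q : ℕ}

namespace Frame

variable [FiniteDimensional F V] (h : Frame ρ X Z s r q)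
include h

/-- An element trivial on the fixed vectors of two factors is trivial on both moved factors. -/
theorem moved_factors (B : Submodule F V) (A : Subgroup H) (hAX : A ≤ X)
    (hfpf : ∀ t ∈ A, Commute s t → t = 1) (hcomm : ∀ a ∈ A, ∀ b ∈ A, Commute a b)
    (hsA : ∀ t ∈ A, s * t * s⁻¹ ∈ A) {d : H} (hd : Commute d s) (hdA : ∀ t ∈ A, d * t * d⁻¹ ∈ A)
    (hdr : ¬ r ∣ orderOf d) (hAB : A ≤ stab ρ B) (hsB : s ∈ stab ρ B) (hdB : d ∈ stab ρ B)
    (h1 : ∀ v, ρ s v = v → ρ d v - v ∈ B) (h2 : ∀ v ∈ B, ρ s v = v → ρ d v = v) :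
    (∀ v, tSum ρ A v = 0 → ρ d v - v ∈ B) ∧ ∀ v ∈ B, tSum ρ A v = 0 → ρ d v = v := by
  haveI := Fact.mk h.hr
  have hcard : Nat.card (A.subgroupOf (stab ρ B)) = Nat.card A :=
    Nat.card_congr (Subgroup.subgroupOfEquivOfLe hAB).toEquiv
  refine ⟨fun v hv => ?_, fun v hvB hv => ?_⟩
  · have key := eq_on_ker_tSum (quotRep ρ B) (r := r) (A.subgroupOf (stab ρ B)) (s := ⟨s, hsB⟩) (g := ⟨d, hdB⟩)
      h.hr (Subtype.ext h.hs) (fun t ht => hsA _ ht) (fun t ht htc => Subtype.ext (hfpf _ ht (congrArg Subtype.val htc)))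
      (fun a ha b hb => Subtype.ext (hcomm _ ha _ hb).eq) (by rw [hcard]; exact h.card_cast hAX)
      (by rw [hcard]; exact h.not_dvd_card hAX) (Subtype.ext hd.eq) (fun t ht => hdA _ ht)
      (by rwa [Subgroup.orderOf_mk])
      (fun w _ hw => by
        obtain ⟨w, rfl⟩ := Submodule.Quotient.mk_surjective B w
        have hi : ∀ i : ℕ, (Submodule.Quotient.mk (ρ (s ^ i) w) : V ⧸ B) = Submodule.Quotient.mk w := by
          intro i
          induction i with
          | zero => simp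
          | succ i ih =>
            rw [pow_succ', ← rho_rho, ← quotRep_mk ρ B ⟨s, hsB⟩, ih]
            exact hw
        set u := (r : F)⁻¹ • orbSum ρ s r w with hu
        have hus : ρ s u = u := by rw [hu, map_smul, rho_orbSum ρ h.hr h.hs]
        have huw : (Submodule.Quotient.mk u : V ⧸ B) = Submodule.Quotient.mk w := by
          rw [hu, orbSum_apply, ← Submodule.mkQ_apply, map_smul, map_sum]
          simp only [Submodule.mkQ_apply]
          rw [Finset.sum_congr rfl fun i _ => hi i,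
            Finset.sum_const, Finset.card_range, ← Nat.cast_smul_eq_nsmul F, smul_smul, inv_mul_cancel₀ h.hrF, one_smul]
        rw [← huw, quotRep_mk]
        exact (Submodule.Quotient.eq B).2 (h1 u hus))
      (Submodule.Quotient.mk v) (by rw [tSum_quotRep hAB, hv, Submodule.Quotient.mk_zero])
    rw [quotRep_mk] at key
    exact (Submodule.Quotient.eq B).1 key
  · exact congrArg Subtype.val (eq_on_ker_tSum (subRep ρ B) (r := r) (A.subgroupOf (stab ρ B)) (s := ⟨s, hsB⟩)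
      (g := ⟨d, hdB⟩) h.hr (Subtype.ext h.hs) (fun t ht => hsA _ ht)
      (fun t ht htc => Subtype.ext (hfpf _ ht (congrArg Subtype.val htc)))
      (fun a ha b hb => Subtype.ext (hcomm _ ha _ hb).eq) (by rw [hcard]; exact h.card_cast hAX)
      (by rw [hcard]; exact h.not_dvd_card hAX) (Subtype.ext hd.eq) (fun t ht => hdA _ ht)
      (by rwa [Subgroup.orderOf_mk])
      (fun w _ hw => Subtype.ext (h2 w w.2 (congrArg Subtype.val hw)))
      ⟨v, hvB⟩ (Subtype.ext (by rw [tSum_subRep hAB]; exact hv)))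

theorem orderOf_cast {t : H} (ht : t ∈ X) : ((orderOf t : ℕ) : F) ≠ 0 := by
  rw [← Nat.card_zpowers]
  exact h.card_cast (Subgroup.zpowers_le.2 ht)

theorem mv_eq_hT0 (hmv : ⁅X, Subgroup.zpowers s⁆ = X) (hZ : Z = ⊥) :
    (∀ t ∈ X, Commute s t → t = 1) ∧ (∀ a ∈ X, ∀ b ∈ X, Commute a b) := by
  refine ⟨fun t ht hts => ?_, fun a ha b hb => ?_⟩
  · have := h.mv_fixed (hmv.ge ht) hts
    rwa [hZ, Subgroup.mem_bot] at this
  · rw [← commutatorElement_eq_one_iff_commute, ← Subgroup.mem_bot, ← hZ]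
    exact h.com (Subgroup.commutator_mem_commutator ha hb)

theorem tSum_X (v : V) : tSum ρ X v = 0 :=
  h.hT0 _ fun x hx => rho_tSum ρ hx v

/-- A fixed-point-free abelian section has fixed vectors. -/
theorem exists_fixed_free [Nontrivial V] (hmv : ⁅X, Subgroup.zpowers s⁆ = X) (hZ : Z = ⊥) :
    ∃ v : V, v ≠ 0 ∧ ρ s v = v := by
  haveI := Fintype.ofFinite X
  obtain ⟨hf, -⟩ := h.mv_eq_hT0 hmv hZ
  refine exists_fixed_vector ρ X h.hr h.hs (fun t ht => h.nX.conj_mem t ht s) (fun t ht he => ?_)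
    (by rw [← Nat.card_eq_fintype_card]; exact h.card_cast le_rfl) fun v => by rw [← tSum_apply]; exact h.tSum_X v
  rw [hf t ht (h.inj he), map_one]

/-- An element trivial on the fixed vectors of both factors centralises an abelian section. -/
theorem classes_abelian (hmv : ⁅X, Subgroup.zpowers s⁆ = X) (hZ : Z = ⊥) (B : Submodule F V) {d : H}
    (hd : Commute d s) (hdr : ¬ r ∣ orderOf d) (hXB : X ≤ stab ρ B) (hsB : s ∈ stab ρ B) (hdB : d ∈ stab ρ B)
    (h1 : ∀ v, ρ s v = v → ρ d v - v ∈ B) (h2 : ∀ v ∈ B, ρ s v = v → ρ d v = v) :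
    ∀ t ∈ X, Commute d t := by
  obtain ⟨hf, hc⟩ := h.mv_eq_hT0 hmv hZ
  obtain ⟨k1, k2⟩ := h.moved_factors B X le_rfl hf hc (fun t ht => h.nX.conj_mem t ht s) hd
    (fun t ht => h.nX.conj_mem t ht d) hdr hXB hsB hdB h1 h2
  intro t ht
  have hB1 : ∀ v ∈ B, ρ d v = v := fun v hv => k2 v hv (h.tSum_X v)
  set u := t⁻¹ * (d * t * d⁻¹) with hu
  have huX : u ∈ X := mul_mem (inv_mem ht) (h.nX.conj_mem t ht d)
  have hdi : ∀ v, ρ d⁻¹ v - v ∈ B := fun v => by
    have := k1 (ρ d⁻¹ v) (h.tSum_X _)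
    rw [rho_apply_inv] at this
    simpa using neg_mem this
  have hu1 : u = 1 := by
    refine h.inj (LinearMap.ext fun v => ?_)
    rw [map_one, Module.End.one_apply]
    have hb : ρ u v - v ∈ B := by
      have e1 : ρ t (ρ d⁻¹ v) - ρ t v ∈ B := by rw [← map_sub]; exact (hXB ht).1 _ (hdi v)
      have e2 : ρ d (ρ t (ρ d⁻¹ v)) - ρ t v ∈ B := by
        have := add_mem (k1 (ρ t (ρ d⁻¹ v)) (h.tSum_X _)) e1
        simpa using this
      have e3 := (hXB ht).2 _ e2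
      rw [map_sub, rho_inv_apply, rho_rho ρ d, rho_rho ρ (d * t), rho_rho] at e3
      exact e3
    have hub : ρ u (ρ u v - v) = ρ u v - v := by
      set b := ρ u v - v
      have hdib : ρ d⁻¹ b = b := by
        conv_lhs => rw [← hB1 b hb]
        rw [rho_inv_apply]
      rw [hu, ← rho_rho, ← rho_rho, hdib, ← rho_rho, hB1 _ ((hXB ht).1 b hb), rho_inv_apply]
    exact sub_eq_zero.1 (fix_of_two_steps ρ (h.orderOf_cast huX) (v := v) (b := ρ u v - v) (by abel) hub)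
  have h3 := congrArg (fun z => t * z * d) hu1
  simp only [hu, ← mul_assoc, mul_inv_cancel, one_mul, inv_mul_cancel_right, mul_one] at h3
  exact h3

variable [IsAlgClosed F]

theorem rad_piece_ne (hmv : ⁅X, Subgroup.zpowers s⁆ = X) {z : H} (hz : z ∈ Z) {U : Submodule F V} {v : V}
    (hv : v ∈ U) (hzv : ρ z v ≠ v) (hinv : ∀ x ∈ X, ∀ w ∈ U, ρ x w ∈ U) :
    ∃ t ∈ X, ¬ Rad ρ ⁅X, Subgroup.zpowers s⁆ U t := by
  by_contra hc
  push Not at hc
  let S : Subgroup H :=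
    { carrier := {g | ∀ w ∈ U, ρ g w = w}
      one_mem' := fun w hw => by simp
      mul_mem' := fun {a b} ha hb w hw => by rw [← rho_rho, hb w hw, ha w hw]
      inv_mem' := fun {a} ha w hw => by conv_lhs => rw [← ha w hw]; rw [rho_inv_apply] }
  have hle : ⁅X, X⁆ ≤ S := Subgroup.commutator_le.2 fun a ha b hb w hw => hc a ha b (hmv.ge hb) w hw
  exact hzv (hle (h.gen hz) v hv)

/-- The moved centre is seen on fixed vectors. -/
theorem exists_fixed_ne (hmv : ⁅X, Subgroup.zpowers s⁆ = X) (Ds : Set H)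
    (hDs : ∀ d ∈ Ds, Commute d s ∧ ¬ r ∣ orderOf d ∧ ∀ z ∈ Z, Commute d z)
    (hgen : ∀ R : Subgroup H, Z ≤ R → R ≤ X → (∀ d ∈ Ds, ∀ t ∈ X, t⁻¹ * (d * t * d⁻¹) ∈ R) → X ≤ R)
    {z : H} (hz : z ∈ Z) (hz1 : z ≠ 1) : ∃ v, ρ s v = v ∧ v ≠ 0 ∧ (Commute s z → ρ z v ≠ v) := by
  obtain ⟨x, hx⟩ : ∃ x, ρ z x ≠ x := by
    by_contra hc
    push Not at hc
    exact hz1 (h.inj (LinearMap.ext fun x => by rw [map_one, Module.End.one_apply, hc]))
  obtain ⟨v, χ, -, hv0, hχz, hv⟩ := h.Z_char_vec hz (U := (⊤ : Submodule F V)) (fun _ _ _ _ => trivial)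
    (x := x) trivial hx
  have hv' := (mem_piece ρ).1 hv
  have hχ1 : (χ ⟨z, hz⟩ : F) ≠ 1 := fun e => hχz (Units.ext e)
  classical
  by_cases hmov : ∃ a : Z, χ ⟨s * a * s⁻¹, h.nZ.conj_mem a a.2 s⟩ ≠ χ a
  · let f : H → F := fun a => if ha : a ∈ Z then (χ ⟨a, ha⟩ : F) else 0
    obtain ⟨a, ha⟩ := hmov
    obtain ⟨w1, w2, -⟩ := orbSum_weight ρ h.hr h.hs Z (fun a ha => h.nZ.conj_mem a ha s) f hv0
      (fun a ha => by simp only [f, dif_pos ha]; exact hv' ⟨a, ha⟩)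
      ⟨a, a.2, by
        simp only [f, dif_pos (h.nZ.conj_mem (a : H) a.2 s), dif_pos a.2]
        exact fun e => ha (Units.ext e)⟩
    refine ⟨_, rho_orbSum ρ h.hr h.hs v, w1, fun hzs e => ?_⟩
    rw [w2 z hz hzs] at e
    simp only [f, dif_pos hz] at e
    exact hχ1 (smul_left_injective F w1 (e.trans (one_smul F _).symm))
  · push Not at hmov
    set U := piece ρ Z χ
    have hsU : ∀ w ∈ U, ρ s w ∈ U := piece_invariant ρ fun a w hw => by
      have ha := h.nZ.conj_mem (a : H) a.2 s⁻¹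
      rw [inv_inv] at ha
      rw [(mem_piece ρ).1 hw ⟨_, ha⟩]
      rw [← hmov ⟨_, ha⟩]
      congr 3
      exact Subtype.ext (show s * (s⁻¹ * (a : H) * s) * s⁻¹ = a by group)
    by_cases hfix : ∃ u ∈ U, ρ s u = u ∧ u ≠ 0
    · obtain ⟨u, hu, hus, hu0⟩ := hfix
      refine ⟨u, hus, hu0, fun _ e => ?_⟩
      rw [(mem_piece ρ).1 hu ⟨z, hz⟩] at e
      exact hχ1 (smul_left_injective F hu0 (e.trans (one_smul F _).symm))
    exfalso
    push Not at hfix
    have hzv : ρ z v ≠ v := fun e => by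
      rw [hv' ⟨z, hz⟩] at e
      exact hχ1 (smul_left_injective F hv0 (e.trans (one_smul F _).symm))
    obtain ⟨t, ht, htn⟩ := h.rad_piece_ne hmv hz hv hzv (fun x hx => h.piece_invariant_X χ hx)
    refine htn ((hgen (h.radGroup U) (h.Z_le_radGroup U) (h.radGroup_le U) fun d hd t' ht' => ?_) ht).2
    obtain ⟨hds, hdr, hdZ⟩ := hDs d hd
    refine ⟨mul_mem (inv_mem ht') (h.nX.conj_mem t' ht' d), ?_⟩
    exact (h.no_fixed_piece U (Submodule.ne_bot_iff _ |>.2 ⟨v, hv, hv0⟩) (h.scalar_on_piece χ le_rfl)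
      (fun x hx => h.piece_invariant_X χ (h.mv_le hx)) hsU hds hdr (h.piece_invariant_cen χ hdZ)
      ⟨t, hmv.ge ht, htn⟩ hfix).1 t' (hmv.ge ht')

/-- Elements trivial on the fixed vectors of both factors give commutators acting trivially on the classes. -/
theorem classes (hmv : ⁅X, Subgroup.zpowers s⁆ = X) (B : Submodule F V) {d x : H}
    (hd : Commute d s) (hdr : ¬ r ∣ orderOf d) (hdq : (orderOf d).Coprime q) (hdZ : ∀ z ∈ Z, Commute d z)
    (hx : Commute x s) (hxC : ∀ z ∈ Z, Commute s z → Commute x z)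
    (hXB : X ≤ stab ρ B) (hsB : s ∈ stab ρ B) (hdB : d ∈ stab ρ B) (hxB : x ∈ stab ρ B)
    (h1 : ∀ v, ρ s v = v → ρ d v - v ∈ B) (h2 : ∀ v ∈ B, ρ s v = v → ρ d v = v) :
    ∀ t ∈ X, ∀ y ∈ X, Commute (t⁻¹ * (⁅x, d⁆ * t * ⁅x, d⁆⁻¹)) y := by
  classical
  haveI := h.nX
  haveI := h.nZ
  set Zm := ⁅Z, Subgroup.zpowers s⁆ with hZm
  have hZmX : Zm ≤ X := h.zm_le_Z.trans h.hZX
  have hdm := h.zm_nrm hd
  obtain ⟨k1, k2⟩ := h.moved_factors B Zm hZmX (fun t ht hts => h.zm_fixed ht hts)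
    (fun a ha b hb => h.comm_Z (h.zm_le_Z ha) (h.zm_le_Z hb)) (h.zm_nrm (Commute.refl s)) hd hdm hdr
    (hZmX.trans hXB) hsB hdB h1 h2
  intro t ht y hy
  set g := ⁅x, d⁆ with hg
  set t' := t⁻¹ * (g * t * g⁻¹) with ht'
  have ht'X : t' ∈ X := mul_mem (inv_mem ht) (h.nX.conj_mem t ht g)
  rw [← commutatorElement_eq_one_iff_commute]
  have hZ' : ⁅t', y⁆ ∈ Z := h.com (Subgroup.commutator_mem_commutator ht'X hy)
  refine h.eq_one_of_parts ?_ ?_
  · -- the moved part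
    have hker : ∀ a : H, (∀ m ∈ Zm, a * m * a⁻¹ ∈ Zm) → ∀ v, tSum ρ Zm v = 0 → tSum ρ Zm (ρ a v) = 0 :=
      fun a ha v hv => by rw [tSum_conj ρ ha, hv, map_zero]
    have hcs : ∀ a : H, Commute a s → ∀ v, tSum ρ Zm v = 0 → tSum ρ Zm (ρ a v) = 0 := fun a ha => hker a (h.zm_nrm ha)
    have hXk : ∀ a ∈ X, ∀ v, tSum ρ Zm v = 0 → tSum ρ Zm (ρ a v) = 0 := fun a ha => hker a fun m hm => by
      rw [← (h.cen m (h.zm_le_Z hm) a ha).eq, mul_inv_cancel_right]; exact hm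
    have hdi1 : ∀ v, tSum ρ Zm v = 0 → ρ d⁻¹ v - v ∈ B := fun v hv => by
      have := k1 (ρ d⁻¹ v) (hcs _ hd.inv_left v hv)
      rw [rho_apply_inv] at this
      simpa using neg_mem this
    have hdi2 : ∀ v ∈ B, tSum ρ Zm v = 0 → ρ d⁻¹ v = v := fun v hvB hv => by
      conv_lhs => rw [← k2 v hvB hv]
      rw [rho_inv_apply]
    have hxs' : Commute x⁻¹ s := hx.inv_left
    have hg1 : ∀ v, tSum ρ Zm v = 0 → ρ g v - v ∈ B := by
      intro v hv
      have a1 := hdi1 v hv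
      have a2 := hxB.2 _ a1
      have hv1 := hcs _ hxs' _ (hcs _ hd.inv_left v hv)
      have a3 := add_mem (k1 _ hv1) a2
      rw [map_sub, ← add_sub_assoc, sub_add_cancel] at a3
      have a4 := hxB.1 _ a3
      rw [map_sub, rho_apply_inv, rho_rho, rho_rho, rho_rho] at a4
      rwa [hg, commutatorElement_def]
    have hg2 : ∀ v ∈ B, tSum ρ Zm v = 0 → ρ g v = v := by
      intro v hvB hv
      rw [hg, commutatorElement_def, ← rho_rho, ← rho_rho, ← rho_rho, hdi2 v hvB hv,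
        k2 _ (hxB.2 v hvB) (hcs _ hxs' v hv), rho_apply_inv]
    have hgs : Commute g s :=
      ((hx.mul_left hd).mul_left hxs').mul_left hd.inv_left
    have hgi1 : ∀ v, tSum ρ Zm v = 0 → ρ g⁻¹ v - v ∈ B := fun v hv => by
      have := hg1 (ρ g⁻¹ v) (hcs _ hgs.inv_left v hv)
      rw [rho_apply_inv] at this
      simpa using neg_mem this
    have hgi2 : ∀ v ∈ B, tSum ρ Zm v = 0 → ρ g⁻¹ v = v := fun v hvB hv => by
      conv_lhs => rw [← hg2 v hvB hv]
      rw [rho_inv_apply]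
    have ht'1 : ∀ v, tSum ρ Zm v = 0 → ρ t' v = v := by
      intro v hv
      have hb : ρ t' v - v ∈ B := by
        have e1 : ρ t (ρ g⁻¹ v) - ρ t v ∈ B := by rw [← map_sub]; exact (hXB ht).1 _ (hgi1 v hv)
        have e2 : ρ g (ρ t (ρ g⁻¹ v)) - ρ t v ∈ B := by
          have := add_mem (hg1 (ρ t (ρ g⁻¹ v)) (hXk t ht _ (hcs _ hgs.inv_left v hv))) e1
          simpa using this
        have e3 := (hXB ht).2 _ e2
        rw [map_sub, rho_inv_apply, rho_rho ρ g, rho_rho ρ (g * t), rho_rho] at e3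
        exact e3
      have hbk : tSum ρ Zm (ρ t' v - v) = 0 := by rw [map_sub, hXk t' ht'X v hv, hv, sub_zero]
      have hub : ρ t' (ρ t' v - v) = ρ t' v - v := by
        set b := ρ t' v - v
        rw [ht', ← rho_rho, ← rho_rho, hgi2 b hb hbk, ← rho_rho,
          hg2 _ ((hXB ht).1 b hb) (hXk t ht b hbk), rho_inv_apply]
      exact sub_eq_zero.1 (fix_of_two_steps ρ (h.orderOf_cast ht'X) (v := v) (b := ρ t' v - v) (by abel) hub)
    intro v hv
    have hti : ∀ w, tSum ρ Zm w = 0 → ρ t'⁻¹ w = w := fun w hw => by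
      conv_lhs => rw [← ht'1 w hw]
      rw [rho_inv_apply]
    rw [commutatorElement_def, ← rho_rho, ← rho_rho, ← rho_rho, hti _ (hXk _ (inv_mem hy) v hv), rho_apply_inv,
      ht'1 v hv]
  · -- the fixed part
    intro v hv
    by_contra hne
    let Vf : Submodule F V := ⨅ m : Zm, LinearMap.ker (ρ (m : H) - 1)
    have hVf : ∀ w, w ∈ Vf ↔ ∀ m ∈ Zm, ρ m w = w := fun w => by simp [Vf, sub_eq_zero]
    obtain ⟨v₁, χ, hv₁f, hv₁0, hχ, hv₁⟩ := h.Z_char_vec hZ' (U := Vf) (fun a ha w hw => (hVf _).2 fun m hm => by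
      rw [rho_rho, (h.comm_Z (h.zm_le_Z hm) ha).eq, ← rho_rho, (hVf w).1 hw m hm]) ((hVf v).2 hv) hne
    set U := piece ρ Z χ with hU
    have hχm : ∀ m, ∀ hm : m ∈ Zm, (χ ⟨m, h.zm_le_Z hm⟩ : F) = 1 := fun m hm =>
      smul_left_injective F hv₁0
        ((((mem_piece ρ).1 hv₁ ⟨m, h.zm_le_Z hm⟩).symm.trans ((hVf v₁).1 hv₁f m hm)).trans (one_smul F v₁).symm)
    have hUf : ∀ w ∈ U, ∀ m ∈ Zm, ρ m w = w := fun w hw m hm => by
      rw [(mem_piece ρ).1 hw ⟨m, h.zm_le_Z hm⟩, hχm m hm, one_smul]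
    have hsU : ∀ w ∈ U, ρ s w ∈ U := piece_invariant ρ fun z w hw => by
      have hsw : ρ (s⁻¹ * z * s) w = ρ (z : H) w := by
        rw [mul_assoc, ← rho_rho, ← h.s_comm_Z (hUf w hw) z.2, ← rho_rho ρ s, rho_inv_apply]
      rw [hsw, (mem_piece ρ).1 hw z]
    have hxU : ∀ w ∈ U, ρ x w ∈ U := piece_invariant ρ fun z w hw => by
      have hz : (z : H) ∈ ⁅Z, Subgroup.zpowers s⁆ ⊔ (Z ⊓ Subgroup.centralizer (Subgroup.zpowers s : Set H)) := by
        rw [Cfsg.Lib.Coprime.commutator_sup_centralizer (by rw [Subgroup.normalizer_eq_top_iff.2 h.nZ]; exact le_top)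
          (h.cop_card h.hZX) (Or.inl (Group.isSolvable_of_comm fun a b => mul_comm' a b))]
        exact z.2
      obtain ⟨m, hm, c, hc, hmc⟩ := (Cfsg.Lib.Coprime.mem_sup_of_le_normalizer (fun c hc =>
        Cfsg.Lib.Coprime.mem_normalizer_of_conj_mem
          (fun m hm => by rw [(h.comm_Z hc.1 (h.zm_le_Z hm)).eq, mul_inv_cancel_right]; exact hm)
          (fun m hm => by rw [mul_assoc, (h.comm_Z (h.zm_le_Z hm) hc.1).eq, inv_mul_cancel_left]; exact hm))).1 hz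
      have hxc : Commute x c := hxC c hc.1 (Subgroup.mem_centralizer_iff.1 hc.2 s (Subgroup.mem_zpowers s))
      have hm' : x⁻¹ * m * x ∈ Zm := by
        have := h.zm_nrm hx.inv_left m hm
        rwa [inv_inv] at this
      rw [← hmc, show x⁻¹ * (m * c) * x = (x⁻¹ * m * x) * (x⁻¹ * (c * x)) by group, ← hxc.eq, inv_mul_cancel_left,
        ← rho_rho, (mem_piece ρ).1 hw ⟨c, hc.1⟩, map_smul, hUf w hw _ hm']
      rw [show z = ⟨m, h.zm_le_Z hm⟩ * ⟨c, hc.1⟩ from Subtype.ext hmc.symm, map_mul, Units.val_mul, hχm m hm, one_mul]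
    -- a subpiece on which the element is trivial on fixed vectors
    obtain ⟨U', hU', hU'0, hU'X, hU's, hU'd, hfix⟩ : ∃ U' ≤ U, U' ≠ ⊥ ∧ (∀ a ∈ X, ∀ w ∈ U', ρ a w ∈ U') ∧
        (∀ w ∈ U', ρ s w ∈ U') ∧ (∀ w ∈ U', ρ d w ∈ U') ∧ ∀ w ∈ U', ρ s w = w → ρ d w = w := by
      have hdU := h.piece_invariant_cen χ hdZ
      by_cases hUB : U ⊓ B = ⊥
      · refine ⟨U, le_rfl, (Submodule.ne_bot_iff _).2 ⟨v₁, hv₁, hv₁0⟩, fun a ha => h.piece_invariant_X χ ha, hsU, hdU,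
          fun w hw hws => ?_⟩
        have : ρ d w - w ∈ U ⊓ B := ⟨sub_mem (hdU w hw) hw, h1 w hws⟩
        rw [hUB, Submodule.mem_bot, sub_eq_zero] at this
        exact this
      · exact ⟨U ⊓ B, inf_le_left, hUB, fun a ha w hw => ⟨h.piece_invariant_X χ ha w hw.1, (hXB ha).1 w hw.2⟩,
          fun w hw => ⟨hsU w hw.1, hsB.1 w hw.2⟩, fun w hw => ⟨hdU w hw.1, hdB.1 w hw.2⟩,
          fun w hw hws => h2 w hw.2 hws⟩
    obtain ⟨u₀, hu₀, hu₀0⟩ := Submodule.exists_mem_ne_zero_of_ne_bot hU'0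
    have hrad : ∀ a ∈ X, Rad ρ ⁅X, Subgroup.zpowers s⁆ U' a → a ∈ h.radGroup U := by
      refine fun a ha hr => ⟨ha, fun b hb w hw => ?_⟩
      have hab : ⁅a, b⁆ ∈ Z := h.com (Subgroup.commutator_mem_commutator ha (h.mv_le hb))
      have h3 := hr b hb u₀ hu₀
      rw [(mem_piece ρ).1 (hU' hu₀) ⟨_, hab⟩] at h3
      rw [(mem_piece ρ).1 hw ⟨_, hab⟩, smul_left_injective F hu₀0 (h3.trans (one_smul F u₀).symm), one_smul]
    set R := h.radGroup U with hR
    have hsign := h.sign_piece U' hU'0 (h.scalar_on_piece χ hU') (fun a ha => hU'X a (h.mv_le ha)) hU's hd hdr hdq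
      hU'd hfix
    have hRn : ∀ a ∈ X, ∀ b ∈ R, a * b * a⁻¹ ∈ R := fun a ha b hb => by
      rw [show a * b * a⁻¹ = ⁅a, b⁆ * b by simp only [commutatorElement_def]; group]
      exact mul_mem (h.comm_le_radGroup U (Subgroup.commutator_mem_commutator ha hb.1)) hb
    have hRx : ∀ b ∈ R, x * b * x⁻¹ ∈ R := fun b hb => ⟨h.nX.conj_mem b hb.1 x, fun a ha w hw => by
      have hxa : x⁻¹ * a * x ∈ ⁅X, Subgroup.zpowers s⁆ := by
        have := h.mv_nrm hx.inv_left a ha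
        rwa [inv_inv] at this
      rw [show ⁅x * b * x⁻¹, a⁆ = x * ⁅b, x⁻¹ * a * x⁆ * x⁻¹ by simp only [commutatorElement_def]; group,
        ← rho_rho, ← rho_rho, hb.2 _ hxa _ ?_, rho_apply_inv]
      exact (mem_stab_of_forall ρ hxU).2 w hw⟩
    have hRX : ∀ a b : H, a ∈ X → a⁻¹ * b ∈ R → b ∈ X := fun a b ha hab => by
      have := mul_mem ha (h.radGroup_le U hab)
      rwa [mul_inv_cancel_left] at this
    have hcong : ∀ a b c : H, a⁻¹ * b ∈ R → b⁻¹ * c ∈ R → a⁻¹ * c ∈ R := fun a b c hab hbc => by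
      have := mul_mem hab hbc
      rwa [mul_assoc, mul_inv_cancel_left] at this
    -- the sign of `d`
    have hε : ∃ ε : ℤ, (ε = 1 ∨ ε = -1) ∧ ∀ a ∈ X, (a ^ ε)⁻¹ * (d * a * d⁻¹) ∈ R := by
      rcases hsign with hs | hs
      · exact ⟨1, Or.inl rfl, fun a ha => by
          rw [zpow_one]; exact hrad _ (mul_mem (inv_mem ha) (h.nX.conj_mem a ha d)) (hs a (hmv.ge ha))⟩
      · refine ⟨-1, Or.inr rfl, fun a ha => ?_⟩
        rw [zpow_neg, zpow_one, inv_inv]
        have h3 : d * a * d⁻¹ * a ∈ R := hrad _ (mul_mem (h.nX.conj_mem a ha d) ha) (hs a (hmv.ge ha))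
        have h4 := hRn a ha _ h3
        rwa [show a * (d * a * d⁻¹ * a) * a⁻¹ = a * (d * a * d⁻¹) by group] at h4
    obtain ⟨ε, hε1, hdε⟩ := hε
    have hRd : ∀ b ∈ R, d * b * d⁻¹ ∈ R := fun b hb => by
      have := mul_mem (zpow_mem hb ε) (hdε b hb.1)
      rwa [mul_inv_cancel_left] at this
    have hεi : ∀ a : H, (a ^ ε) ^ ε = a := fun a => by
      rw [← zpow_mul]; rcases hε1 with rfl | rfl <;> simp
    -- powers respect congruences
    have hRz : ∀ a b : H, a ∈ X → a⁻¹ * b ∈ R → (a ^ ε)⁻¹ * (b ^ ε) ∈ R := fun a b ha hab => by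
      rcases hε1 with rfl | rfl
      · simpa using hab
      · simp only [zpow_neg, zpow_one, inv_inv]
        have := hRn a ha _ (inv_mem hab)
        rwa [show a * (a⁻¹ * b)⁻¹ * a⁻¹ = a * b⁻¹ by group] at this
    have hdi : ∀ a ∈ X, (a ^ ε)⁻¹ * (d⁻¹ * a * d) ∈ R := fun a ha => by
      set c := d⁻¹ * a * d with hc
      have hcX : c ∈ X := by have := h.nX.conj_mem a ha d⁻¹; rwa [inv_inv] at this
      have h3 := hdε c hcX
      rw [show d * c * d⁻¹ = a by rw [hc]; group] at h3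
      have h4 := hRz _ _ (zpow_mem hcX ε) h3
      rw [hεi] at h4
      have h5 := inv_mem h4
      rwa [mul_inv_rev, inv_inv] at h5
    have hgt : t⁻¹ * (g * t * g⁻¹) ∈ R := by
      set t1 := d⁻¹ * t * d with ht1
      set t2 := x⁻¹ * t1 * x with ht2
      set t3 := d * t2 * d⁻¹ with ht3
      have ht1X : t1 ∈ X := by have := h.nX.conj_mem t ht d⁻¹; rwa [inv_inv] at this
      have ht2X : t2 ∈ X := by have := h.nX.conj_mem t1 ht1X x⁻¹; rwa [inv_inv] at this
      have e1 := hRx _ (hdε t2 ht2X)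
      rw [show x * ((t2 ^ ε)⁻¹ * (d * t2 * d⁻¹)) * x⁻¹ = (x * t2 ^ ε * x⁻¹)⁻¹ * (x * t3 * x⁻¹) by rw [ht3]; group,
        ← conj_zpow, show x * t2 * x⁻¹ = t1 by rw [ht2]; group] at e1
      have e2 := hRz _ _ (zpow_mem ht ε) (hdi t ht)
      rw [hεi] at e2
      have e3 := hcong _ _ _ e2 e1
      rwa [show x * t3 * x⁻¹ = g * t * g⁻¹ by rw [ht3, ht2, ht1, hg, commutatorElement_def]; group] at e3
    exact hχ (Units.ext (smul_left_injective F hv₁0 ((((mem_piece ρ).1 hv₁ ⟨_, hZ'⟩).symm.trans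
      (hgt.2 y (hmv.ge hy) v₁ hv₁)).trans (one_smul F v₁).symm)))

end Frame

end Cfsg.Lib.FitHeight
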