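import Cfsg.Agent.FitHeight.Core
import Cfsg.Agent.FitHeight.Classes

/-!
The first moved level and the ascent along the tower.
-/

set_option autoImplicit false
set_option linter.unusedSectionVars false
set_option linter.style.haveILetI false
set_option linter.unusedVariables false
set_option maxHeartbeats 1600000

namespace Cfsg.Lib.FitHeight

open scoped commutatorElement

universe u

variable {Γ : Type u} [Group Γ] [Finite Γ] {G : Subgroup Γ} {n : ℕ} {s : Γ} {r : ℕ}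

/-- A fixed element of a residual of the fixed points, seen on the next level. -/
def Tower.Good (T : Tower G n) (s : Γ) (j m : ℕ) : Prop :=
  ∃ d ∈ R m (cfix G s), d ∈ T.X j ∧ (∃ e, d ^ T.q j ^ e = 1) ∧ (j = n → d ≠ 1) ∧ (j < n → T.Seen s j d)

namespace Tower

variable (T : Tower G n)

theorem sylPart_normal_cfix {g : Γ} (hg : g ∈ cfix G s) : Commute g s := (mem_cfix.1 hg).2.symm

/-- A seen element may be replaced modulo the kernel. -/
theorem seen_congr {j : ℕ} (hj : j < n) {e e' : Γ} (h : T.Seen s j e) (hee : e⁻¹ * e' ∈ T.K j) : T.Seen s j e' := by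
  haveI := T.nX
  haveI := T.nL
  obtain ⟨w, hw, hwM, hwn⟩ := h
  have hwX : w ∈ T.X (j + 1) :=
    (sup_le (Subgroup.commutator_le_left _ _) (T.hLX _ hj) : _ ≤ T.X (j + 1)) hwM
  refine ⟨w, hw, hwM, fun hn => hwn ?_⟩
  have hk : ⁅w, e'⁻¹ * e⁆ ∈ T.L (j + 1) := comm_symm_mem (T.comm_cgrp hj (by
    have := inv_mem hee
    rwa [mul_inv_rev, inv_inv] at this) hwX)
  rw [show ⁅w, e⁆ = ⁅w, e'⁆ * (e' * ⁅w, e'⁻¹ * e⁆ * e'⁻¹) by simp only [commutatorElement_def]; group]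
  exact mul_mem hn ((T.nL _).conj_mem _ hk e')

theorem eq_zero_pow [G.Normal] (T : Tower G n) {x : Γ} (hx : x ∈ T.X n) : ∃ e, x ^ T.q n ^ e = 1 := by
  obtain ⟨e, he⟩ := T.pgrp n le_rfl x hx
  rw [T.ktop, Subgroup.mem_bot] at he
  exact ⟨e, he⟩

/-- The ascent by one level. -/
theorem step [G.Normal] (hS : Setting G s r n) {j m : ℕ} (hj : j < n) (h : T.Good s j m) :
    T.Good s (j + 1) (m + 1) := by
  haveI := T.nX
  haveI := T.nL
  haveI := T.nK
  obtain ⟨d, hdR, hdX, ⟨e, he⟩, -, hseen⟩ := h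
  obtain ⟨w₀, hw₀, hw₀M, hw₀n⟩ := hseen hj
  have hdC : d ∈ cfix G s := R_le m _ hdR
  have hds : Commute d s := sylPart_normal_cfix hdC
  haveI := Fact.mk (T.prime j hj.le)
  obtain ⟨P, hP, hdP, -⟩ := T.exists_sylPart hS hj.le (Subgroup.zpowers d) (Subgroup.zpowers_le.2 hdX)
    (isPGroup_zpowers he) (Cfsg.Lib.Coprime.mem_normalizer_of_conj_mem
      (fun y hy => by
        obtain ⟨i, rfl⟩ := Subgroup.mem_zpowers_iff.1 hy
        rw [(hds.symm.zpow_right i).eq, mul_inv_cancel_right]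
        exact Subgroup.zpow_mem _ (Subgroup.mem_zpowers d) i)
      (fun y hy => by
        obtain ⟨i, rfl⟩ := Subgroup.mem_zpowers_iff.1 hy
        rw [mul_assoc, (hds.zpow_left i).eq, inv_mul_cancel_left]
        exact Subgroup.zpow_mem _ (Subgroup.mem_zpowers d) i))
  have hMX : ⁅T.X (j + 1), ⁅T.X j, Subgroup.zpowers s⁆⁆ ⊔ T.L (j + 1) ≤ T.X (j + 1) :=
    sup_le (Subgroup.commutator_le_left _ _) (T.hLX _ hj)
  rcases eq_or_lt_of_le (show j + 1 ≤ n by omega) with hn | hn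
  · subst hn
    have h1 := T.comm_fix_mem (s := s) hj ⟨hw₀, hMX hw₀M⟩ hdR ⟨e, he⟩
    rw [T.ktop, sup_bot_eq] at h1
    refine ⟨_, h1.1, h1.2, T.eq_zero_pow h1.2, fun _ h => hw₀n (h ▸ one_mem _), fun h => absurd h (lt_irrefl _)⟩
  have hw₀P : w₀ ∈ ⁅T.X (j + 1), ⁅P, Subgroup.zpowers s⁆⁆ ⊔ T.L (j + 1) :=
    T.comm_absorb hj (T.commutator_le_sup P hP.inv hP.cover) hw₀M
  have hdP' : d ∈ P := hdP (Subgroup.mem_zpowers d)
  obtain ⟨w, hw, hws⟩ := T.core_step hS hn hP hdC (Subgroup.le_normalizer hdP') (fun c hc hcP => by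
    rw [show ⁅d, c⁆ = ⁅c, d⁆⁻¹ by rw [commutatorElement_inv]]
    exact inv_mem (T.cen j hj.le (Subgroup.commutator_mem_commutator hc hdX))) (Or.inr hdX) hw₀P hw₀ hw₀n
  obtain ⟨a, ha, k, hk, hak⟩ := Subgroup.mem_sup_of_normal_right.1 (T.comm_fix_mem (s := s) hj hw hdR ⟨e, he⟩)
  obtain ⟨u, hu, ⟨e', he'⟩, huc⟩ := exists_qpart (T.K (j + 1)) a (T.prime (j + 1) hj) (T.pgrp _ hj a ha.2)
  refine ⟨u, Subgroup.zpowers_le.2 ha.1 hu, Subgroup.zpowers_le.2 ha.2 hu, ⟨e', he'⟩, fun h => absurd h hn.ne,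
    fun _ => T.seen_congr hn hws ?_⟩
  rw [← hak, mul_inv_rev, mul_assoc]
  exact mul_mem (inv_mem hk) huc

theorem ascend [G.Normal] (hS : Setting G s r n) {j m : ℕ} (h : T.Good s j m) :
    ∀ i, j + i ≤ n → T.Good s (j + i) (m + i) := by
  intro i
  induction i with
  | zero => intro _; exact h
  | succ i ih => intro hi; exact T.step hS (show j + i < n by omega) (ih (by omega))

theorem R_ne_bot_of_good [G.Normal] (hS : Setting G s r n) {j m : ℕ} (hj : j ≤ n) (h : T.Good s j m)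
    {l : ℕ} (hl : l ≤ m + (n - j)) : R l (cfix G s) ≠ ⊥ := by
  obtain ⟨d, hd, -, -, hd1, -⟩ := T.ascend hS h (n - j) (by omega)
  intro hb
  have h2 := R_antitone (cfix G s) hl hd
  change d ∈ R l (cfix G s) at h2
  rw [hb, Subgroup.mem_bot] at h2
  exact hd1 (by omega) h2

/-- The first moved level is generated by its commutators with the automorphism. -/
theorem le_mv [G.Normal] (hS : Setting G s r n) {k : ℕ} (hk : k ≤ n) (hfix : ∀ l < k, l ≤ n → T.FixedAt s l)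
    (hmov : ¬ T.FixedAt s k) : T.X k ≤ ⁅T.X k, Subgroup.zpowers s⁆ ⊔ T.K k := by
  haveI := T.nX
  haveI := T.nL
  refine T.le_sup_K (hS.lder T) hk (Subgroup.commutator_le_left _ _) ?_
  conv_lhs => rw [← Cfsg.Lib.Coprime.commutator_sup_centralizer (A := Subgroup.zpowers s) (K := T.X k)
    (by rw [Subgroup.normalizer_eq_top_iff.2 (T.nX k)]; exact le_top)
    (by
      rw [Nat.card_zpowers]
      exact ((hS.hr.coprime_iff_not_dvd.2 (hS.not_dvd (T.le_G hk)))).coprime_dvd_left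
        (orderOf_dvd_of_pow_eq_one hS.hs))
    (Or.inl (Group.isSolvable_of_comm fun a b => mul_comm' a b))]
  refine sup_le le_sup_left fun c hc => Subgroup.mem_sup_right (T.no_fix hS hk hfix hmov hc.1 ?_)
  rw [commutatorElement_eq_one_iff_mul_comm.2 (Subgroup.mem_centralizer_iff.1 hc.2 s (Subgroup.mem_zpowers s))]
  exact one_mem _

/-- The first moved level moves the next one through the automorphism. -/
theorem le_comm_mv [G.Normal] (hS : Setting G s r n) {k : ℕ} (hk : k < n) (hfix : ∀ l < k, l ≤ n → T.FixedAt s l)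
    (hmov : ¬ T.FixedAt s k) {P : Subgroup Γ} (hP : T.SylPart s k P) :
    T.X (k + 1) ≤ ⁅T.X (k + 1), ⁅P, Subgroup.zpowers s⁆⁆ ⊔ T.L (k + 1) :=
  (T.le_comm_next hk).trans (T.comm_absorb hk ((T.le_mv hS hk.le hfix hmov).trans
    (sup_le (T.commutator_le_sup P hP.inv hP.cover) le_sup_right)))

theorem cfix_normalizes_R (j : ℕ) : cfix G s ≤ Subgroup.normalizer (R j (cfix G s) : Set Γ) := fun c hc => by
  refine Cfsg.Lib.Coprime.mem_normalizer_of_conj_mem (fun y hy => ?_) fun y hy => ?_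
  · rw [show c * y * c⁻¹ = ⁅c, y⁆ * y by simp only [commutatorElement_def]; group]
    exact mul_mem (comm_mem_R_of_mem hc hy) hy
  · rw [show c⁻¹ * y * c = ⁅c⁻¹, y⁆ * y by simp only [commutatorElement_def]; group]
    exact mul_mem (comm_mem_R_of_mem (inv_mem hc) hy) hy

theorem s_normalizes_R (j : ℕ) : s ∈ Subgroup.normalizer (R j (cfix G s) : Set Γ) := by
  refine Cfsg.Lib.Coprime.mem_normalizer_of_conj_mem (fun y hy => ?_) fun y hy => ?_
  · rw [(mem_cfix.1 (R_le j _ hy)).2.eq, mul_inv_cancel_right]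
    exact hy
  · rw [mul_assoc, ← (mem_cfix.1 (R_le j _ hy)).2.eq, inv_mul_cancel_left]
    exact hy

theorem qelem_mem_cgrp [G.Normal] {k : ℕ} (hk : k + 1 ≤ n) {g : Γ} (hg : g ∈ R k G)
    (hq : ∃ e, g ^ T.q (k + 1) ^ e = 1) : g ∈ cgrp (h := T.nL (k + 1)) (T.X (k + 1)) (T.L (k + 1)) := by
  haveI := T.nX
  haveI := T.nL
  exact qelem_cen G k (T.prime _ hk) (T.hne _ hk) (T.hLX _ hk)
    (fun y hy => by obtain ⟨e, he⟩ := T.pgrp _ hk y hy; exact ⟨e, T.hKL _ hk he⟩) (T.irr _ hk) (T.Rcen _ hk) g hg hq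

variable {k : ℕ} [Fact (T.q (k + 1)).Prime] (S : SectRep (T.X (k + 1)) (T.L (k + 1)) (T.q (k + 1)))

include S

theorem mv_image [G.Normal] (hS : Setting G s r n) (hk : k < n) (hfix : ∀ l < k, l ≤ n → T.FixedAt s l)
    (hmov : ¬ T.FixedAt s k) :
    ⁅(T.X k).map (img (bcRep S)), Subgroup.zpowers (img (bcRep S) s)⁆ = (T.X k).map (img (bcRep S)) := by
  haveI := T.nX
  rw [← MonoidHom.map_zpowers, ← Subgroup.map_commutator]
  refine le_antisymm (Subgroup.map_mono (Subgroup.commutator_le_left _ _)) ?_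
  refine (Subgroup.map_mono (T.le_mv hS hk.le hfix hmov)).trans ?_
  rw [Subgroup.map_sup]
  exact sup_le le_rfl (by rintro _ ⟨a, ha, rfl⟩; rw [T.img_K S hk ha]; exact one_mem _)

theorem nontrivial_rep [G.Normal] (hk : k < n) : Nontrivial (Fin S.D → AlgebraicClosure (ZMod (T.q (k + 1)))) := by
  haveI := T.nX
  obtain ⟨x, hx, hxL⟩ := SetLike.not_le_iff_exists.1 (T.hne (k + 1) hk)
  exact ⟨emb _ (S.ι x), 0, fun e => hxL ((S.ker x hx).1 (emb_injective (e.trans (map_zero _).symm)))⟩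

/-- Fixed vectors above the first moved level. -/
theorem fixed_next [G.Normal] (hS : Setting G s r n) (hk : k < n) (hfix : ∀ l < k, l ≤ n → T.FixedAt s l)
    (hmov : ¬ T.FixedAt s k) :
    (∃ w ∈ cfix G s ⊓ T.X (k + 1), w ∉ T.L (k + 1)) ∧
      ∀ z ∈ cfix G s, z ∈ T.L k → z ∉ T.K k → ∃ w ∈ cfix G s ⊓ T.X (k + 1), ⁅w, z⁆ ∉ T.L (k + 1) := by
  classical
  haveI := T.nX
  haveI := T.nL
  set φ := img (bcRep S) with hφ
  have hF := T.frame S hS hk
  have hmv := T.mv_image S hS hk hfix hmov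
  haveI := T.nontrivial_rep S hk
  have hfree : (T.L k).map φ = ⊥ → ∃ w ∈ cfix G s ⊓ T.X (k + 1), w ∉ T.L (k + 1) := fun hZ => by
    obtain ⟨v, hv0, hv⟩ := hF.exists_fixed_free hmv hZ
    exact T.exists_fixed_lift_ne S hS hk hv hv0
  rcases k with _ | i
  · have hL0 : ∀ z ∈ T.L 0, z ∈ T.K 0 := fun z hz => T.bottom hz
    exact ⟨hfree (le_bot_iff.1 (by rintro _ ⟨z, hz, rfl⟩; exact Subgroup.mem_bot.2 (T.img_K S hk (hL0 z hz)))),
      fun z _ hz hzK => absurd (hL0 z hz) hzK⟩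
  set A := R i (cfix G s) with hA
  let Ds : Set (bcRep S).toHomUnits.range :=
    φ '' {g | g ∈ A ∧ ∃ p e : ℕ, p.Prime ∧ p ≠ T.q (i + 1) ∧ g ^ p ^ e = 1}
  have key : ∀ z ∈ (T.L (i + 1)).map φ, z ≠ 1 → ∃ v, bcRep S s v = v ∧ v ≠ 0 ∧
      (Commute (φ s) z → imgRep (bcRep S) z v ≠ v) := by
    intro z hz hz1
    refine hF.exists_fixed_ne hmv Ds ?_ (fun R' hZR hRX hR => ?_) hz hz1
    · rintro _ ⟨g, ⟨hgA, p, e, hp, hpq, hgp⟩, rfl⟩
      have hgC : g ∈ cfix G s := R_le i _ hgA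
      refine ⟨(sylPart_normal_cfix hgC).map φ,
        fun h => Tower.not_dvd_orderOf hS (mem_cfix.1 hgC).1 (h.trans (orderOf_map_dvd φ g)), ?_⟩
      rintro _ ⟨l, hl, rfl⟩
      exact T.commute_img S hk (T.Acen i hk.le g (R_mono inf_le_left i hgA)
        ((((Nat.coprime_primes hp (T.prime _ hk.le)).2 hpq).pow_left e).coprime_dvd_left
          (orderOf_dvd_of_pow_eq_one hgp)) l hl)
    set Rp : Subgroup Γ := T.X (i + 1) ⊓ R'.comap φ with hRp
    have hLR : T.L (i + 1) ≤ Rp := fun l hl =>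
      ⟨T.hLX _ hk.le hl, hZR (Subgroup.mem_map_of_mem φ hl)⟩
    have hconj : ∀ g : Γ, (∀ t ∈ T.X (i + 1), ⁅t, g⁆ ∈ Rp) → ∀ x ∈ Rp, g * x * g⁻¹ ∈ Rp := fun g hg x hx => by
      rw [show g * x * g⁻¹ = ⁅g, x⁆ * x by simp only [commutatorElement_def]; group]
      exact mul_mem (comm_symm_mem (hg x hx.1)) hx
    have hmul : ∀ g h : Γ, (∀ t ∈ T.X (i + 1), ⁅t, g⁆ ∈ Rp) → (∀ t ∈ T.X (i + 1), ⁅t, h⁆ ∈ Rp) →
        ∀ t ∈ T.X (i + 1), ⁅t, g * h⁆ ∈ Rp := fun g h hg hh t ht => by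
      rw [show ⁅t, g * h⁆ = ⁅t, g⁆ * (g * ⁅t, h⁆ * g⁻¹) by simp only [commutatorElement_def]; group]
      exact mul_mem (hg t ht) (hconj g hg _ (hh t ht))
    let N : Subgroup Γ :=
      { carrier := {g | ∀ t ∈ T.X (i + 1), ⁅t, g⁆ ∈ Rp}
        one_mem' := fun t _ => by rw [commutatorElement_one_right]; exact one_mem Rp
        mul_mem' := fun {a b} ha hb => hmul a b ha hb
        inv_mem' := fun {g} hg => by
          have hpow : ∀ m : ℕ, ∀ t ∈ T.X (i + 1), ⁅t, g ^ m⁆ ∈ Rp := fun m => by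
            induction m with
            | zero => intro t _; rw [pow_zero, commutatorElement_one_right]; exact one_mem Rp
            | succ m ih => rw [pow_succ]; exact hmul _ _ ih hg
          rw [show g⁻¹ = g ^ (orderOf g - 1) by
            refine inv_eq_of_mul_eq_one_right ?_
            rw [← pow_succ', Nat.sub_add_cancel (orderOf_pos g), pow_orderOf_eq_one]]
          exact hpow _ }
    have hAN : A ≤ N := by
      by_contra hn
      obtain ⟨p, hp, g, hg, ⟨e, he⟩, hgN⟩ := exists_qelem_not_mem hn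
      apply hgN
      intro t ht
      by_cases hpq : p = T.q (i + 1)
      · exact hLR (comm_symm_mem (mem_cgrp.1 (T.qelem_mem_cgrp hk.le (R_mono inf_le_left i hg) ⟨e, hpq ▸ he⟩) t ht))
      · refine ⟨comm_symm_mem (T.comm_mem_X _ g ht), ?_⟩
        change φ ⁅t, g⁆ ∈ R'
        have h1 := hR (φ g) ⟨g, ⟨hg, p, e, hp, hpq, he⟩, rfl⟩ (φ t⁻¹) (Subgroup.mem_map_of_mem φ (inv_mem ht))
        convert h1 using 1
        simp only [map_inv, map_mul, commutatorElement_def]; group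
    have hnle : ¬ A ≤ cgrp (T.X (i + 1)) (T.L (i + 1)) := T.not_R_le_cgrp (hS.lder T) (by omega)
      (fun l hl => T.cover_of_fixedAt hS (by omega) (hfix l (by omega) (by omega)))
    have hle := T.le_commutator hS hk.le hfix A (cfix_normalizes_R i) (s_normalizes_R i) hnle
    rintro _ ⟨x, hx, rfl⟩
    have h2 : (⁅T.X (i + 1), A⁆ ⊔ T.L (i + 1)) ≤ Rp :=
      sup_le (Subgroup.commutator_le.2 fun t ht g hg => hAN hg t ht) hLR
    exact (h2 (hle hx)).2
  refine ⟨?_, fun z hzC hzL hzK => ?_⟩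
  · by_cases hZ : (T.L (i + 1)).map φ = ⊥
    · exact hfree hZ
    · obtain ⟨z, hz, hz1⟩ := (Subgroup.bot_or_exists_ne_one _).resolve_left hZ
      obtain ⟨v, hv, hv0, -⟩ := key z hz hz1
      exact T.exists_fixed_lift_ne S hS hk hv hv0
  · by_contra hc
    push Not at hc
    obtain ⟨v, hv, -, hvz⟩ := key (φ z) (Subgroup.mem_map_of_mem φ hzL)
      fun e => hzK ((T.mem_K hk (T.hLX _ hk.le hzL)).2 ((T.img_eq_one S z).1 e))
    exact hvz ((mem_cfix.1 hzC).2.map φ) (T.exists_fixed_moved S hS hk hc hv)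

end Tower

namespace Tower

variable (T : Tower G n)

/-- The start at the bottom. -/
theorem start [G.Normal] (hS : Setting G s r n) {k : ℕ} (hk : k + 1 < n) (hfix : ∀ l < k, l ≤ n → T.FixedAt s l)
    (hmov : ¬ T.FixedAt s k) : T.Good s (k + 1) 0 := by
  haveI := T.nX
  haveI := T.nL
  haveI := T.nK
  haveI := Fact.mk (T.prime (k + 1) hk.le)
  obtain ⟨S⟩ := exists_sectRep (q := T.q (k + 1)) (T.X (k + 1)) (T.L (k + 1)) (T.com _ hk.le) (T.pow _ hk.le)
  obtain ⟨⟨w, hw, hwL⟩, -⟩ := T.fixed_next S hS (by omega) hfix hmov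
  obtain ⟨P, hP, -, -⟩ := T.exists_sylPart hS (show k ≤ n by omega) ⊥ bot_le IsPGroup.of_bot
    (by rw [Subgroup.normalizer_eq_top_iff.2 (inferInstance : (⊥ : Subgroup Γ).Normal)]; trivial)
  obtain ⟨y, hy, hys⟩ := T.core_start hS hk hP (T.le_comm_mv hS (by omega) hfix hmov hP hw.2) hw.1 hwL
  obtain ⟨u, hu, ⟨e, he⟩, huc⟩ := exists_qpart (T.K (k + 1)) y (T.prime _ hk.le) (T.pgrp _ hk.le y hy.2)
  exact ⟨u, Subgroup.zpowers_le.2 hy.1 hu, Subgroup.zpowers_le.2 hy.2 hu, ⟨e, he⟩, fun h => absurd h hk.ne,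
    fun _ => T.seen_congr hk hys huc⟩

/-- The start when the fixed points move the centre. -/
theorem caseI [G.Normal] (hS : Setting G s r n) {i : ℕ} (hk : i + 1 + 1 < n)
    (hfix : ∀ l < i + 1 + 1, l ≤ n → T.FixedAt s l) (hmov : ¬ T.FixedAt s (i + 1 + 1)) {x l : Γ}
    (hx : x ∈ R i (cfix G s)) (hl : l ∈ cfix G s) (hlL : l ∈ T.L (i + 1 + 1))
    (hlx : ⁅l, x⁆ ∉ T.K (i + 1 + 1)) : T.Good s (i + 1 + 1) i := by
  haveI := T.nX
  haveI := T.nL
  haveI := T.nK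
  set k := i + 1 + 1 with hkdef
  haveI := Fact.mk (T.prime (k + 1) hk)
  have hcX : ⁅l, x⁆ ∈ T.X k := comm_symm_mem (T.comm_mem_X k x (T.hLX k hk.le hlL))
  have hcL : ⁅l, x⁆ ∈ T.L k := by
    rw [show ⁅l, x⁆ = l * (x * l⁻¹ * x⁻¹) by simp only [commutatorElement_def]; group]
    exact mul_mem hlL ((T.nL k).conj_mem _ (inv_mem hlL) x)
  obtain ⟨u, hu, ⟨e, he⟩, huc⟩ := exists_qpart (T.K k) ⁅l, x⁆ (T.prime k hk.le) (T.pgrp k hk.le _ hcX)
  have huR : u ∈ R i (cfix G s) := Subgroup.zpowers_le.2 (comm_mem_R_of_mem hl hx) hu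
  have huK : u ∉ T.K k := fun h => hlx (by
    have := mul_mem h (inv_mem huc)
    rwa [mul_inv_rev, inv_inv, mul_inv_cancel_left] at this)
  obtain ⟨S⟩ := exists_sectRep (q := T.q (k + 1)) (T.X (k + 1)) (T.L (k + 1)) (T.com _ hk) (T.pow _ hk)
  obtain ⟨w, hw, hwu⟩ := (T.fixed_next S hS hk hfix hmov).2 u (R_le i _ huR) (Subgroup.zpowers_le.2 hcL hu) huK
  exact ⟨u, huR, Subgroup.zpowers_le.2 hcX hu, ⟨e, he⟩, fun h => absurd h hk.ne, fun _ => ⟨w, hw.1,
    T.comm_absorb hk (T.le_mv hS hk.le hfix hmov) (T.le_comm_next hk hw.2), hwu⟩⟩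

/-- The start when the fixed points centralise the centre. -/
theorem caseII [G.Normal] (hS : Setting G s r n) {i : ℕ} (hk : i + 1 + 1 + 1 < n)
    (hfix : ∀ l < i + 1 + 1, l ≤ n → T.FixedAt s l) (hmov : ¬ T.FixedAt s (i + 1 + 1))
    (hII : ∀ x ∈ R i (cfix G s), ∀ l ∈ cfix G s, l ∈ T.L (i + 1 + 1) → ⁅l, x⁆ ∈ T.K (i + 1 + 1)) :
    T.Good s (i + 1 + 1 + 1) (i + 1) := by
  classical
  haveI := T.nX
  haveI := T.nL
  haveI := T.nK
  set k := i + 1 + 1 with hkdef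
  have hkn : k < n := by omega
  obtain ⟨P, hP, -, hPh⟩ := T.exists_sylPart hS hkn.le ⊥ bot_le IsPGroup.of_bot
    (by rw [Subgroup.normalizer_eq_top_iff.2 (inferInstance : (⊥ : Subgroup Γ).Normal)]; trivial)
  set CN := cfix G s ⊓ Subgroup.normalizer (P : Set Γ) with hCN
  set C := cgrp (T.X k) (T.L k) with hC
  have hXC : T.X k ≤ C := fun a ha => mem_cgrp.2 fun b hb => T.com k hkn.le (Subgroup.commutator_mem_commutator ha hb)
  set θ := QuotientGroup.mk' C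
  have hmap : (cfix G s).map θ = CN.map θ := by
    refine le_antisymm ?_ (Subgroup.map_mono inf_le_left)
    rintro _ ⟨c, hc, rfl⟩
    obtain ⟨x, hx, hxc⟩ := T.exists_cfix_normalizer hS hkn.le hPh hP.inv hc
    refine ⟨x⁻¹ * c, hxc, ?_⟩
    rw [map_mul, map_inv, show θ x = 1 from (QuotientGroup.eq_one_iff x).2 (hXC hx.2), inv_one, one_mul]
  set A1 := R (i + 1) CN with hA1
  have hA1n : ¬ A1 ≤ C := by
    intro hle
    refine T.not_R_le_cgrp (hS.lder T) (show i + 1 < n by omega)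
      (H := cfix G s) (fun l hl => T.cover_of_fixedAt hS (by omega) (hfix l (by omega) (by omega))) ?_
    intro g hg
    have h1 : θ g ∈ (R (i + 1) CN).map θ := by
      rw [map_R_of_finite, ← hmap, ← map_R_of_finite]
      exact Subgroup.mem_map_of_mem θ hg
    obtain ⟨a, ha, hag⟩ := h1
    exact (QuotientGroup.eq_one_iff g).1 (hag.symm.trans ((QuotientGroup.eq_one_iff a).2 (hle ha)))
  by_cases hex : ∃ d ∈ A1, ∃ p e : ℕ, p.Prime ∧ p ≠ T.q k ∧ d ^ p ^ e = 1 ∧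
      ∃ w ∈ cfix G s ⊓ T.X (k + 1), ⁅w, d⁆ ∉ T.L (k + 1)
  · obtain ⟨d, hd, p, e, hp, hpq, hdp, w, hw, hwd⟩ := hex
    have hdN := R_le (i + 1) CN hd
    have hdc : ∀ c ∈ T.L k, c ∈ ⁅P, Subgroup.zpowers s⁆ → ⁅d, c⁆ ∈ T.K k := fun c hc _ =>
      T.Acen (i + 1) hkn.le d (R_mono (inf_le_left.trans inf_le_left) (i + 1) hd)
        ((((Nat.coprime_primes hp (T.prime _ hkn.le)).2 hpq).pow_left e).coprime_dvd_left
          (orderOf_dvd_of_pow_eq_one hdp)) c hc
    obtain ⟨w', hw', hws⟩ := T.core_step hS hk hP hdN.1 hdN.2 hdc (Or.inl ⟨p, e, hp, hpq, hdp⟩)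
      (T.le_comm_mv hS hkn hfix hmov hP hw.2) hw.1 hwd
    have hcX : ⁅w', d⁆ ∈ T.X (k + 1) := comm_symm_mem (T.comm_mem_X _ d hw'.2)
    obtain ⟨u, hu, ⟨e', he'⟩, huc⟩ := exists_qpart (T.K (k + 1)) ⁅w', d⁆ (T.prime _ hk.le) (T.pgrp _ hk.le _ hcX)
    exact ⟨u, Subgroup.zpowers_le.2 (comm_mem_R_of_mem hw'.1 (R_mono inf_le_left (i + 1) hd)) hu,
      Subgroup.zpowers_le.2 hcX hu, ⟨e', he'⟩, fun h => absurd h hk.ne, fun _ => T.seen_congr hk hws huc⟩
  exfalso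
  push Not at hex
  haveI := Fact.mk (T.prime (k + 1) hk.le)
  obtain ⟨S⟩ := exists_sectRep (q := T.q (k + 1)) (T.X (k + 1)) (T.L (k + 1)) (T.com _ hk.le) (T.pow _ hk.le)
  set φ := img (bcRep S) with hφ
  have hF := T.frame S hS hkn
  have hmv := T.mv_image S hS hkn hfix hmov
  -- the facts about a single element
  have hd' : ∀ d ∈ A1, ∀ p e : ℕ, p.Prime → p ≠ T.q k → d ^ p ^ e = 1 →
      Commute (φ d) (φ s) ∧ ¬ r ∣ orderOf (φ d) ∧ (orderOf (φ d)).Coprime (T.q k) ∧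
        (∀ z ∈ (T.L k).map φ, Commute (φ d) z) ∧
          ∀ v, imgRep (bcRep S) (φ s) v = v → imgRep (bcRep S) (φ d) v = v := by
    intro d hd p e hp hpq hdp
    have hdN := R_le (i + 1) CN hd
    have hcop : (orderOf d).Coprime (T.q k) := (((Nat.coprime_primes hp (T.prime _ hkn.le)).2 hpq).pow_left e
      ).coprime_dvd_left (orderOf_dvd_of_pow_eq_one hdp)
    refine ⟨(sylPart_normal_cfix hdN.1).map φ,
      fun h => Tower.not_dvd_orderOf hS (mem_cfix.1 hdN.1).1 (h.trans (orderOf_map_dvd φ d)),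
      hcop.coprime_dvd_left (orderOf_map_dvd φ d), ?_, fun v hv => ?_⟩
    · rintro _ ⟨l, hl, rfl⟩
      exact T.commute_img S hkn (T.Acen (i + 1) hkn.le d (R_mono (inf_le_left.trans inf_le_left) (i + 1) hd) hcop l hl)
    · exact T.exists_fixed_moved S hS hkn (fun w hw => hex d hd p e hp hpq hdp w hw) hv
  have hstab : ∀ g : (bcRep S).toHomUnits.range, g ∈ stab (imgRep (bcRep S)) ⊥ := fun g =>
    mem_stab_of_forall _ fun v hv => by rw [(Submodule.mem_bot _).1 hv, map_zero]; exact zero_mem _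
  have hB : ∀ d ∈ A1, ∀ p e : ℕ, p.Prime → p ≠ T.q k → d ^ p ^ e = 1 →
      (∀ v, imgRep (bcRep S) (φ s) v = v → imgRep (bcRep S) (φ d) v - v ∈
        (⊥ : Submodule (AlgebraicClosure (ZMod (T.q (k + 1)))) (Fin S.D → AlgebraicClosure (ZMod (T.q (k + 1)))))) ∧
        ∀ v ∈ (⊥ : Submodule (AlgebraicClosure (ZMod (T.q (k + 1)))) (Fin S.D → AlgebraicClosure (ZMod (T.q (k + 1))))),
          imgRep (bcRep S) (φ s) v = v → imgRep (bcRep S) (φ d) v = v := fun d hd p e hp hpq hdp => by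
    obtain ⟨-, -, -, -, h⟩ := hd' d hd p e hp hpq hdp
    exact ⟨fun v hv => by rw [h v hv, sub_self]; exact zero_mem _, fun v _ hv => h v hv⟩
  by_cases hab : ∀ a ∈ (T.X k).map φ, ∀ b ∈ (T.X k).map φ, Commute a b
  · apply hA1n
    by_contra hn
    obtain ⟨p, hp, d, hd, ⟨e, he⟩, hdC⟩ := exists_qelem_not_mem hn
    by_cases hpq : p = T.q k
    · exact hdC (T.qelem_mem_cgrp (k := i + 1) hkn.le (R_mono (inf_le_left.trans inf_le_left) (i + 1) hd)
        ⟨e, hpq ▸ he⟩)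
    obtain ⟨h1, h2, -, -, -⟩ := hd' d hd p e hp hpq he
    obtain ⟨b1, b2⟩ := hB d hd p e hp hpq he
    have hZ : (T.L k).map φ = ⊥ := le_bot_iff.1 (hF.gen.trans (Subgroup.commutator_le.2 fun a ha b hb => by
      rw [Subgroup.mem_bot, commutatorElement_eq_one_iff_commute]; exact hab a ha b hb))
    refine hdC (mem_cgrp.2 fun t ht => T.hKL k hkn.le ((T.mem_K hkn (T.comm_mem_X k d ht)).2 ((T.img_eq_one S _).1 ?_)))
    rw [map_commutatorElement, commutatorElement_eq_one_iff_commute]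
    exact hF.classes_abelian hmv hZ ⊥ h1 h2 (fun g _ => hstab g) (hstab _) (hstab _) b1 b2 _
      (Subgroup.mem_map_of_mem φ ht)
  -- commutators with the lower residual act trivially
  set θk := QuotientGroup.mk' C
  let N : Subgroup Γ := (Subgroup.centralizer ((R i CN).map θk : Set (Γ ⧸ C))).comap θk
  have hN : ∀ g, (∀ x ∈ R i CN, ⁅x, g⁆ ∈ C) → g ∈ N := fun g hg => by
    refine Subgroup.mem_comap.2 (Subgroup.mem_centralizer_iff.2 ?_)
    rintro _ ⟨x, hx, rfl⟩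
    refine (commutatorElement_eq_one_iff_mul_comm.1 ?_)
    rw [← map_commutatorElement]
    exact (QuotientGroup.eq_one_iff _).2 (hg x hx)
  have hAN : A1 ≤ N := by
    by_contra hn
    obtain ⟨p, hp, d, hd, ⟨e, he⟩, hdN⟩ := exists_qelem_not_mem hn
    refine hdN (hN d fun x hx => ?_)
    by_cases hpq : p = T.q k
    · have hdC : d ∈ C := T.qelem_mem_cgrp (k := i + 1) hkn.le (R_mono (inf_le_left.trans inf_le_left) (i + 1) hd)
        ⟨e, hpq ▸ he⟩
      rw [show ⁅x, d⁆ = (x * d * x⁻¹) * d⁻¹ from rfl]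
      exact mul_mem ((inferInstance : C.Normal).conj_mem d hdC x) (inv_mem hdC)
    obtain ⟨h1, h2, h3, h4, -⟩ := hd' d hd p e hp hpq he
    obtain ⟨b1, b2⟩ := hB d hd p e hp hpq he
    have hxC : x ∈ cfix G s := (R_le i CN hx).1
    have hcl := hF.classes hmv ⊥ h1 h2 h3 h4 (x := φ x) ((sylPart_normal_cfix hxC).map φ) (fun z hz hzs => by
        obtain ⟨a, ha, haz⟩ := T.exists_lift S hS hkn (Subgroup.map_mono (T.hLX k hkn.le) hz) hzs.symm
        rw [← haz] at hz ⊢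
        exact (T.commute_img S hkn (hII x (R_mono inf_le_left i hx) a ha.1 ((T.img_mem_Z S hkn ha.2).1 hz))).symm)
      (fun g _ => hstab g) (hstab _) (hstab _) (hstab _) b1 b2
    rw [hC, mem_cgrp]
    intro t ht
    set g := ⁅x, d⁆
    have h5 : ∀ u ∈ T.X k, u⁻¹ * (g * u * g⁻¹) ∈ T.L k := fun u hu => by
      refine T.mem_L_of_central (j := i + 1) S hkn hab (mul_mem (inv_mem hu) ((T.nX k).conj_mem u hu g)) fun y hy => ?_
      rw [map_mul, map_mul, map_mul, map_inv, map_inv, map_commutatorElement]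
      exact hcl _ (Subgroup.mem_map_of_mem φ hu) y hy
    have h6 := (T.nL k).conj_mem _ (h5 t ht) t
    rwa [show t * (t⁻¹ * (g * t * g⁻¹)) * t⁻¹ = ⁅g, t⁆ by simp only [commutatorElement_def]; group] at h6
  apply hA1n
  rw [hA1, R_eq_commutator]
  refine Subgroup.commutator_le.2 fun g hg x hx => ?_
  rw [← QuotientGroup.eq_one_iff, ← QuotientGroup.mk'_apply, map_commutatorElement, commutatorElement_eq_one_iff_mul_comm]
  exact (Subgroup.mem_centralizer_iff.1 (hAN hg) _ ⟨x, hx, rfl⟩).symm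

/-- The fixed points of a minimal group have height at most two less. -/
theorem conclusion [G.Normal] (T : Tower G n) (hS : Setting G s r n) (hn : 2 ≤ n) : R (n - 2) (cfix G s) ≠ ⊥ := by
  classical
  by_cases hall : ∀ l ≤ n - 2, T.FixedAt s l
  · exact T.R_ne_bot (hS.lder T) (by omega) fun l hl => T.cover_of_fixedAt hS (by omega) (hall l hl)
  push Not at hall
  obtain ⟨l₀, hl₀, hl₀m⟩ := hall
  have hex : ∃ l, ¬ T.FixedAt s l := ⟨l₀, hl₀m⟩
  set k := Nat.find hex with hk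
  have hkle : k ≤ n - 2 := (Nat.find_le hl₀m).trans hl₀
  have hmov : ¬ T.FixedAt s k := Nat.find_spec hex
  have hfix : ∀ l < k, l ≤ n → T.FixedAt s l := fun l hl _ => not_not.1 (Nat.find_min hex hl)
  by_cases hk1 : k ≤ 1
  · exact T.R_ne_bot_of_good hS (show k + 1 ≤ n by omega) (T.start hS (by omega) hfix hmov) (by omega)
  obtain ⟨i, hi⟩ : ∃ i, k = i + 1 + 1 := ⟨k - 2, by omega⟩
  rw [hi] at hmov hfix hkle
  by_cases hI : ∃ x ∈ R i (cfix G s), ∃ l ∈ cfix G s, l ∈ T.L (i + 1 + 1) ∧ ⁅l, x⁆ ∉ T.K (i + 1 + 1)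
  · obtain ⟨x, hx, l, hl, hlL, hlx⟩ := hI
    exact T.R_ne_bot_of_good hS (show i + 1 + 1 ≤ n by omega) (T.caseI hS (by omega) hfix hmov hx hl hlL hlx) (by omega)
  push Not at hI
  exact T.R_ne_bot_of_good hS (show i + 1 + 1 + 1 ≤ n by omega) (T.caseII hS (by omega) hfix hmov hI) (by omega)

end Tower

end Cfsg.Lib.FitHeight
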