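import Cfsg.Agent.HallHigman.Critical

/-!
Dimensions of centralizers: annihilating polynomials, and representations with scalar commutators.
-/

set_option autoImplicit false
set_option linter.unusedSectionVars false
set_option linter.style.haveILetI false
set_option linter.unusedVariables false

namespace Cfsg.Lib.FitHeight

open Module Cfsg.Lib.HallHigman

universe u v w

variable {F : Type u} [Field F]

/-- The centralizers of two invariant complements embed into the centralizer. -/
theorem finrank_cent_add {V : Type v} [AddCommGroup V] [Module F V] [FiniteDimensional F V] (u : Module.End F V)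
    {A B : Submodule F V} (hAB : IsCompl A B) (hA : ∀ x ∈ A, u x ∈ A) (hB : ∀ x ∈ B, u x ∈ B) :
    finrank F (endCentralizer (u.restrict hA)) + finrank F (endCentralizer (u.restrict hB)) ≤
      finrank F (endCentralizer u) := by
  set pA := A.projectionOnto B hAB with hpA
  set pB := B.projectionOnto A hAB.symm with hpB
  let Φ : (Module.End F A × Module.End F B) →ₗ[F] Module.End F V :=
    { toFun := fun fg => (A.subtype ∘ₗ fg.1 ∘ₗ pA) + (B.subtype ∘ₗ fg.2 ∘ₗ pB)
      map_add' := fun x y => by ext v; simp; abel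
      map_smul' := fun c x => by ext v; simp }
  have hΦA : ∀ fg (a : A), Φ fg a = fg.1 a := fun fg a => by
    have h1 : pA (a : V) = a := Submodule.projectionOnto_apply_left hAB a
    have h2 : pB (a : V) = 0 := (Submodule.projectionOnto_apply_eq_zero_iff hAB.symm).2 a.2
    simp [Φ, h1, h2]
  have hΦB : ∀ fg (b : B), Φ fg b = fg.2 b := fun fg b => by
    have h1 : pB (b : V) = b := Submodule.projectionOnto_apply_left hAB.symm b
    have h2 : pA (b : V) = 0 := (Submodule.projectionOnto_apply_eq_zero_iff hAB).2 b.2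
    simp [Φ, h1, h2]
  have hinj : Function.Injective Φ := fun x y hxy => by
    refine Prod.ext (LinearMap.ext fun a => Subtype.ext ?_) (LinearMap.ext fun b => Subtype.ext ?_)
    · rw [← hΦA, ← hΦA, hxy]
    · rw [← hΦB, ← hΦB, hxy]
  haveI := Module.Free.of_divisionRing F (endCentralizer (u.restrict hA))
  haveI := Module.Free.of_divisionRing F (endCentralizer (u.restrict hB))
  rw [← Module.finrank_prod]
  let Ψ : (endCentralizer (u.restrict hA) × endCentralizer (u.restrict hB)) →ₗ[F] endCentralizer u :=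
    LinearMap.codRestrict (endCentralizer u)
      (Φ.comp ((endCentralizer (u.restrict hA)).subtype.prodMap (endCentralizer (u.restrict hB)).subtype)) (by
        rintro ⟨f, g⟩
        rw [mem_endCentralizer]
        refine LinearMap.ext fun v => ?_
        obtain ⟨a, ha, b, hb, rfl⟩ :=
          Submodule.mem_sup.1 (hAB.sup_eq_top ▸ Submodule.mem_top : v ∈ A ⊔ B)
        have e1 := congrArg (fun h : Module.End F A => (h ⟨a, ha⟩ : V)) (mem_endCentralizer.1 f.2)
        have e2 := congrArg (fun h : Module.End F B => (h ⟨b, hb⟩ : V)) (mem_endCentralizer.1 g.2)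
        simp only [LinearMap.comp_apply, Module.End.mul_apply, map_add, LinearMap.prodMap_apply,
          Submodule.subtype_apply]
        rw [hΦA _ ⟨a, ha⟩, hΦB _ ⟨b, hb⟩, hΦA _ ⟨u a, hA a ha⟩, hΦB _ ⟨u b, hB b hb⟩]
        exact congrArg₂ (· + ·) e1 e2)
  refine LinearMap.finrank_le_finrank_of_injective (f := Ψ) fun x y hxy => ?_
  have := hinj (congrArg Subtype.val hxy)
  exact Prod.ext (Subtype.ext (congrArg Prod.fst this)) (Subtype.ext (congrArg Prod.snd this))

/-- `(dim V) ^ 2 ≤ deg p * dim C(u)` when `p u = 0`. -/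
theorem sq_le_natDegree_mul [IsAlgClosed F] : ∀ (n : ℕ) (V : Type v) [AddCommGroup V] [Module F V]
    [FiniteDimensional F V] (u : Module.End F V) (p : Polynomial F), p.natDegree ≤ n → p ≠ 0 →
    Polynomial.aeval u p = 0 → finrank F V * finrank F V ≤ p.natDegree * finrank F (endCentralizer u) := by
  classical
  intro n
  induction n with
  | zero =>
    intro V _ _ _ u p hn hp hpu
    rw [Polynomial.eq_C_of_natDegree_eq_zero (Nat.le_zero.1 hn)] at hp hpu
    rw [Polynomial.aeval_C, Algebra.algebraMap_eq_smul_one, smul_eq_zero] at hpu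
    have h1 : (1 : Module.End F V) = 0 := hpu.resolve_left (by simpa using hp)
    haveI : Subsingleton V := ⟨fun a b => by
      rw [← Module.End.one_apply (R := F) a, ← Module.End.one_apply (R := F) b, h1]; rfl⟩
    simp [Module.finrank_zero_of_subsingleton]
  | succ n ih =>
    intro V _ _ _ u p hn hp hpu
    by_cases hdeg : p.natDegree ≤ n
    · exact ih V u p hdeg hp hpu
    obtain ⟨μ, hμ⟩ := IsAlgClosed.exists_root p (by
      rw [Polynomial.degree_eq_natDegree hp]; exact_mod_cast (show p.natDegree ≠ 0 by omega))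
    obtain ⟨g, hpg, hgμ⟩ := Polynomial.exists_eq_pow_rootMultiplicity_mul_and_not_dvd p hp μ
    set a := p.rootMultiplicity μ
    have ha : 0 < a := (Polynomial.rootMultiplicity_pos hp).2 hμ
    have hg0 : g ≠ 0 := fun h => hp (by rw [hpg, h, mul_zero])
    have hp0 : (Polynomial.X - Polynomial.C μ) ^ a ≠ 0 := pow_ne_zero _ (Polynomial.X_sub_C_ne_zero μ)
    have hd : p.natDegree = a + g.natDegree := by
      rw [hpg, Polynomial.natDegree_mul hp0 hg0, Polynomial.natDegree_pow, Polynomial.natDegree_X_sub_C, mul_one]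
    set A := LinearMap.ker (Polynomial.aeval u ((Polynomial.X - Polynomial.C μ) ^ a))
    set B := LinearMap.ker (Polynomial.aeval u g)
    have hcop : IsCoprime ((Polynomial.X - Polynomial.C μ) ^ a) g :=
      ((Polynomial.prime_X_sub_C μ).coprime_iff_not_dvd.2 hgμ).pow_left
    have hAB : IsCompl A B := by
      refine IsCompl.of_eq ((Polynomial.disjoint_ker_aeval_of_isCoprime _ hcop).eq_bot) ?_
      rw [Polynomial.sup_ker_aeval_eq_ker_aeval_mul_of_coprime _ hcop, ← hpg, hpu, LinearMap.ker_zero]
    have hinv : ∀ q : Polynomial F, ∀ x ∈ LinearMap.ker (Polynomial.aeval u q),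
        u x ∈ LinearMap.ker (Polynomial.aeval u q) := fun q x hx => by
      rw [LinearMap.mem_ker] at hx ⊢
      have hc : Commute (Polynomial.aeval u q) u := by
        have := (Commute.all q Polynomial.X).map (Polynomial.aeval u)
        rwa [Polynomial.aeval_X] at this
      rw [← Module.End.mul_apply, hc.eq, Module.End.mul_apply, hx, map_zero]
    have hA : ∀ x ∈ A, u x ∈ A := hinv _
    have hB : ∀ x ∈ B, u x ∈ B := hinv _
    have key : ∀ (M : Submodule F V) (hM : ∀ x ∈ M, u x ∈ M) (q : Polynomial F) (x : M),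
        ((Polynomial.aeval (u.restrict hM) q x : M) : V) = Polynomial.aeval u q x := by
      intro M hM q
      induction q using Polynomial.induction_on' with
      | add q q' h h' => intro x; simp [h x, h' x]
      | monomial k c =>
        intro x
        rw [Polynomial.aeval_monomial, Polynomial.aeval_monomial]
        have hk : ∀ (k : ℕ) (x : M), (((u.restrict hM) ^ k) x : V) = (u ^ k) (x : V) := by
          intro k
          induction k with
          | zero => intro x; simp
          | succ k ihk =>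
            intro x
            rw [pow_succ', Module.End.mul_apply, pow_succ', Module.End.mul_apply, ← ihk]
            rfl
        simp [Algebra.algebraMap_eq_smul_one, hk]
    have h1 : finrank F A * finrank F A ≤ a * finrank F (endCentralizer (u.restrict hA)) := by
      have hnil : (u.restrict hA - μ • 1) ^ a = 0 := by
        refine LinearMap.ext fun x => Subtype.ext ?_
        have h := key A hA ((Polynomial.X - Polynomial.C μ) ^ a) x
        rw [map_pow, map_sub, Polynomial.aeval_X, Polynomial.aeval_C, Algebra.algebraMap_eq_smul_one] at h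
        rw [h]
        exact x.2
      have heq : endCentralizer (u.restrict hA - μ • 1) = endCentralizer (u.restrict hA) := by
        ext f
        rw [mem_endCentralizer, mem_endCentralizer]
        simp [sub_mul, mul_sub]
      exact heq ▸ sq_le_mul_finrank_centralizer _ A (u.restrict hA - μ • 1) a le_rfl hnil
    have h2 : finrank F B * finrank F B ≤ g.natDegree * finrank F (endCentralizer (u.restrict hB)) :=
      ih B (u.restrict hB) g (by omega) hg0 (LinearMap.ext fun x => Subtype.ext (by rw [key B hB g x]; exact x.2))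
    have hsum := Submodule.finrank_add_eq_of_isCompl hAB
    have hc := finrank_cent_add u hAB hA hB
    rw [← hsum, hd]
    set D1 := finrank F A
    set D2 := finrank F B
    set c1 := finrank F (endCentralizer (u.restrict hA))
    set c2 := finrank F (endCentralizer (u.restrict hB))
    set c := finrank F (endCentralizer u)
    set b := g.natDegree
    have h3 : 2 * (D1 * D2) ≤ a * c2 + b * c1 := by
      have h4 : (D1 * D2) * (D1 * D2) ≤ (a * c2) * (b * c1) := by
        calc (D1 * D2) * (D1 * D2) = (D1 * D1) * (D2 * D2) := by ring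
          _ ≤ (a * c1) * (b * c2) := Nat.mul_le_mul h1 h2
          _ = _ := by ring
      by_contra hlt
      push Not at hlt
      have h5 : (a * c2 + b * c1) * (a * c2 + b * c1) < (2 * (D1 * D2)) * (2 * (D1 * D2)) :=
        Nat.mul_lt_mul'' hlt hlt
      rcases le_total (a * c2) (b * c1) with hh | hh
      · obtain ⟨e, he⟩ := Nat.exists_eq_add_of_le hh
        rw [he] at h4 h5
        nlinarith
      · obtain ⟨e, he⟩ := Nat.exists_eq_add_of_le hh
        rw [he] at h4 h5
        nlinarith
    calc (D1 + D2) * (D1 + D2) = D1 * D1 + 2 * (D1 * D2) + D2 * D2 := by ring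
      _ ≤ a * c1 + (a * c2 + b * c1) + b * c2 := by omega
      _ = (a + b) * (c1 + c2) := by ring
      _ ≤ (a + b) * c := Nat.mul_le_mul_left _ hc

/-- The centralizer of any operator has dimension at least that of the space. -/
theorem finrank_le_cent [IsAlgClosed F] {V : Type v} [AddCommGroup V] [Module F V] [FiniteDimensional F V]
    (u : Module.End F V) : finrank F V ≤ finrank F (endCentralizer u) := by
  rcases Nat.eq_zero_or_pos (finrank F V) with h | h
  · simp [h]
  have := sq_le_natDegree_mul _ V u u.charpoly le_rfl u.charpoly_monic.ne_zero u.aeval_self_charpoly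
  rw [LinearMap.charpoly_natDegree] at this
  exact Nat.le_of_mul_le_mul_left this h

variable {V : Type v} [AddCommGroup V] [Module F V] {H : Type w} [Group H]
  (ρ : H →* Module.End F V) (T : Subgroup H)

/-- Commutators of `T` act as scalars. -/
def ScalarComm : Prop := ∀ a b : T, ∃ c : Fˣ, ρ ((a : H) * b) = (c : F) • ρ ((b : H) * a)

/-- The elements commuting with all of `T` in the representation. -/
def zed : Subgroup T where
  carrier := {t | ∀ a : T, ρ ((t : H) * a) = ρ ((a : H) * t)}
  one_mem' := fun a => by simp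
  mul_mem' := fun {x y} hx hy a => by
    rw [Subgroup.coe_mul, mul_assoc, map_mul, hy a, ← map_mul, ← mul_assoc, map_mul, hx a, ← map_mul, mul_assoc]
  inv_mem' := fun {x} hx a => by
    have h := congrArg (fun f => ρ (x : H)⁻¹ * f * ρ (x : H)⁻¹) (hx a)
    simp only [← map_mul] at h
    rw [Subgroup.coe_inv]
    simpa [mul_assoc] using h.symm

theorem mem_zed {t : T} : t ∈ zed ρ T ↔ ∀ a : T, ρ ((t : H) * a) = ρ ((a : H) * t) := Iff.rfl

/-- The centralizer of `T`. -/
def centT : Submodule F (Module.End F V) where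
  carrier := {f | ∀ t : T, f * ρ (t : H) = ρ (t : H) * f}
  zero_mem' := fun t => by simp
  add_mem' := fun {f g} hf hg t => by rw [add_mul, mul_add, hf t, hg t]
  smul_mem' := fun c f hf t => by rw [smul_mul_assoc, mul_smul_comm, hf t]

theorem mem_centT {f : Module.End F V} : f ∈ centT ρ T ↔ ∀ t : T, f * ρ (t : H) = ρ (t : H) * f := Iff.rfl

variable {ρ T}

/-- The scalar of a commutator. -/
noncomputable def beta (hs : ScalarComm ρ T) (a b : T) : Fˣ := (hs a b).choose

theorem beta_spec (hs : ScalarComm ρ T) (a b : T) : ρ ((a : H) * b) = (beta hs a b : F) • ρ ((b : H) * a) :=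
  (hs a b).choose_spec

theorem rho_inv_mul (x : H) (f : Module.End F V) : ρ x⁻¹ * (ρ x * f) = f := by
  rw [← mul_assoc, ← map_mul, inv_mul_cancel, map_one, one_mul]

theorem rho_mul_inv (x : H) (f : Module.End F V) : ρ x * (ρ x⁻¹ * f) = f := by
  rw [← mul_assoc, ← map_mul, mul_inv_cancel, map_one, one_mul]

variable [Nontrivial V]

theorem rho_ne_zero (x : H) : ρ x ≠ 0 := fun h => by
  have := rho_inv_mul (ρ := ρ) x 1
  rw [h, zero_mul, mul_zero] at this
  exact one_ne_zero this.symm

theorem smul_rho_inj {c d : Fˣ} {x : H} (h : (c : F) • ρ x = (d : F) • ρ x) : c = d := by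
  rw [← sub_eq_zero, ← sub_smul, smul_eq_zero] at h
  exact Units.ext (sub_eq_zero.1 (h.resolve_right (rho_ne_zero x)))

theorem beta_eq (hs : ScalarComm ρ T) {a b : T} {c : Fˣ} (h : ρ ((a : H) * b) = (c : F) • ρ ((b : H) * a)) :
    beta hs a b = c :=
  smul_rho_inj ((beta_spec hs a b).symm.trans h)

theorem beta_mul_left (hs : ScalarComm ρ T) (a a' b : T) : beta hs (a * a') b = beta hs a b * beta hs a' b := by
  refine beta_eq hs ?_
  rw [Subgroup.coe_mul, mul_assoc, map_mul, beta_spec hs a' b, mul_smul_comm, ← map_mul, ← mul_assoc,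
    map_mul, beta_spec hs a b, smul_mul_assoc, smul_smul, ← map_mul, mul_assoc, Units.val_mul, mul_comm]

theorem beta_mul_right (hs : ScalarComm ρ T) (a b b' : T) : beta hs a (b * b') = beta hs a b * beta hs a b' := by
  refine beta_eq hs ?_
  rw [Subgroup.coe_mul, ← mul_assoc, map_mul, beta_spec hs a b, smul_mul_assoc, ← map_mul, mul_assoc,
    map_mul, beta_spec hs a b', mul_smul_comm, smul_smul, ← map_mul, ← mul_assoc, Units.val_mul]

theorem beta_eq_one_iff (hs : ScalarComm ρ T) {a b : T} :
    beta hs a b = 1 ↔ ρ ((a : H) * b) = ρ ((b : H) * a) := by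
  refine ⟨fun h => ?_, fun h => beta_eq hs (by rw [h]; simp)⟩
  rw [beta_spec hs a b, h, Units.val_one, one_smul]

theorem beta_swap (hs : ScalarComm ρ T) (a b : T) : beta hs b a = (beta hs a b)⁻¹ := by
  refine beta_eq hs ?_
  rw [beta_spec hs a b, smul_smul, ← Units.val_mul, inv_mul_cancel, Units.val_one, one_smul]

/-- The pairing as a homomorphism. -/
noncomputable def betaHom (hs : ScalarComm ρ T) : T →* T →* Fˣ :=
  MonoidHom.mk' (fun b => MonoidHom.mk' (fun a => beta hs a b) fun a a' => beta_mul_left hs a a' b)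
    fun b b' => MonoidHom.ext fun a => beta_mul_right hs a b b'

theorem zed_eq_ker (hs : ScalarComm ρ T) : zed ρ T = (betaHom hs).ker := by
  ext t
  rw [mem_zed, MonoidHom.mem_ker]
  constructor
  · intro h
    refine MonoidHom.ext fun a => ?_
    exact (beta_eq_one_iff hs).2 (h a).symm
  · intro h a
    exact ((beta_eq_one_iff hs).1 (DFunLike.congr_fun h a)).symm

theorem mem_zed_iff (hs : ScalarComm ρ T) {t : T} : t ∈ zed ρ T ↔ betaHom hs t = 1 := by
  rw [zed_eq_ker hs, MonoidHom.mem_ker]

theorem zed_normal (hs : ScalarComm ρ T) : (zed ρ T).Normal := zed_eq_ker hs ▸ MonoidHom.normal_ker _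

theorem beta_zed (hs : ScalarComm ρ T) (a : T) {z : T} (hz : z ∈ zed ρ T) : beta hs a z = 1 :=
  (beta_eq_one_iff hs).2 (hz a).symm

theorem beta_mk (hs : ScalarComm ρ T) (a b : T) :
    beta hs a (QuotientGroup.mk (s := zed ρ T) b).out = beta hs a b := by
  obtain ⟨z, hz⟩ := QuotientGroup.mk_out_eq_mul (zed ρ T) b
  rw [hz, beta_mul_right, beta_zed hs a z.2, mul_one]

variable [Finite T]

theorem card_char_le (hs : ScalarComm ρ T) [IsAlgClosed F] (hT : ((Nat.card T : ℕ) : F) ≠ 0)
    (χ : T →* Fˣ) (hχ : ∀ z ∈ zed ρ T, χ z = 1) : ∃ q : T, ∀ a : T, beta hs a q = χ a := by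
  classical
  haveI := zed_normal hs
  letI : CommGroup (T ⧸ zed ρ T) :=
    { mul_comm := fun x y => by
        obtain ⟨a, rfl⟩ := QuotientGroup.mk_surjective x
        obtain ⟨b, rfl⟩ := QuotientGroup.mk_surjective y
        rw [← QuotientGroup.mk_mul, ← QuotientGroup.mk_mul, QuotientGroup.eq, mem_zed_iff hs,
          map_mul, map_inv, map_mul, map_mul, mul_comm (betaHom hs a) (betaHom hs b), inv_mul_cancel] }
  haveI : Finite (T ⧸ zed ρ T) := inferInstance
  have hN : ((Monoid.exponent (T ⧸ zed ρ T) : ℕ) : F) ≠ 0 := fun h => hT (by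
    obtain ⟨k, hk⟩ := (Monoid.exponent_dvd_of_forall_pow_eq_one fun x : T ⧸ zed ρ T => by
      obtain ⟨a, rfl⟩ := QuotientGroup.mk_surjective x
      rw [← QuotientGroup.mk_pow, pow_card_eq_one', QuotientGroup.mk_one] :
      Monoid.exponent (T ⧸ zed ρ T) ∣ Nat.card T)
    rw [hk, Nat.cast_mul, h, zero_mul])
  haveI : NeZero ((Monoid.exponent (T ⧸ zed ρ T) : ℕ) : F) := ⟨hN⟩
  haveI : HasEnoughRootsOfUnity F (Monoid.exponent (T ⧸ zed ρ T)) := inferInstance
  obtain ⟨e⟩ := CommGroup.monoidHom_mulEquiv_of_hasEnoughRootsOfUnity (T ⧸ zed ρ T) F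
  let Θ : T ⧸ zed ρ T → ((T ⧸ zed ρ T) →* Fˣ) := fun x =>
    QuotientGroup.lift (zed ρ T) (betaHom hs x.out) fun z hz => by
      rw [MonoidHom.mem_ker]
      exact (beta_eq_one_iff hs).2 (hz _)
  have hinj : Function.Injective Θ := by
    intro x y hxy
    rw [← x.out_eq', ← y.out_eq', QuotientGroup.eq, mem_zed_iff hs, map_mul, map_inv,
      inv_mul_eq_one]
    exact MonoidHom.ext fun a => DFunLike.congr_fun hxy (QuotientGroup.mk a)
  haveI : Finite ((T ⧸ zed ρ T) →* Fˣ) := Finite.of_equiv _ e.symm.toEquiv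
  have hsurj := (hinj.bijective_of_nat_card_le (Nat.card_congr e.toEquiv).le).2
  obtain ⟨x, hx⟩ := hsurj (QuotientGroup.lift (zed ρ T) χ fun z hz => hχ z hz)
  exact ⟨x.out, fun a => DFunLike.congr_fun hx (QuotientGroup.mk a)⟩

/-- The sum of the pairing over the classes. -/
theorem sum_beta (hs : ScalarComm ρ T) [Fintype (T ⧸ zed ρ T)] (a : T) [Decidable (a ∈ zed ρ T)] :
    ∑ q : T ⧸ zed ρ T, (beta hs a q.out : F) =
      if a ∈ zed ρ T then (Nat.card (T ⧸ zed ρ T) : F) else 0 := by
  classical
  haveI := zed_normal hs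
  let η : T →* Fˣ := MonoidHom.mk' (fun b => beta hs a b) fun b b' => beta_mul_right hs a b b'
  let ψ : T ⧸ zed ρ T →* F := (Units.coeHom F).comp
    (QuotientGroup.lift (zed ρ T) η fun z hz => beta_zed hs a hz)
  have hψ : ∀ q : T ⧸ zed ρ T, (beta hs a q.out : F) = ψ q := fun q => by
    conv_rhs => rw [← q.out_eq']
    rfl
  rw [Finset.sum_congr rfl fun q _ => hψ q, sum_hom_units ψ, Nat.card_eq_fintype_card]
  have hiff : ψ = 1 ↔ a ∈ zed ρ T := by
    constructor
    · intro h b
      exact (beta_eq_one_iff hs).1 (Units.ext (DFunLike.congr_fun h (QuotientGroup.mk b)))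
    · intro h
      refine MonoidHom.ext fun q => ?_
      rw [← hψ, (beta_eq_one_iff hs).2 (h q.out)]
      rfl
  by_cases ha : a ∈ zed ρ T
  · rw [if_pos ha, if_pos (hiff.2 ha)]
  · rw [if_neg ha, if_neg (fun h => ha (hiff.1 h)), Nat.cast_zero]

theorem exists_decomp (hs : ScalarComm ρ T) (hZ : ∀ z ∈ zed ρ T, ∃ c : F, ρ (z : H) = c • 1)
    [Fintype (T ⧸ zed ρ T)] (hT : ((Nat.card T : ℕ) : F) ≠ 0) :
    ∃ Φ : ((T ⧸ zed ρ T) → centT ρ T) ≃ₗ[F] Module.End F V,
      ∀ d, Φ d = ∑ q, ρ (q.out : H) * (d q : Module.End F V) := by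
  classical
  haveI := Fintype.ofFinite T
  have hTc : Nat.card T = Nat.card (T ⧸ zed ρ T) * Nat.card (zed ρ T) :=
    Subgroup.card_eq_card_quotient_mul_card_subgroup _
  let L : ((T ⧸ zed ρ T) → centT ρ T) →ₗ[F] Module.End F V :=
    { toFun := fun d => ∑ q, ρ (q.out : H) * (d q : Module.End F V)
      map_add' := fun x y => by simp [mul_add, Finset.sum_add_distrib]
      map_smul' := fun k x => by simp [Finset.smul_sum] }
  have hev : ∀ (t : T) d, ρ (t : H) * L d * ρ (t : H)⁻¹ =
      ∑ q, (beta hs t q.out : F) • (ρ (q.out : H) * (d q : Module.End F V)) := by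
    intro t d
    change ρ (t : H) * (∑ q, _) * _ = _
    rw [Finset.mul_sum, Finset.sum_mul]
    refine Finset.sum_congr rfl fun q _ => ?_
    have hd : (d q : Module.End F V) * ρ (t : H)⁻¹ = ρ (t : H)⁻¹ * (d q : Module.End F V) :=
      (d q).2 t⁻¹
    rw [← mul_assoc, ← map_mul, beta_spec hs t q.out, smul_mul_assoc, smul_mul_assoc, mul_assoc, hd,
      ← mul_assoc, ← map_mul, mul_inv_cancel_right]
  have horth : ∀ q q₀ : T ⧸ zed ρ T,
      ∑ t : T, (beta hs t q.out : F) * ((beta hs t q₀.out)⁻¹ : Fˣ) =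
        if q = q₀ then (Fintype.card T : F) else 0 := by
    intro q q₀
    let η : T →* F := (Units.coeHom F).comp (betaHom hs q.out * (betaHom hs q₀.out)⁻¹)
    have he : ∀ t, η t = (beta hs t q.out : F) * ((beta hs t q₀.out)⁻¹ : Fˣ) := fun t => Units.val_mul _ _
    rw [← Finset.sum_congr rfl fun t _ => he t, sum_hom_units η]
    by_cases h : q = q₀
    · subst h
      rw [if_pos rfl, if_pos]
      refine MonoidHom.ext fun t => ?_
      rw [he]
      exact Units.mul_inv _
    · rw [if_neg h, if_neg, Nat.cast_zero]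
      intro hη
      refine h ?_
      rw [← q.out_eq', ← q₀.out_eq', QuotientGroup.eq, mem_zed_iff hs, map_mul, map_inv,
        inv_mul_eq_one]
      refine MonoidHom.ext fun t => Units.ext ?_
      have h1 : (beta hs t q.out : F) * ((beta hs t q₀.out)⁻¹ : Fˣ) = 1 :=
        (he t).symm.trans (DFunLike.congr_fun hη t)
      rw [← Units.val_mul, Units.val_eq_one, mul_inv_eq_one] at h1
      exact congrArg Units.val h1
  have hinj : Function.Injective L := by
    refine (injective_iff_map_eq_zero L).2 fun d hd => funext fun q₀ => Subtype.ext ?_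
    have h1 : ∑ t : T, (((beta hs t q₀.out)⁻¹ : Fˣ) : F) • (ρ (t : H) * L d * ρ (t : H)⁻¹) = 0 := by
      simp [hd]
    simp only [hev, Finset.smul_sum, smul_smul] at h1
    rw [Finset.sum_comm] at h1
    simp only [← Finset.sum_smul, mul_comm (((beta hs _ q₀.out)⁻¹ : Fˣ) : F), horth, ite_smul, zero_smul] at h1
    rw [Finset.sum_ite_eq' Finset.univ q₀, if_pos (Finset.mem_univ _), smul_eq_zero] at h1
    have h2 := congrArg (ρ (q₀.out : H)⁻¹ * ·) (h1.resolve_left (by rwa [← Nat.card_eq_fintype_card]))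
    simpa [rho_inv_mul] using h2
  have hsurj : Function.Surjective L := by
    intro f
    let a : T ⧸ zed ρ T → Module.End F V := fun q =>
      (Fintype.card T : F)⁻¹ • ∑ t : T, (((beta hs t q.out)⁻¹ : Fˣ) : F) • (ρ (t : H) * f * ρ (t : H)⁻¹)
    have ha : ∀ q, ρ (q.out : H)⁻¹ * a q ∈ centT ρ T := by
      intro q u
      have h1 : ρ (u : H) * a q * ρ (u : H)⁻¹ = (beta hs u q.out : F) • a q := by
        simp only [a, mul_smul_comm, smul_mul_assoc, Finset.mul_sum, Finset.sum_mul, Finset.smul_sum, smul_smul]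
        refine Fintype.sum_equiv (Equiv.mulLeft u) _ _ fun t => ?_
        rw [Equiv.coe_mulLeft, Subgroup.coe_mul, mul_inv_rev, map_mul, map_mul, beta_mul_left, mul_inv_rev,
          Units.val_mul]
        simp only [mul_assoc]
        congr 1
        rw [mul_left_comm (beta hs u q.out : F)]
        congr 1
        rw [mul_left_comm, Units.mul_inv, mul_one]
      have h2 : ρ (u : H) * a q = (beta hs u q.out : F) • (a q * ρ (u : H)) := by
        rw [← smul_mul_assoc, ← h1, mul_assoc _ (ρ (u : H)⁻¹), ← map_mul, inv_mul_cancel, map_one, mul_one]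
      have h3 : ρ (u : H) * ρ (q.out : H)⁻¹ =
          (((beta hs u q.out)⁻¹ : Fˣ) : F) • (ρ (q.out : H)⁻¹ * ρ (u : H)) := by
        rw [← map_mul, ← map_mul]
        have e := beta_spec hs u q.out⁻¹
        have e2 : beta hs u q.out⁻¹ = (beta hs u q.out)⁻¹ := by
          rw [eq_inv_iff_mul_eq_one, ← beta_mul_right, inv_mul_cancel, beta_zed hs u (one_mem _)]
        rw [e2, Subgroup.coe_inv] at e
        exact e
      revert h2
      generalize a q = b
      intro h2
      rw [← mul_assoc (ρ (u : H)), h3, smul_mul_assoc, mul_assoc (ρ _) (ρ (u : H)), h2, mul_smul_comm, smul_smul,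
        Units.inv_mul, one_smul, ← mul_assoc]
    refine ⟨fun q => ⟨_, ha q⟩, ?_⟩
    change ∑ q, ρ (q.out : H) * (ρ (q.out : H)⁻¹ * a q) = f
    simp only [rho_mul_inv, a, ← Finset.smul_sum]
    rw [Finset.sum_comm]
    simp only [← Finset.sum_smul]
    have h4 : ∀ t : T, ∑ q : T ⧸ zed ρ T, (((beta hs t q.out)⁻¹ : Fˣ) : F) =
        if t ∈ zed ρ T then (Nat.card (T ⧸ zed ρ T) : F) else 0 := by
      intro t
      have h5 : ∀ q : T ⧸ zed ρ T, (beta hs t q.out)⁻¹ = beta hs t⁻¹ q.out := fun q => by
        rw [inv_eq_iff_mul_eq_one, ← beta_mul_left, mul_inv_cancel]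
        exact (beta_eq_one_iff hs).2 (by simp)
      simp only [h5, sum_beta hs t⁻¹, inv_mem_iff]
    simp only [h4, ite_smul, zero_smul]
    rw [← Finset.sum_filter, Finset.sum_congr rfl (g := fun _ => (Nat.card (T ⧸ zed ρ T) : F) • f),
      Finset.sum_const, ← Nat.cast_smul_eq_nsmul F, smul_smul, smul_smul]
    · have hZ : (Finset.univ.filter fun t : T => t ∈ zed ρ T).card = Nat.card (zed ρ T) := by
        rw [← Fintype.card_subtype, ← Nat.card_eq_fintype_card]
      rw [hZ, mul_assoc, ← Nat.cast_mul, mul_comm (Nat.card (zed ρ T)), ← hTc, ← Nat.card_eq_fintype_card,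
        inv_mul_cancel₀ hT, one_smul]
    · intro t ht
      have hz := (Finset.mem_filter.1 ht).2
      congr 1
      obtain ⟨c, hc⟩ := hZ t hz
      have h6 : Commute (ρ (t : H)) f := by
        rw [hc]
        exact (Commute.one_left f).smul_left c
      rw [h6.eq, mul_assoc, ← map_mul, mul_inv_cancel, map_one, mul_one]
  exact ⟨LinearEquiv.ofBijective L ⟨hinj, hsurj⟩, fun d => rfl⟩

theorem finrank_sq [FiniteDimensional F V] (hs : ScalarComm ρ T) (hZ : ∀ z ∈ zed ρ T, ∃ c : F, ρ (z : H) = c • 1)
    (hT : ((Nat.card T : ℕ) : F) ≠ 0) :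
    finrank F V * finrank F V = Nat.card (T ⧸ zed ρ T) * finrank F (centT ρ T) := by
  haveI := Fintype.ofFinite (T ⧸ zed ρ T)
  obtain ⟨Φ, -⟩ := exists_decomp hs hZ hT
  haveI := Module.Free.of_divisionRing F (centT ρ T)
  rw [← Module.finrank_linearMap F F V V, ← Φ.finrank_eq, Module.finrank_pi_fintype, Finset.sum_const,
    Finset.card_univ, smul_eq_mul, Nat.card_eq_fintype_card]

/-- The centralizer of an element normalising `T` is bounded by its cycles on the classes. -/
theorem cent_le [FiniteDimensional F V] (hs : ScalarComm ρ T) (hZ : ∀ z ∈ zed ρ T, ∃ c : F, ρ (z : H) = c • 1)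
    (hT : ((Nat.card T : ℕ) : F) ≠ 0) {g : H} (hg : ∀ t ∈ T, g * t * g⁻¹ ∈ T)
    (π : Equiv.Perm (T ⧸ zed ρ T))
    (hπ : ∀ t : T, π (QuotientGroup.mk t) = QuotientGroup.mk (⟨g * t * g⁻¹, hg t t.2⟩ : T))
    {M : ℕ} [NeZero M] (hM : π ^ M = 1) :
    M * finrank F (endCentralizer (ρ g)) ≤
      finrank F (centT ρ T) * ∑ j ∈ Finset.range M, Nat.card {q // (π ^ j) q = q} := by
  classical
  haveI := Fintype.ofFinite (T ⧸ zed ρ T)
  haveI := zed_normal hs
  haveI := Module.Free.of_divisionRing F (centT ρ T)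
  obtain ⟨Φ, hΦ⟩ := exists_decomp hs hZ hT
  let ψ : Multiplicative (ZMod M) →* Equiv.Perm (T ⧸ zed ρ T) :=
    { toFun := fun j => π ^ (Multiplicative.toAdd j).val
      map_one' := by simp
      map_mul' := fun a b => by
        rw [toAdd_mul, ZMod.val_add, ← pow_add]
        conv_rhs => rw [← Nat.mod_add_div ((Multiplicative.toAdd a).val + (Multiplicative.toAdd b).val) M,
          pow_add, pow_mul, hM, one_pow, mul_one] }
  letI : MulAction (Multiplicative (ZMod M)) (T ⧸ zed ρ T) := MulAction.compHom _ ψ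
  set O := MulAction.orbitRel.Quotient (Multiplicative (ZMod M)) (T ⧸ zed ρ T)
  haveI : Fintype O := Fintype.ofFinite _
  -- orbit count
  have hburn : ∑ j ∈ Finset.range M, Nat.card {q // (π ^ j) q = q} = Fintype.card O * M := by
    have h := MulAction.sum_card_fixedBy_eq_card_orbits_mul_card_group (Multiplicative (ZMod M)) (T ⧸ zed ρ T)
    rw [Fintype.card_multiplicative, ZMod.card] at h
    rw [← h]
    refine Finset.sum_bij' (fun j _ => Multiplicative.ofAdd (j : ZMod M))
      (fun m _ => (Multiplicative.toAdd m).val) (fun j _ => Finset.mem_univ _)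
      (fun m _ => Finset.mem_range.2 (ZMod.val_lt _)) (fun j hj => ?_) (fun m _ => by simp) (fun j hj => ?_)
    · simp [ZMod.val_natCast, Nat.mod_eq_of_lt (Finset.mem_range.1 hj)]
    · rw [← Nat.card_eq_fintype_card]
      refine Nat.card_congr (Equiv.subtypeEquivRight fun q => ?_)
      rw [MulAction.mem_fixedBy]
      change _ ↔ (π ^ (Multiplicative.toAdd (Multiplicative.ofAdd (j : ZMod M))).val) q = q
      rw [toAdd_ofAdd, ZMod.val_natCast, Nat.mod_eq_of_lt (Finset.mem_range.1 hj)]
  -- conjugation moves the components along `π`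
  have hg' : ∀ t ∈ T, g⁻¹ * t * g ∈ T := by
    intro t ht
    have hb : Function.Bijective fun x : T => (⟨g * x * g⁻¹, hg x x.2⟩ : T) :=
      Finite.injective_iff_bijective.1 fun a b h => Subtype.ext
        (mul_left_cancel (mul_right_cancel (congrArg Subtype.val h)))
    obtain ⟨x, hx⟩ := hb.2 ⟨t, ht⟩
    have hxt : g * x * g⁻¹ = t := congrArg Subtype.val hx
    rw [← hxt, show g⁻¹ * (g * (x : H) * g⁻¹) * g = x by group]
    exact x.2
  have hc : ∀ d : centT ρ T, ρ g * (d : Module.End F V) * ρ g⁻¹ ∈ centT ρ T := by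
    intro d t
    have h1 : (d : Module.End F V) * ρ (g⁻¹ * t * g) = ρ (g⁻¹ * t * g) * d := d.2 ⟨_, hg' t t.2⟩
    calc ρ g * (d : Module.End F V) * ρ g⁻¹ * ρ (t : H)
        = ρ g * ((d : Module.End F V) * ρ (g⁻¹ * t * g)) * ρ g⁻¹ := by
          simp only [map_mul, mul_assoc]
          rw [← map_mul ρ g g⁻¹, mul_inv_cancel, map_one, mul_one]
      _ = _ := by
          rw [h1]
          simp only [map_mul, mul_assoc]
          rw [rho_mul_inv]
  have hz : ∀ q : T ⧸ zed ρ T,
      (π q).out⁻¹ * (⟨g * q.out * g⁻¹, hg _ q.out.2⟩ : T) ∈ zed ρ T := by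
    intro q
    rw [← QuotientGroup.eq, QuotientGroup.out_eq', ← hπ q.out, QuotientGroup.out_eq']
  have hzB : ∀ z : T, z ∈ zed ρ T → ρ (z : H) ∈ centT ρ T := fun z h u => by
    rw [← map_mul, ← map_mul, h u]
  let next : (T ⧸ zed ρ T) → centT ρ T → centT ρ T := fun q d =>
    ⟨ρ (((π q).out⁻¹ * (⟨g * q.out * g⁻¹, hg _ q.out.2⟩ : T) : T) : H) * (ρ g * (d : Module.End F V) * ρ g⁻¹),
      fun u => by rw [mul_assoc, hc d u, ← mul_assoc, hzB _ (hz q) u, mul_assoc]⟩
  have hconj : ∀ d, ρ g * Φ d * ρ g⁻¹ = Φ fun q => next (π.symm q) (d (π.symm q)) := by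
    intro d
    rw [hΦ, hΦ, Finset.mul_sum, Finset.sum_mul]
    refine Fintype.sum_equiv π _ _ fun q => ?_
    simp only [Equiv.symm_apply_apply, next, Subgroup.coe_mul, Subgroup.coe_inv]
    rw [← mul_assoc (ρ ((π q).out : H)), ← map_mul, mul_inv_cancel_left, map_mul, map_mul]
    simp only [mul_assoc]
    rw [rho_inv_mul]
  let Θ : endCentralizer (ρ g) →ₗ[F] (O → centT ρ T) :=
    { toFun := fun f o => Φ.symm f.1 o.out
      map_add' := fun x y => by funext o; simp
      map_smul' := fun k x => by funext o; simp }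
  have hinj : Function.Injective Θ := by
    refine (injective_iff_map_eq_zero Θ).2 fun f hf => ?_
    set d := Φ.symm f.1 with hd
    have hfix : ∀ q, d (π q) = next q (d q) := by
      intro q
      have h1 : ρ g * Φ d * ρ g⁻¹ = Φ d := by
        rw [hd, LinearEquiv.apply_symm_apply, mem_endCentralizer.1 f.2, mul_assoc, ← map_mul, mul_inv_cancel,
          map_one, mul_one]
      rw [hconj] at h1
      conv_lhs => rw [← Φ.injective h1]
      simp
    have hzero : ∀ (j : ℕ) q, d q = 0 → d ((π ^ j) q) = 0 := by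
      intro j
      induction j with
      | zero => intro q h; simpa using h
      | succ j ih =>
        intro q h
        rw [pow_succ', Equiv.Perm.mul_apply, hfix, ih q h]
        exact Subtype.ext (by simp [next])
    have hall : d = 0 := funext fun q => by
      obtain ⟨k, hk⟩ : q ∈ MulAction.orbit (Multiplicative (ZMod M)) (Quotient.mk'' q : O).out :=
        MulAction.orbitRel_apply.1 (Quotient.exact' (Quotient.out_eq' (Quotient.mk'' q : O)).symm)
      rw [← hk]
      exact hzero _ _ (congrFun hf (Quotient.mk'' q : O))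
    exact Subtype.ext (by simpa [hd] using congrArg Φ hall)
  have h1 := LinearMap.finrank_le_finrank_of_injective hinj
  rw [Module.finrank_pi_fintype, Finset.sum_const, Finset.card_univ, smul_eq_mul] at h1
  calc M * finrank F (endCentralizer (ρ g)) ≤ M * (Fintype.card O * finrank F (centT ρ T)) :=
        Nat.mul_le_mul_left _ h1
    _ = _ := by rw [hburn]; ring

/-- With a faithful scalar pairing, two non-zero invariant subspaces are linked. -/
theorem exists_link [IsAlgClosed F] [FiniteDimensional F V] (hs : ScalarComm ρ T)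
    (hZ : ∀ z ∈ zed ρ T, ∃ c : F, ρ (z : H) = c • 1)
    (hT : ((Nat.card T : ℕ) : F) ≠ 0) (A B : Submodule F V) (hA : ∀ t ∈ T, ∀ x ∈ A, ρ t x ∈ A)
    (hB : ∀ t ∈ T, ∀ x ∈ B, ρ t x ∈ B) (hA0 : A ≠ ⊥) (hB0 : B ≠ ⊥) :
    ∃ f : A →ₗ[F] B, f ≠ 0 ∧ ∀ (t : T) (x : A), (f ⟨ρ (t : H) x, hA t t.2 x x.2⟩ : V) = ρ (t : H) (f x) := by
  classical
  haveI := Fintype.ofFinite (T ⧸ zed ρ T)
  obtain ⟨a, ha, ha0⟩ := A.exists_mem_ne_zero_of_ne_bot hA0
  obtain ⟨b, hb, hb0⟩ := B.exists_mem_ne_zero_of_ne_bot hB0
  -- some operator moves `A` into `B`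
  obtain ⟨φ, hφ⟩ : ∃ φ : V →ₗ[F] F, φ a = 1 := by
    obtain ⟨φ, hφ⟩ := ((LinearEquiv.toSpanNonzeroSingleton F V a ha0).symm :
      (F ∙ a) →ₗ[F] F).exists_extend
    refine ⟨φ, ?_⟩
    have := LinearMap.congr_fun hφ ⟨a, Submodule.mem_span_singleton_self a⟩
    rw [LinearMap.comp_apply, Submodule.subtype_apply] at this
    rw [this]
    exact (LinearEquiv.symm_apply_eq _).2 (Subtype.ext (by simp))
  let f0 : A →ₗ[F] B := LinearMap.smulRight (φ.comp A.subtype) (⟨b, hb⟩ : B)
  -- twisted averages
  haveI := Fintype.ofFinite T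
  let act : T → (A →ₗ[F] B) →ₗ[F] (A →ₗ[F] B) := fun t =>
    { toFun := fun f => (ρ (t : H)).restrict (hB t t.2) ∘ₗ f ∘ₗ (ρ (t : H)⁻¹).restrict (hA _ (inv_mem t.2))
      map_add' := fun x y => by ext; simp
      map_smul' := fun k x => by ext; simp }
  have hact : ∀ t f (x : A), (act t f x : V) = ρ (t : H) (f ⟨ρ (t : H)⁻¹ x, hA _ (inv_mem t.2) x x.2⟩) :=
    fun _ _ _ => rfl
  -- some character occurs
  let avg : T ⧸ zed ρ T → (A →ₗ[F] B) := fun q =>
    ∑ t : T, (((beta hs t q.out)⁻¹ : Fˣ) : F) • act t f0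
  obtain ⟨q, hq⟩ : ∃ q, avg q ≠ 0 := by
    by_contra h
    push Not at h
    have h1 : ∑ q, avg q = 0 := Finset.sum_eq_zero fun q _ => h q
    simp only [avg] at h1
    rw [Finset.sum_comm] at h1
    have h5 : ∀ (t : T) (q : T ⧸ zed ρ T), (beta hs t q.out)⁻¹ = beta hs t⁻¹ q.out := fun t q => by
      rw [inv_eq_iff_mul_eq_one, ← beta_mul_left, mul_inv_cancel]
      exact (beta_eq_one_iff hs).2 (by simp)
    simp only [h5, ← Finset.sum_smul, sum_beta hs _, ite_smul, zero_smul, inv_mem_iff] at h1
    rw [← Finset.sum_filter, Finset.sum_congr rfl (g := fun _ => (Nat.card (T ⧸ zed ρ T) : F) • f0),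
      Finset.sum_const, ← Nat.cast_smul_eq_nsmul F, smul_smul, smul_eq_zero] at h1
    · have hZc : (Finset.univ.filter fun t : T => t ∈ zed ρ T).card = Nat.card (zed ρ T) := by
        rw [← Fintype.card_subtype, ← Nat.card_eq_fintype_card]
      rw [hZc, ← Nat.cast_mul, mul_comm, ← Subgroup.card_eq_card_quotient_mul_card_subgroup] at h1
      have h2 := LinearMap.congr_fun (h1.resolve_left hT) ⟨a, ha⟩
      simp only [f0, LinearMap.smulRight_apply, LinearMap.comp_apply, Submodule.subtype_apply, hφ, one_smul,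
        LinearMap.zero_apply] at h2
      exact hb0 (congrArg Subtype.val h2)
    · intro t ht
      congr 1
      obtain ⟨c, hc⟩ := hZ t (Finset.mem_filter.1 ht).2
      refine LinearMap.ext fun x => Subtype.ext ?_
      have h3 : ρ (t : H) (ρ (t : H)⁻¹ (x : V)) = x := by
        rw [← Module.End.mul_apply, ← map_mul, mul_inv_cancel, map_one, Module.End.one_apply]
      rw [hact]
      have h4 : c • ρ (t : H)⁻¹ (x : V) = x := by
        rw [hc, LinearMap.smul_apply, Module.End.one_apply] at h3
        exact h3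
      have h5 : c • f0 ⟨ρ (t : H)⁻¹ x, hA _ (inv_mem t.2) x x.2⟩ = f0 x := by
        rw [← map_smul]
        congr 1
        exact Subtype.ext h4
      rw [hc, LinearMap.smul_apply, Module.End.one_apply]
      exact congrArg Subtype.val h5
  -- correct it by a translation
  let g : A →ₗ[F] B := (ρ (q.out : H)⁻¹).restrict (hB _ (inv_mem q.out.2)) ∘ₗ avg q
  have hgval : ∀ x, (g x : V) = ρ (q.out : H)⁻¹ (avg q x : V) := fun x => rfl
  refine ⟨g, fun h => hq (LinearMap.ext fun x => Subtype.ext ?_), fun u x => ?_⟩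
  · have h1 := congrArg (fun y => ρ (q.out : H) y) ((hgval x).symm.trans (congrArg Subtype.val (LinearMap.congr_fun h x)))
    simpa [← Module.End.mul_apply, ← map_mul] using h1
  · have h1 : (avg q ⟨ρ (u : H) x, hA u u.2 x x.2⟩ : V) =
        (((beta hs u q.out)⁻¹ : Fˣ) : F) • ρ (u : H) (avg q x : V) := by
      simp only [avg, LinearMap.sum_apply, LinearMap.smul_apply, Submodule.coe_sum, Submodule.coe_smul, hact,
        map_sum, map_smul, Finset.smul_sum, smul_smul]
      refine Fintype.sum_equiv (Equiv.mulLeft u⁻¹) _ _ fun t => ?_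
      rw [Equiv.coe_mulLeft, beta_mul_left, mul_inv_rev, Units.val_mul]
      have e2 : (beta hs u⁻¹ q.out)⁻¹ = beta hs u q.out := by
        rw [inv_eq_iff_mul_eq_one, ← beta_mul_left, inv_mul_cancel]
        exact (beta_eq_one_iff hs).2 (by simp)
      congr 1
      · rw [e2, mul_left_comm, Units.inv_mul, mul_one]
      · simp only [Subgroup.coe_mul, Subgroup.coe_inv, mul_inv_rev, inv_inv, map_mul, Module.End.mul_apply]
        conv_rhs => rw [← Module.End.mul_apply (ρ (u : H)), ← map_mul, mul_inv_cancel, map_one, Module.End.one_apply]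
    rw [hgval, hgval, h1, map_smul, ← Module.End.mul_apply, ← Module.End.mul_apply, ← map_mul, ← map_mul]
    have e := beta_spec hs u q.out⁻¹
    have e3 : beta hs u q.out⁻¹ = (beta hs u q.out)⁻¹ := by
      rw [eq_inv_iff_mul_eq_one, ← beta_mul_right, inv_mul_cancel, beta_zed hs u (one_mem _)]
    rw [e3, Subgroup.coe_inv] at e
    rw [← LinearMap.smul_apply, ← e]

end Cfsg.Lib.FitHeight
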