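import Cfsg.Agent.FitHeight.Dichotomy

/-!
An element fixing the fixed vectors acts on the classes as `1` or as inversion.
-/

set_option autoImplicit false
set_option linter.unusedSectionVars false
set_option linter.style.haveILetI false
set_option linter.unusedVariables false
set_option linter.unusedSimpArgs false

namespace Cfsg.Lib.FitHeight

open Module Cfsg.Lib.HallHigman

universe u v w

theorem arith_one {R k C S D : ℕ} (hR : 1 ≤ R) (hk : 2 ≤ k) (hC : 1 ≤ C) (hD : C + S = D) (hD2 : 2 ≤ D)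
    (h1 : (R + 1) * k * R * (C * C) + (R + 1) * (S * S) ≤ R * (D * D + (k - 1) * 1 + R * k))
    (h2 : (R + 1) * 1 * R * (C * C) + (R + 1) * (S * S) ≤ R * (D * D + R))
    (h3 : (R + 1) * k * D ≤ D * D + (k - 1) * 1 + R * k) : k = 2 := by
  obtain ⟨k', rfl⟩ := Nat.exists_eq_add_of_le hk
  simp only [show 2 + k' - 1 = k' + 1 by omega, Nat.mul_one] at h1 h2 h3
  subst hD
  zify at h1 h2 h3 hR hC hD2
  have h4 : ((R : ℤ) * C - S) ^ 2 + (R + 1) * R * (k' + 1) * (C * C) ≤ R * (k' + 1 + R * (2 + k')) := by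
    linear_combination h1
  have h5 : ((R : ℤ) * C - S) ^ 2 ≤ (R : ℤ) ^ 2 := by linear_combination h2
  have hC1 : (C : ℤ) = 1 := by
    by_contra hne
    have hC2 : (2 : ℤ) ≤ C := by omega
    have h6 : (4 : ℤ) ≤ C * C := by
      have := mul_le_mul hC2 hC2 (by norm_num) (by positivity)
      linarith
    have h7 := mul_le_mul_of_nonneg_left h6 (show (0 : ℤ) ≤ (R + 1) * R * (k' + 1) by positivity)
    have h8 : ((R : ℤ) + 1) * R * (k' + 1) * 4 ≤ R * (k' + 1 + R * (2 + k')) := by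
      linarith [sq_nonneg ((R : ℤ) * C - S)]
    have h9 : ((R : ℤ) + 1) * (k' + 1) * 4 ≤ k' + 1 + R * (2 + k') :=
      le_of_mul_le_mul_left (by linarith : (R : ℤ) * (((R : ℤ) + 1) * (k' + 1) * 4) ≤ R * (k' + 1 + R * (2 + k')))
        (by linarith)
    have h10 : (0 : ℤ) ≤ R * k' := by positivity
    linarith [Int.natCast_nonneg k']
  rw [hC1, mul_one] at h5
  rw [hC1] at h3 hD2
  have hS : (S : ℤ) ≤ 2 * R := by
    have := (abs_le.1 (abs_le_of_sq_le_sq h5 (by positivity))).1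
    linarith
  have h11 : ((R : ℤ) + 1) * (2 + k') * S ≤ (S + 2) * S := by linear_combination h3
  have h12 : ((R : ℤ) + 1) * (2 + k') ≤ S + 2 := le_of_mul_le_mul_right h11 (by linarith)
  have h13 : ((R : ℤ) + 1) * k' ≤ ((R : ℤ) + 1) * 0 := by linarith
  have h14 : (k' : ℤ) ≤ 0 := le_of_mul_le_mul_left h13 (by linarith)
  omega

theorem arith_two {R k C S Q0 Q1 : ℕ} (hk : 2 ≤ k) (hD : C + S = Q0 * Q1) (hQ0 : R ≤ Q0) (hQ0' : 2 ≤ Q0)
    (hR : 1 ≤ R) (hQ1 : 2 ≤ Q1) (hQ1' : R ≤ Q1) (h3 : R = 2 → 4 ≤ Q1) (h2' : R = 1 → 3 ≤ Q1 ∧ 3 ≤ Q0)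
    (h2'' : R ≠ 3)
    (h1 : (R + 1) * k * R * (C * C) + (R + 1) * (S * S) ≤
      R * (Q0 * Q1 * (Q0 * Q1) + (k - 1) * (Q0 * Q0) + R * k))
    (h2 : (R + 1) * 1 * R * (C * C) + (R + 1) * (S * S) ≤ R * (Q0 * Q1 * (Q0 * Q1) + R)) : False := by
  obtain ⟨k', rfl⟩ := Nat.exists_eq_add_of_le hk
  simp only [show 2 + k' - 1 = k' + 1 by omega, Nat.mul_one] at h1 h2
  zify at h1 h2 hD hQ0 hQ0' hR hQ1 hQ1'
  obtain ⟨D, hDdef⟩ : ∃ D : ℤ, (Q0 : ℤ) * Q1 = D := ⟨_, rfl⟩
  rw [hDdef] at h1 h2 hD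
  subst hD
  have e2 : ((R : ℤ) * C - S) ^ 2 ≤ (R : ℤ) ^ 2 := by linear_combination h2
  have e5 : (Q0 : ℤ) * (Q1 - 1) ≤ C + S - R := by rw [← hDdef]; linarith
  have h0 : 0 ≤ (Q0 : ℤ) * (Q1 - 1) := mul_nonneg (by positivity) (by linarith)
  have hlow : (C : ℤ) + S - R ≤ ((R : ℤ) + 1) * C := by
    have := (abs_le.1 (abs_le_of_sq_le_sq e2 (by positivity))).1
    linarith
  have hX : ((C : ℤ) + S - R) ^ 2 ≤ (((R : ℤ) + 1) * C) ^ 2 := pow_le_pow_left₀ (by linarith) hlow 2
  have e1 : ((R : ℤ) * C - S) ^ 2 + (R + 1) * R * (k' + 1) * (C * C) ≤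
      R * ((k' + 1) * (Q0 * Q0) + R * (2 + k')) := by linear_combination h1
  set X : ℤ := (C : ℤ) + S - R
  set r : ℤ := (R : ℤ) + 1 with hr
  have e3 : (R : ℤ) * (k' + 1) * X ^ 2 ≤ R * ((k' + 1) * (r * (Q0 * Q0)) + r * R * (2 + k')) := by
    calc (R : ℤ) * (k' + 1) * X ^ 2 ≤ R * (k' + 1) * (r * C) ^ 2 :=
          mul_le_mul_of_nonneg_left hX (by positivity)
      _ = r * (r * R * (k' + 1) * (C * C)) := by ring
      _ ≤ r * (R * ((k' + 1) * (Q0 * Q0) + R * (2 + k'))) :=
          mul_le_mul_of_nonneg_left (by linarith [sq_nonneg ((R : ℤ) * C - S)]) (by positivity)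
      _ = _ := by ring
  have e4 : X ^ 2 ≤ r * (Q0 * Q0) + 2 * r * R := by
    refine le_of_mul_le_mul_left (a := (R : ℤ) * (k' + 1)) ?_ (by positivity)
    have : (0 : ℤ) ≤ R * (r * R * k') := by positivity
    linarith
  have e6 : ((Q0 : ℤ) * Q0) * ((Q1 - 1) ^ 2 - r) ≤ 2 * r * R := by
    have h4 := pow_le_pow_left₀ h0 e5 2
    linear_combination h4 + e4
  rcases Nat.lt_or_ge R 4 with hlt | hge
  · obtain rfl | rfl : R = 1 ∨ R = 2 := by omega
    · obtain ⟨a, b⟩ := h2' rfl
      have a' : (3 : ℤ) ≤ Q1 := by exact_mod_cast a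
      have b' : (3 : ℤ) ≤ Q0 := by exact_mod_cast b
      have e7 : (4 : ℤ) ≤ ((Q1 : ℤ) - 1) ^ 2 := by
        have := pow_le_pow_left₀ (by norm_num : (0 : ℤ) ≤ 2) (by linarith : (2 : ℤ) ≤ (Q1 : ℤ) - 1) 2
        linarith
      have e8 : (9 : ℤ) ≤ (Q0 : ℤ) * Q0 := by
        have := mul_le_mul b' b' (by norm_num) (by positivity)
        linarith
      have e9 := mul_le_mul e8 (show (2 : ℤ) ≤ ((Q1 : ℤ) - 1) ^ 2 - r by rw [hr]; push_cast; linarith)
        (by norm_num) (by positivity)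
      rw [hr] at e6 e9
      push_cast at e6 e9
      linarith
    · have a' : (4 : ℤ) ≤ Q1 := by exact_mod_cast h3 rfl
      have e7 : (9 : ℤ) ≤ ((Q1 : ℤ) - 1) ^ 2 := by
        have := pow_le_pow_left₀ (by norm_num : (0 : ℤ) ≤ 3) (by linarith : (3 : ℤ) ≤ (Q1 : ℤ) - 1) 2
        linarith
      have e8 : (4 : ℤ) ≤ (Q0 : ℤ) * Q0 := by
        have := mul_le_mul hQ0' hQ0' (by norm_num) (by positivity)
        linarith
      have e9 := mul_le_mul e8 (show (6 : ℤ) ≤ ((Q1 : ℤ) - 1) ^ 2 - r by rw [hr]; push_cast; linarith)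
        (by norm_num) (by positivity)
      rw [hr] at e6 e9
      push_cast at e6 e9
      linarith
  · have hge' : (4 : ℤ) ≤ R := by exact_mod_cast hge
    have e7 := pow_le_pow_left₀ (by linarith : (0 : ℤ) ≤ (R : ℤ) - 1) (by linarith : (R : ℤ) - 1 ≤ (Q1 : ℤ) - 1) 2
    have hRR := mul_le_mul_of_nonneg_right hge' (show (0 : ℤ) ≤ R by positivity)
    have e8 : (R : ℤ) * R ≤ (Q0 : ℤ) * Q0 := mul_le_mul hQ0 hQ0 (by positivity) (by positivity)
    have e10 : (R : ℤ) ≤ ((Q1 : ℤ) - 1) ^ 2 - r := by rw [hr]; linarith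
    have e9 := mul_le_mul e8 e10 (by positivity) (by positivity)
    rw [hr] at e6
    have := mul_le_mul_of_nonneg_left hRR (show (0 : ℤ) ≤ R by positivity)
    linarith

variable {F : Type u} [Field F] {V : Type v} [AddCommGroup V] [Module F V] {H : Type w} [Group H]
  {ρ : H →* Module.End F V} {T : Subgroup H} [Finite H] {s : H} {r : ℕ}

theorem comm_classes (hs : ScalarComm ρ T) [Nontrivial V] (a b : T) :
    (QuotientGroup.mk (a * b) : T ⧸ zed ρ T) = QuotientGroup.mk (b * a) := by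
  rw [QuotientGroup.eq, mem_zed_iff hs, map_mul, map_inv, map_mul, map_mul, mul_comm (betaHom hs a), inv_mul_cancel]

theorem card_fixQ_le_of_pow (π : Equiv.Perm (T ⧸ zed ρ T)) (j : ℕ) : fixQ ρ T π ≤ fixQ ρ T (π ^ j) :=
  Nat.card_le_card_of_injective
    (fun x : {x // π x = x} => (⟨x.1, Equiv.Perm.pow_apply_eq_self_of_apply_eq_self x.2 j⟩ : {x // (π ^ j) x = x}))
    fun a b h => Subtype.ext (congrArg (fun z : {x // (π ^ j) x = x} => z.1) h)

variable [FiniteDimensional F V] [Nontrivial V] [IsAlgClosed F]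

/-- The fixed classes of a coprime element form a square number. -/
theorem Triple.fix_square (h : Triple ρ T s r)
    (hirr : ∀ W : Submodule F V, (∀ t ∈ T, ∀ x ∈ W, ρ t x ∈ W) → W = ⊥ ∨ W = ⊤)
    {e : H} (he : Nrm T e) (hcop : (orderOf e).Coprime (Nat.card T)) :
    ∃ Q₀ : ℕ, fixQ ρ T (conjQ ρ T he) = Q₀ * Q₀ ∧ Q₀ ≤ finrank F V := by
  classical
  haveI := zed_normal h.scal
  set π := conjQ ρ T he
  have hπmul : ∀ a b : T, π (QuotientGroup.mk a) = QuotientGroup.mk a → π (QuotientGroup.mk b) = QuotientGroup.mk b →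
      π (QuotientGroup.mk (a * b)) = QuotientGroup.mk (a * b) := by
    intro a b ha hb
    rw [conjQ_mk] at ha hb ⊢
    rw [show (⟨e * ((a * b : T) : H) * e⁻¹, he _ (a * b).2⟩ : T) =
      ⟨e * a * e⁻¹, he _ a.2⟩ * ⟨e * b * e⁻¹, he _ b.2⟩ from Subtype.ext (by simp [mul_assoc]),
      QuotientGroup.mk_mul, ha, hb, ← QuotientGroup.mk_mul]
  let T₀ : Subgroup H :=
    { carrier := {t | ∃ ht : t ∈ T, π (QuotientGroup.mk ⟨t, ht⟩) = QuotientGroup.mk ⟨t, ht⟩}
      one_mem' := ⟨one_mem T, conjQ_one he⟩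
      mul_mem' := fun {a b} ha hb => ⟨mul_mem ha.1 hb.1, hπmul ⟨a, ha.1⟩ ⟨b, hb.1⟩ ha.2 hb.2⟩
      inv_mem' := fun {a} ha => ⟨inv_mem ha.1, by
        have h1 := ha.2
        rw [conjQ_mk] at h1 ⊢
        have h2 := congrArg (fun x => x⁻¹) h1
        simp only [← QuotientGroup.mk_inv] at h2
        convert h2 using 2 <;> exact Subtype.ext (by simp [mul_assoc])⟩ }
  -- nondegeneracy
  have hnd : ∀ x : T, (x : H) ∈ T₀ → (∀ y : T, (y : H) ∈ T₀ → beta h.scal x y = 1) → x ∈ zed ρ T := by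
    intro x hx hy
    rw [mem_zed]
    intro y
    rw [← beta_eq_one_iff h.scal]
    -- the pairing is invariant
    have hinv : ∀ z : T, beta h.scal x ⟨e * z * e⁻¹, he z z.2⟩ = beta h.scal x z := by
      intro z
      obtain ⟨hxT, hxfix⟩ := hx
      rw [conjQ_mk, eq_comm, QuotientGroup.eq] at hxfix
      have h1 : beta h.scal ⟨e * x * e⁻¹, he x x.2⟩ ⟨e * z * e⁻¹, he z z.2⟩ = beta h.scal x z := by
        refine beta_eq h.scal ?_
        change ρ (e * x * e⁻¹ * (e * z * e⁻¹)) = (beta h.scal x z : F) • ρ (e * z * e⁻¹ * (e * x * e⁻¹))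
        rw [show e * (x : H) * e⁻¹ * (e * z * e⁻¹) = e * ((x : H) * z) * e⁻¹ by group,
          show e * (z : H) * e⁻¹ * (e * x * e⁻¹) = e * ((z : H) * x) * e⁻¹ by group]
        simp only [map_mul]
        rw [← map_mul ρ (x : H), beta_spec h.scal x z]
        simp [map_mul]
      have h2 : ∀ w : T, beta h.scal ⟨e * x * e⁻¹, he x x.2⟩ w = beta h.scal x w := fun w => by
        rw [show (⟨e * x * e⁻¹, he x x.2⟩ : T) = x * (x⁻¹ * ⟨e * x * e⁻¹, he x x.2⟩) by group, beta_mul_left,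
          (beta_eq_one_iff h.scal).2 (hxfix w), mul_one]
      rw [← h2, h1]
    set k := orderOf e
    have hprod : ∀ i : ℕ, ∃ hu : ((y : H) * e) ^ i * (e ^ i)⁻¹ ∈ T,
        beta h.scal x ⟨_, hu⟩ = beta h.scal x y ^ i := by
      intro i
      induction i with
      | zero =>
        refine ⟨by simp, ?_⟩
        rw [show (⟨_, _⟩ : T) = 1 from Subtype.ext (by simp), beta_zed h.scal x (one_mem _), pow_zero]
      | succ i ih =>
        obtain ⟨hu, hb⟩ := ih
        have e1 : ((y : H) * e) ^ (i + 1) * (e ^ (i + 1))⁻¹ =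
            y * (e * (((y : H) * e) ^ i * (e ^ i)⁻¹) * e⁻¹) := by
          rw [pow_succ' ((y : H) * e), pow_succ' e, mul_inv_rev]
          have hc : (e ^ i)⁻¹ * e⁻¹ = e⁻¹ * (e ^ i)⁻¹ := ((Commute.refl e).pow_left i).inv_inv.eq
          rw [hc]; group
        refine ⟨e1 ▸ mul_mem y.2 (he _ hu), ?_⟩
        rw [show (⟨_, _⟩ : T) = y * ⟨_, he _ hu⟩ from Subtype.ext e1, beta_mul_right, hinv ⟨_, hu⟩, hb, pow_succ']
    obtain ⟨hu, hb⟩ := hprod k
    have hk1 : (e ^ k)⁻¹ = 1 := by rw [pow_orderOf_eq_one, inv_one]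
    have huT : ((y : H) * e) ^ k ∈ T := by simpa [hk1] using hu
    have hu0 : ((y : H) * e) ^ k ∈ T₀ := by
      refine ⟨huT, ?_⟩
      rw [conjQ_mk]
      have e2 : e * ((y : H) * e) ^ k * e⁻¹ = (y : H)⁻¹ * ((y : H) * e) ^ k * y := by
        have hc : ((y : H) * e) * ((y : H) * e) ^ k = ((y : H) * e) ^ k * ((y : H) * e) :=
          ((Commute.refl _).pow_right k).eq
        generalize ((y : H) * e) ^ k = u at hc ⊢
        calc e * u * e⁻¹ = (y : H)⁻¹ * (((y : H) * e) * u) * e⁻¹ := by group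
          _ = _ := by rw [hc]; group
      rw [show (⟨_, _⟩ : T) = y⁻¹ * ⟨_, huT⟩ * y from Subtype.ext e2, comm_classes h.scal (y⁻¹ * ⟨_, huT⟩) y,
        mul_inv_cancel_left]
    have h3 : beta h.scal x y ^ k = 1 := by
      rw [← hb, show (⟨_, hu⟩ : T) = ⟨_, huT⟩ from Subtype.ext (by simp [hk1])]
      exact hy _ hu0
    have h4 : beta h.scal x y ^ Nat.card T = 1 := by
      change (betaHom h.scal y) x ^ Nat.card T = 1
      rw [← map_pow, pow_card_eq_one', map_one]
    have := Nat.dvd_gcd (orderOf_dvd_of_pow_eq_one h3) (orderOf_dvd_of_pow_eq_one h4)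
    rwa [hcop.gcd_eq_one, Nat.dvd_one, orderOf_eq_one_iff] at this
  -- an irreducible piece for the fixed classes
  obtain ⟨W, ⟨hWT, hW0⟩, hmin⟩ := WellFounded.has_min (wellFounded_lt (α := Submodule F V))
    {U : Submodule F V | (∀ t ∈ T₀, ∀ x ∈ U, ρ t x ∈ U) ∧ U ≠ ⊥} ⟨⊤, fun _ _ _ _ => Submodule.mem_top, top_ne_bot⟩
  haveI : Nontrivial W := Submodule.nontrivial_iff_ne_bot.2 hW0
  set K := stab ρ W
  have hTK : T₀ ≤ K := fun t ht => mem_stab_of_forall ρ (hWT t ht)
  set T' := T₀.subgroupOf K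
  set ρ' := subRep ρ W
  have hsc : ScalarComm ρ' T' := by
    intro a b
    refine ⟨beta h.scal ⟨((a : K) : H), a.2.1⟩ ⟨((b : K) : H), b.2.1⟩, LinearMap.ext fun x => Subtype.ext ?_⟩
    rw [LinearMap.smul_apply, Submodule.coe_smul]
    change ρ (((a : K) : H) * ((b : K) : H)) x = _ • ρ (((b : K) : H) * ((a : K) : H)) x
    exact LinearMap.congr_fun (beta_spec h.scal ⟨((a : K) : H), a.2.1⟩ ⟨((b : K) : H), b.2.1⟩) (x : V)
  have hcardT' : ((Nat.card T' : ℕ) : F) ≠ 0 := fun h0 => h.hTF (by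
    obtain ⟨c, hc⟩ : Nat.card T' ∣ Nat.card T := by
      rw [Nat.card_congr (Subgroup.subgroupOfEquivOfLe hTK).toEquiv]
      exact Subgroup.card_dvd_of_le fun t ht => ht.1
    rw [hc, Nat.cast_mul, h0, zero_mul])
  have hirr' : ∀ U : Submodule F W, (∀ t ∈ T', ∀ x ∈ U, ρ' t x ∈ U) → U = ⊥ ∨ U = ⊤ := by
    intro U hU
    by_cases hU0 : U = ⊥
    · exact Or.inl hU0
    right
    have hle : U.map W.subtype ≤ W := by rintro _ ⟨y, -, rfl⟩; exact y.2
    rcases hle.lt_or_eq with hlt | heq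
    · refine absurd hlt (hmin _ ⟨fun t ht v hv => ?_, ?_⟩)
      · obtain ⟨y, hy, rfl⟩ := hv
        exact ⟨ρ' ⟨t, hTK ht⟩ y, hU ⟨t, hTK ht⟩ ht y hy, rfl⟩
      · intro hb
        refine hU0 (Submodule.map_injective_of_injective W.injective_subtype ?_)
        rw [hb, Submodule.map_bot]
    · exact Submodule.map_injective_of_injective W.injective_subtype (by rw [heq, Submodule.map_subtype_top])
  obtain ⟨hcard, -⟩ := card_classes hsc hcardT' hirr'
  refine ⟨finrank F W, ?_, Submodule.finrank_le W⟩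
  rw [← hcard]
  have hzed : ∀ t : T', t ∈ zed ρ' T' ↔ (⟨((t : K) : H), t.2.1⟩ : T) ∈ zed ρ T := by
    intro t
    constructor
    · intro ht
      refine hnd _ t.2 fun y hy => ?_
      have h1 := ht ⟨⟨y, hTK hy⟩, hy⟩
      have h2 : ρ' ((t : K) * ⟨y, hTK hy⟩) =
          (beta h.scal (⟨((t : K) : H), t.2.1⟩ : T) y : F) • ρ' (⟨y, hTK hy⟩ * (t : K)) :=
        LinearMap.ext fun x => Subtype.ext (by
          rw [LinearMap.smul_apply, Submodule.coe_smul]
          change ρ (((t : K) : H) * y) x = _ • ρ ((y : H) * ((t : K) : H)) x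
          exact LinearMap.congr_fun (beta_spec h.scal ⟨((t : K) : H), t.2.1⟩ y) (x : V))
      refine (smul_rho_inj (ρ := ρ') (c := 1) (x := (⟨y, hTK hy⟩ : K) * t) ?_).symm
      rw [Units.val_one, one_smul, ← h2]
      exact h1.symm
    · intro ht a
      exact LinearMap.ext fun x => Subtype.ext (LinearMap.congr_fun (ht ⟨_, a.2.1⟩) (x : V))
  symm
  refine Nat.card_congr (Equiv.ofBijective
    (Quotient.lift (fun t : T' => (⟨QuotientGroup.mk (⟨((t : K) : H), t.2.1⟩ : T), t.2.2⟩ : {x // π x = x})) ?_) ⟨?_, ?_⟩)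
  · intro a b hab
    have hab' : a⁻¹ * b ∈ zed ρ' T' := QuotientGroup.leftRel_apply.1 hab
    refine Subtype.ext (QuotientGroup.eq.2 ?_)
    exact (hzed _).1 hab'
  · intro x y hxy
    obtain ⟨a, rfl⟩ := Quotient.exists_rep x
    obtain ⟨b, rfl⟩ := Quotient.exists_rep y
    exact Quotient.sound (QuotientGroup.leftRel_apply.2 ((hzed (a⁻¹ * b)).2 (QuotientGroup.eq.1 (congrArg Subtype.val hxy))))
  · rintro ⟨x, hx⟩
    obtain ⟨t, rfl⟩ := QuotientGroup.mk_surjective x
    exact ⟨Quotient.mk _ ⟨⟨t, hTK ⟨t.2, hx⟩⟩, ⟨t.2, hx⟩⟩, rfl⟩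

set_option maxHeartbeats 2000000 in
/-- An element fixing the fixed vectors acts on the classes as `1` or as inversion. -/
theorem Triple.neg_or_one (h : Triple ρ T s r) {q : ℕ} [Fact q.Prime] (hq : IsPGroup q T) (hN : zed ρ T ≠ ⊤)
    (hirr : ∀ W : Submodule F V, (∀ t ∈ T, ∀ x ∈ W, ρ t x ∈ W) → W = ⊥ ∨ W = ⊤)
    {d : H} (hd : Nrm T d) (hds : Commute d s) (hdr : ¬ r ∣ orderOf d)
    (hcop : (orderOf d).Coprime (Nat.card T)) (hfix : ∀ v : V, ρ s v = v → ρ d v = v) :
    conjQ ρ T hd = 1 ∨ ∀ t : T, (⟨d * t * d⁻¹, hd t t.2⟩ : T) * t ∈ zed ρ T := by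
  classical
  haveI := zed_normal h.scal
  by_cases hC0 : ∀ v : V, ρ s v = v → v = 0
  · exact Or.inl ((h.no_fixed hirr hq hN hC0).2 d hd hds hdr)
  push Not at hC0
  obtain ⟨v₀, hv₀, hv₀0⟩ := hC0
  obtain ⟨hmod, ⟨m, hm⟩, hD2⟩ := h.dim_facts hirr hq hN
  obtain ⟨hN', -⟩ := card_classes h.scal h.hTF hirr
  set D := finrank F V
  obtain ⟨R, hR⟩ := Nat.exists_eq_add_of_le h.hr.one_le
  have hR' : r - 1 = R := by omega
  have hr2 := h.hr.two_le
  have hCpos : 1 ≤ finrank F (LinearMap.ker (ρ s - 1)) := by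
    by_contra hc
    refine hv₀0 ?_
    have h0 : LinearMap.ker (ρ s - 1) = ⊥ := Submodule.finrank_eq_zero.1 (by omega)
    have : v₀ ∈ LinearMap.ker (ρ s - 1) := by simp [hv₀]
    rwa [h0, Submodule.mem_bot] at this
  -- the inequalities for a power
  have ineq : ∀ (j k N₀ : ℕ), ¬ r ∣ k → conjQ ρ T (nrm_pow hd j) ^ k = 1 →
      (∀ i, ¬ k ∣ i → fixQ ρ T (conjQ ρ T (nrm_pow hd j) ^ i) ≤ N₀) →
      ∃ C S, C = finrank F (LinearMap.ker (ρ s - 1)) ∧ C + S = D ∧
      r * k * R * (C * C) + r * (S * S) ≤ R * (D * D + (k - 1) * N₀ + R * k) ∧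
      r * k * D ≤ D * D + (k - 1) * N₀ + R * k := by
    intro j k N₀ hk hπ hN₀
    have hjs : Commute (d ^ j) s := hds.pow_left j
    have hfj : ∀ (i : ℕ) (v : V), ρ s v = v → ρ (d ^ i) v = v := by
      intro i
      induction i with
      | zero => intro v _; simp
      | succ i ih => intro v hv; rw [pow_succ', ← rho_rho, ih v hv, hfix v hv]
    obtain ⟨c, hc⟩ := h.scalar_of_trivial hirr (e := (d ^ j) ^ k) (nrm_pow (nrm_pow hd j) k) (hjs.pow_left k)
      (by rw [← conjQ_pow (nrm_pow hd j) k, hπ])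
    have hc1 : c = 1 := by
      have h1 : ρ ((d ^ j) ^ k) v₀ = v₀ := by rw [← pow_mul]; exact hfj _ _ hv₀
      rw [hc, LinearMap.smul_apply, Module.End.one_apply] at h1
      exact smul_left_injective F hv₀0 (h1.trans (one_smul F v₀).symm)
    rw [hc1, one_smul] at hc
    obtain ⟨C, S, h1, h2, h3⟩ := h.main_ineq hirr (nrm_pow hd j) hjs hk hπ hc hN₀ (hfj j)
    have h4 := (Nat.mul_le_mul_left (r * k) (finrank_le_cent (ρ (s * d ^ j)))).trans
      (h.orbit_bound hirr (nrm_pow hd j) hjs hk hπ hN₀)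
    rw [hR'] at h3 h4
    exact ⟨C, S, h1, h2, h3, h4⟩
  have base : ∃ C S, C = finrank F (LinearMap.ker (ρ s - 1)) ∧ C + S = D ∧
      r * 1 * R * (C * C) + r * (S * S) ≤ R * (D * D + R) := by
    obtain ⟨C, S, h1, h2, h3, -⟩ := ineq 0 1 0 (by simpa using h.hr.ne_one)
      (by rw [pow_one, conjQ_eq_one _ (pow_zero d)]) (fun i hi => absurd (one_dvd i) hi)
    exact ⟨C, S, h1, h2, by simpa using h3⟩
  obtain ⟨C, S, hCdef, hCS, hbase⟩ := base
  -- one fixed class forces order two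
  have keyA : ∀ j k, ¬ r ∣ k → 2 ≤ k → conjQ ρ T (nrm_pow hd j) ^ k = 1 →
      (∀ i, ¬ k ∣ i → fixQ ρ T (conjQ ρ T (nrm_pow hd j) ^ i) ≤ 1) → k = 2 := by
    intro j k hk hk2 hπ hN₀
    obtain ⟨C', S', h1, h2, h3, h4⟩ := ineq j k 1 hk hπ hN₀
    obtain rfl : C' = C := h1.trans hCdef.symm
    obtain rfl : S' = S := by omega
    refine arith_one (R := R) (by omega) hk2 (by omega) h2 hD2 ?_ ?_ ?_
    · rw [show R + 1 = r by omega]; exact h3
    · rw [show R + 1 = r by omega]; exact hbase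
    · rw [show R + 1 = r by omega]; exact h4
  set π := conjQ ρ T hd with hπdef
  have hjd : ∀ j, conjQ ρ T (nrm_pow hd j) = π ^ j := fun j => (conjQ_pow hd j).symm
  set o := orderOf π with hodef
  have hod : o ∣ orderOf d :=
    (orderOf_map_dvd (conjHom ρ T) ⟨d, hd⟩).trans (dvd_of_eq (Subgroup.orderOf_coe (⟨d, hd⟩ : nrmSub T)).symm)
  have hro : ¬ r ∣ o := fun hdvd => hdr (hdvd.trans hod)
  have hfix1 : ∀ g : H, ∀ hg : Nrm T g, 1 ≤ fixQ ρ T (conjQ ρ T hg) := fun g hg => by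
    haveI : Nonempty {x // conjQ ρ T hg x = x} := ⟨⟨_, conjQ_one hg⟩⟩
    exact Nat.card_pos
  -- an element of prime order has one fixed class
  have keyB : ∀ p, p.Prime → p ∣ o → fixQ ρ T (π ^ (o / p)) = 1 := by
    intro p hp hpo
    set j := o / p
    have hoj : orderOf (π ^ j) = p := orderOf_pow_orderOf_div (orderOf_pos π).ne' hpo
    set σ := π ^ j with hσdef
    by_contra hne
    obtain ⟨Q0, hQ0, hQ0D⟩ := h.fix_square hirr (e := d ^ j) (nrm_pow hd j) (by
      exact Nat.Coprime.coprime_dvd_left (orderOf_pow_dvd j) hcop)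
    rw [hjd, ← hσdef] at hQ0
    have hp2 := hp.two_le
    have hpow : ∀ i, ¬ p ∣ i → fixQ ρ T (σ ^ i) ≤ fixQ ρ T σ := by
      intro i hi
      obtain ⟨c, -, hc⟩ := Nat.exists_mul_mod_eq_one_of_coprime (n := i) ((hp.coprime_iff_not_dvd.2 hi).symm) hp.one_lt
      refine (card_fixQ_le_of_pow (σ ^ i) c).trans_eq ?_
      rw [← pow_mul, ← Nat.mod_add_div (i * c) p, hc, pow_add, pow_one, pow_mul,
        ← hoj, pow_orderOf_eq_one, one_pow, mul_one]
    obtain ⟨C', S', h1, h2, h3, -⟩ := ineq j p (Q0 * Q0) (fun hh => hro (hh.trans hpo))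
      (by rw [hjd, ← hσdef, ← hoj, pow_orderOf_eq_one]) (fun i hi => by rw [hjd, ← hσdef, ← hQ0]; exact hpow i hi)
    obtain rfl : C' = C := h1.trans hCdef.symm
    obtain rfl : S' = S := by omega
    -- divisibility and congruences
    have hfixmod : Q0 * Q0 % r = 1 := by
      rw [← hQ0]
      refine h.card_mod (fun x => σ x = x) (Equiv.Perm.pow_apply_eq_self_of_apply_eq_self (conjQ_one hd) j) fun x hx => ?_
      have hc : Commute (conjQ ρ T h.hsT) σ := (conjQ_commute h.hsT hd hds.symm).pow_right j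
      change σ (conjQ ρ T h.hsT x) = _
      rw [← Equiv.Perm.mul_apply, ← hc.eq, Equiv.Perm.mul_apply, hx]
    have hTdvd : fixQ ρ T σ ∣ Nat.card (T ⧸ zed ρ T) := by
      let S₀ : Subgroup (T ⧸ zed ρ T) :=
        { carrier := {x | σ x = x}
          one_mem' := Equiv.Perm.pow_apply_eq_self_of_apply_eq_self (conjQ_one hd) j
          mul_mem' := fun {a b} ha hb => by
            obtain ⟨a, rfl⟩ := QuotientGroup.mk_surjective a
            obtain ⟨b, rfl⟩ := QuotientGroup.mk_surjective b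
            change σ _ = _ at ha hb ⊢
            rw [hσdef, ← hjd, conjQ_mk] at ha hb
            rw [← QuotientGroup.mk_mul, hσdef, ← hjd, conjQ_mk,
              show (⟨d ^ j * ((a * b : T) : H) * (d ^ j)⁻¹, _⟩ : T) =
                ⟨d ^ j * a * (d ^ j)⁻¹, nrm_pow hd j _ a.2⟩ * ⟨d ^ j * b * (d ^ j)⁻¹, nrm_pow hd j _ b.2⟩ from
                Subtype.ext (by simp [mul_assoc]), QuotientGroup.mk_mul, ha, hb, ← QuotientGroup.mk_mul]
          inv_mem' := fun {a} ha => by
            obtain ⟨a, rfl⟩ := QuotientGroup.mk_surjective a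
            change σ _ = _ at ha ⊢
            rw [hσdef, ← hjd, conjQ_mk] at ha
            rw [← QuotientGroup.mk_inv, hσdef, ← hjd, conjQ_mk,
              show (⟨d ^ j * ((a⁻¹ : T) : H) * (d ^ j)⁻¹, _⟩ : T) =
                (⟨d ^ j * a * (d ^ j)⁻¹, nrm_pow hd j _ a.2⟩ : T)⁻¹ from Subtype.ext (by simp [mul_assoc]),
              QuotientGroup.mk_inv, ha, ← QuotientGroup.mk_inv] }
      exact Subgroup.card_subgroup_dvd_card S₀
    have hσ1 : σ ≠ 1 := fun h0 => by
      rw [h0, orderOf_one] at hoj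
      omega
    have hlt := fixQ_le hσ1
    rw [hN', hQ0] at hTdvd hlt
    obtain ⟨m0, hm0⟩ : ∃ m0, Q0 = q ^ m0 := by
      have hd2 : Q0 ∣ D := (Nat.pow_dvd_pow_iff (n := 2) (by norm_num)).1 (by rw [pow_two, pow_two]; exact hTdvd)
      obtain ⟨m0, -, hm0⟩ := (Nat.dvd_prime_pow (Fact.out : q.Prime)).1 (hm ▸ hd2)
      exact ⟨m0, hm0⟩
    have hQ0lt : Q0 < D := Nat.mul_self_lt_mul_self_iff.1 (by omega)
    have hm0m : m0 ≤ m := by
      rw [hm0, hm] at hQ0lt
      exact ((Nat.pow_lt_pow_iff_right (Fact.out : q.Prime).one_lt).1 hQ0lt).le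
    set Q1 := q ^ (m - m0) with hQ1def
    have hDQ : D = Q0 * Q1 := by rw [hm, hm0, hQ1def, ← pow_add, Nat.add_sub_cancel' hm0m]
    have hQ02 : 2 ≤ Q0 := by
      have : fixQ ρ T σ ≠ 1 := hne
      rw [hQ0] at this
      have h0 : Q0 ≠ 0 := fun e => by rw [e, mul_zero, Nat.zero_mod] at hfixmod; exact zero_ne_one hfixmod
      have h1' : Q0 ≠ 1 := fun e => this (by rw [e])
      omega
    have hQ12 : 2 ≤ Q1 := by
      have h0 : Q1 ≠ 0 := fun e => by rw [e, mul_zero] at hDQ; omega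
      have h1' : Q1 ≠ 1 := fun e => by rw [e, mul_one] at hDQ; omega
      omega
    have hQ1mod : Q1 * Q1 % r = 1 := by
      have h5 := hmod
      rw [hDQ, show Q0 * Q1 * (Q0 * Q1) = (Q0 * Q0) * (Q1 * Q1) by ring, Nat.mul_mod, hfixmod, one_mul,
        Nat.mod_mod] at h5
      exact h5
    have hRQ : ∀ Q, 2 ≤ Q → Q * Q % r = 1 → R ≤ Q := by
      intro Q hQ hQm
      rcases sq_mod_cases h.hr hQm with h6 | h6
      · have := Nat.le_of_dvd (by omega) h6; omega
      · have := Nat.le_of_dvd (by omega) h6; omega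
    have hRne3 : R ≠ 3 := fun h6 => by
      have : r = 4 := by omega
      exact absurd (this ▸ h.hr) (by decide)
    refine arith_two (R := R) hp2 (hCS.trans hDQ) (hRQ _ hQ02 hfixmod) hQ02 (by omega) hQ12 (hRQ _ hQ12 hQ1mod)
      ?_ ?_ hRne3 ?_ ?_
    · -- three-element orbits
      intro hR2
      have hr3 : r = 3 := by omega
      by_contra hlt4
      push Not at hlt4
      have hQ1eq : Q1 = 2 := by
        interval_cases Q1
        · rfl
        · rw [hr3] at hQ1mod; omega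
      have hq2 : q = 2 := by
        have h6 : q ∣ Q1 := dvd_pow_self q fun h0 => by rw [hQ1def, h0, pow_zero] at hQ12; omega
        rw [hQ1eq] at h6
        exact (Nat.prime_dvd_prime_iff_eq (Fact.out : q.Prime) Nat.prime_two).1 h6
      have hpq : p ≠ 2 := by
        rintro rfl
        have h7 : 2 ∣ Nat.card T := by
          refine (Dvd.intro _ rfl : 2 ∣ 2 * (Q0 * D)).trans ?_
          rw [show 2 * (Q0 * D) = D * D by rw [hDQ, hQ1eq]; ring, ← hN']
          exact Subgroup.card_quotient_dvd_card _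
        exact absurd (Nat.Coprime.coprime_dvd_left (hpo.trans hod) (Nat.Coprime.coprime_dvd_right h7 hcop))
          (by decide)
      -- the commutator map with `σ`
      let φ : (T ⧸ zed ρ T) → (T ⧸ zed ρ T) := fun x => x⁻¹ * σ x
      have hσh : ∀ x y : T ⧸ zed ρ T, σ (x * y) = σ x * σ y := by
        intro x y
        obtain ⟨x, rfl⟩ := QuotientGroup.mk_surjective x
        obtain ⟨y, rfl⟩ := QuotientGroup.mk_surjective y
        rw [← QuotientGroup.mk_mul, hσdef, ← hjd, conjQ_mk, conjQ_mk, conjQ_mk, ← QuotientGroup.mk_mul]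
        exact congrArg QuotientGroup.mk (Subtype.ext (by simp [mul_assoc]))
      letI : CommGroup (T ⧸ zed ρ T) :=
        { mul_comm := fun x y => by
            obtain ⟨a, rfl⟩ := QuotientGroup.mk_surjective x
            obtain ⟨b, rfl⟩ := QuotientGroup.mk_surjective y
            exact comm_classes h.scal a b }
      let φh : (T ⧸ zed ρ T) →* (T ⧸ zed ρ T) := MonoidHom.mk' φ fun x y => by
        simp only [φ, hσh]
        rw [mul_inv, mul_mul_mul_comm]
      set Im := φh.range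
      have hker : Nat.card φh.ker = Q0 * Q0 := by
        rw [← hQ0]
        exact Nat.card_congr (Equiv.subtypeEquivRight fun x => by
          change x⁻¹ * σ x = 1 ↔ σ x = x
          rw [inv_mul_eq_one, eq_comm])
      have hIm : Nat.card Im = 4 := by
        have h8 := Subgroup.card_eq_card_quotient_mul_card_subgroup φh.ker
        rw [Nat.card_congr (QuotientGroup.quotientKerEquivRange φh).toEquiv, hker, hN', hDQ, hQ1eq] at h8
        have h9 : 0 < Q0 * Q0 := Nat.mul_pos (by omega) (by omega)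
        refine Nat.eq_of_mul_eq_mul_right h9 ?_
        rw [← h8]; ring
      have hσn : ∀ (n : ℕ) (x : T ⧸ zed ρ T), φ (φ x) = 1 → (σ ^ n) x = x * φ x ^ n := by
        intro n x hx
        have hfixy : σ (φ x) = φ x := (inv_mul_eq_one.1 hx).symm
        have hp' : ∀ i : ℕ, σ (φ x ^ i) = φ x ^ i := fun i => by
          induction i with
          | zero => simpa using hσh 1 1
          | succ i ihi => rw [pow_succ, hσh, ihi, hfixy]
        induction n with
        | zero => simp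
        | succ n ih =>
          rw [pow_succ', Equiv.Perm.mul_apply, ih, hσh, show σ x = x * φ x by simp [φ], hp' n, mul_assoc, ← pow_succ']
      have hIm0 : ∀ y ∈ Im, σ y = y → y = 1 := by
        rintro y ⟨x, rfl⟩ hy
        have h8 := hσn p x (inv_mul_eq_one.2 hy.symm)
        rw [← hoj, pow_orderOf_eq_one, Equiv.Perm.one_apply, left_eq_mul, hoj] at h8
        have h9 : φ x ^ Nat.card T = 1 := by
          obtain ⟨a, ha⟩ := QuotientGroup.mk_surjective (φ x)
          rw [← ha, ← QuotientGroup.mk_pow, pow_card_eq_one', QuotientGroup.mk_one]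
        have h10 := Nat.dvd_gcd (orderOf_dvd_of_pow_eq_one h8) (orderOf_dvd_of_pow_eq_one h9)
        rw [(Nat.Coprime.coprime_dvd_left (hpo.trans hod) hcop).gcd_eq_one, Nat.dvd_one, orderOf_eq_one_iff] at h10
        exact h10
      obtain ⟨y, hyI, hy1⟩ : ∃ y ∈ Im, y ≠ (1 : T ⧸ zed ρ T) := by
        by_contra hc
        push Not at hc
        have : Im = ⊥ := (Subgroup.eq_bot_iff_forall _).2 hc
        rw [this, Subgroup.card_bot] at hIm
        omega
      set a := conjQ ρ T h.hsT with hadef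
      have haσ : Commute a σ := (conjQ_commute h.hsT hd hds.symm).pow_right j
      have hah : ∀ x y : T ⧸ zed ρ T, a (x * y) = a x * a y := by
        intro x y
        obtain ⟨x, rfl⟩ := QuotientGroup.mk_surjective x
        obtain ⟨y, rfl⟩ := QuotientGroup.mk_surjective y
        rw [← QuotientGroup.mk_mul, hadef, conjQ_mk, conjQ_mk, conjQ_mk, ← QuotientGroup.mk_mul]
        exact congrArg QuotientGroup.mk (Subtype.ext (by simp [mul_assoc]))
      have ha1 : a 1 = 1 := conjQ_one h.hsT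
      have haI : ∀ x ∈ Im, a x ∈ Im := by
        rintro _ ⟨x, rfl⟩
        refine ⟨a x, ?_⟩
        change (a x)⁻¹ * σ (a x) = a (x⁻¹ * σ x)
        rw [hah, eq_inv_of_mul_eq_one_left (by rw [← hah, inv_mul_cancel, ha1] : a x⁻¹ * a x = 1)]
        congr 1
        exact (Equiv.congr_fun haσ.eq x).symm
      have hsI : ∀ x ∈ Im, σ x ∈ Im := by
        rintro _ ⟨x, rfl⟩
        refine ⟨σ x, ?_⟩
        change (σ x)⁻¹ * σ (σ x) = σ (x⁻¹ * σ x)
        have hs1 : σ 1 = 1 := by
          have := hσh 1 1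
          rw [mul_one] at this
          exact left_eq_mul.1 this
        rw [hσh, eq_inv_of_mul_eq_one_left (by rw [← hσh, inv_mul_cancel, hs1] : σ x⁻¹ * σ x = 1)]
      have har : a ^ 3 = 1 := by rw [← hr3, hadef, conjQ_pow, conjQ_eq_one _ h.hs]
      have hafix : ∀ i, ¬ 3 ∣ i → ∀ x, (a ^ i) x = x → x = 1 := by
        intro i hi x hx
        have h11 : a x = x := by
          rcases (show i % 3 = 1 ∨ i % 3 = 2 by omega) with h12 | h12
          · rwa [← Nat.mod_add_div i 3, pow_add, pow_mul, har, one_pow, mul_one, h12, pow_one] at hx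
          · rw [← Nat.mod_add_div i 3, pow_add, pow_mul, har, one_pow, mul_one, h12] at hx
            calc a x = a ((a ^ 2) x) := by rw [hx]
              _ = (a ^ 3) x := by rw [pow_succ' a 2, Equiv.Perm.mul_apply]
              _ = x := by rw [har, Equiv.Perm.one_apply]
        exact h.fix_s x h11
      have hay : a y ≠ y := fun e => hy1 (hafix 1 (by norm_num) y (by rwa [pow_one]))
      have haay : a (a y) ≠ y := fun e => hy1 (hafix 2 (by norm_num) y (by rwa [pow_two, Equiv.Perm.mul_apply]))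
      have haay' : a (a y) ≠ a y := fun e => hay (a.injective e)
      have hmem : σ y = a y ∨ σ y = a (a y) := by
        by_contra hc
        push Not at hc
        haveI : Fintype Im := Fintype.ofFinite _
        have hsub : ({1, y, a y, a (a y), σ y} : Finset (T ⧸ zed ρ T)) ⊆
            Finset.univ.image (fun x : Im => (x : T ⧸ zed ρ T)) := by
          intro x hx
          simp only [Finset.mem_insert, Finset.mem_singleton] at hx
          simp only [Finset.mem_image, Finset.mem_univ, true_and]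
          rcases hx with rfl | rfl | rfl | rfl | rfl
          · exact ⟨1, rfl⟩
          · exact ⟨⟨_, hyI⟩, rfl⟩
          · exact ⟨⟨_, haI _ hyI⟩, rfl⟩
          · exact ⟨⟨_, haI _ (haI _ hyI)⟩, rfl⟩
          · exact ⟨⟨_, hsI _ hyI⟩, rfl⟩
        have h13 := Finset.card_le_card hsub
        rw [Finset.card_image_of_injective _ Subtype.val_injective, Finset.card_univ, ← Nat.card_eq_fintype_card,
          hIm] at h13
        have hs1 : σ 1 = 1 := Equiv.Perm.pow_apply_eq_self_of_apply_eq_self (conjQ_one hd) j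
        have n1 : (1 : T ⧸ zed ρ T) ≠ a y := fun e => hy1 (a.injective (ha1.trans e)).symm
        have n2 : (1 : T ⧸ zed ρ T) ≠ a (a y) := fun e =>
          hy1 (a.injective (a.injective ((show a (a 1) = 1 by rw [ha1, ha1]).trans e))).symm
        have n3 : (1 : T ⧸ zed ρ T) ≠ σ y := fun e => hy1 (σ.injective (hs1.trans e)).symm
        rw [Finset.card_insert_of_notMem, Finset.card_insert_of_notMem, Finset.card_insert_of_notMem,
          Finset.card_insert_of_notMem, Finset.card_singleton] at h13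
        · omega
        · simpa using Ne.symm hc.2
        · simp only [Finset.mem_insert, Finset.mem_singleton, not_or]
          exact ⟨Ne.symm haay', Ne.symm hc.1⟩
        · simp only [Finset.mem_insert, Finset.mem_singleton, not_or]
          exact ⟨Ne.symm hay, Ne.symm haay, fun e => hy1 (hIm0 y hyI e.symm)⟩
        · simp only [Finset.mem_insert, Finset.mem_singleton, not_or]
          exact ⟨Ne.symm hy1, n1, n2, n3⟩
      have hp3 : ¬ 3 ∣ p := fun hh => hro (hr3 ▸ hh.trans hpo)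
      obtain ⟨i, hi, hiy⟩ : ∃ i, ¬ 3 ∣ i ∧ σ y = (a ^ i) y := by
        rcases hmem with e | e
        · exact ⟨1, by norm_num, by rw [pow_one]; exact e⟩
        · exact ⟨2, by norm_num, by rw [pow_two, Equiv.Perm.mul_apply]; exact e⟩
      have hn : ∀ n : ℕ, (σ ^ n) y = (a ^ (i * n)) y := by
        intro n
        induction n with
        | zero => simp
        | succ n ihn =>
          have hc1 : Commute (a ^ (i * n)) σ := haσ.pow_left _
          rw [pow_succ', Equiv.Perm.mul_apply, ihn, ← Equiv.Perm.mul_apply, ← hc1.eq, Equiv.Perm.mul_apply, hiy,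
            ← Equiv.Perm.mul_apply, ← pow_add, ← Nat.mul_succ]
      have h14 := hn p
      rw [← hoj, pow_orderOf_eq_one, Equiv.Perm.one_apply, hoj] at h14
      exact hy1 (hafix _ (fun hh => (Nat.prime_three.dvd_mul.1 hh).elim hi hp3) y h14.symm)
    · -- an automorphism of order two
      intro hR1
      have hr2' : r = 2 := by omega
      have hodd : ∀ i, Q0 = q ^ i ∨ Q1 = q ^ i → q ^ i % 2 = 1 := by
        intro i hi
        rcases hi with hi | hi <;> rw [← hi]
        · rw [hr2', Nat.mul_mod] at hfixmod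
          rcases Nat.mod_two_eq_zero_or_one Q0 with e | e <;> simp [e] at hfixmod ⊢
        · rw [hr2', Nat.mul_mod] at hQ1mod
          rcases Nat.mod_two_eq_zero_or_one Q1 with e | e <;> simp [e] at hQ1mod ⊢
      have a1 := hodd m0 (Or.inl hm0)
      have a2 := hodd (m - m0) (Or.inr hQ1def)
      rw [← hm0] at a1
      rw [← hQ1def] at a2
      omega
    · rw [show R + 1 = r by omega, ← hDQ]; exact h3
    · rw [show R + 1 = r by omega, ← hDQ]; exact hbase
  -- conclusion
  by_cases ho1 : o = 1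
  · exact Or.inl (orderOf_eq_one_iff.1 ho1)
  have htwo : ∀ p, p.Prime → p ∣ o → p = 2 := by
    intro p hp hpo
    refine keyA (o / p) p (fun hh => hro (hh.trans hpo)) hp.two_le ?_ fun i hi => ?_
    · rw [hjd, ← pow_mul, Nat.div_mul_cancel hpo, pow_orderOf_eq_one]
    · rw [hjd]
      obtain ⟨c, -, hc⟩ := Nat.exists_mul_mod_eq_one_of_coprime (n := i) ((hp.coprime_iff_not_dvd.2 hi).symm) hp.one_lt
      refine ((card_fixQ_le_of_pow _ c).trans_eq ?_).trans (keyB p hp hpo).le
      rw [← pow_mul (π ^ (o / p)), ← Nat.mod_add_div (i * c) p, hc, pow_add, pow_one, pow_mul, ← pow_mul π _ p,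
        Nat.div_mul_cancel hpo, pow_orderOf_eq_one, one_pow, mul_one]
  obtain ⟨p, hp, hpo⟩ := Nat.exists_prime_and_dvd ho1
  obtain rfl := htwo p hp hpo
  have hfix2 := keyB 2 Nat.prime_two hpo
  have ho2 : o = 2 := by
    by_contra hne
    have h4o : 4 ∣ o := by
      obtain ⟨c, hc⟩ := hpo
      have hc1 : c ≠ 1 := fun e => hne (by rw [hc, e])
      obtain ⟨p', hp', hp'c⟩ := Nat.exists_prime_and_dvd hc1
      have h2c : p' = 2 := htwo p' hp' (hc ▸ hp'c.mul_left 2)
      subst h2c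
      rw [hc]
      exact mul_dvd_mul_left 2 hp'c
    have := keyA (o / 4) 4 (fun hh => hro (hh.trans h4o)) (by norm_num)
      (by rw [hjd, ← pow_mul, Nat.div_mul_cancel h4o, pow_orderOf_eq_one]) fun i hi => by
        rw [hjd]
        have e4 : o / 2 = o / 4 * 2 := by
          obtain ⟨c, hc⟩ := h4o
          omega
        rcases Nat.even_or_odd i with ⟨c, hc⟩ | ⟨c, hc⟩
        · have hco : c % 2 = 1 := by omega
          refine le_of_eq_of_le (congrArg (fixQ ρ T) ?_) hfix2.le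
          rw [← pow_mul, e4, show o / 4 * i = o / 4 * 2 + o * (c / 2) by
            obtain ⟨e, he⟩ := h4o
            rw [he, Nat.mul_div_cancel_left _ (by norm_num : 0 < 4), hc]
            have := Nat.mod_add_div c 2
            nlinarith, pow_add, pow_mul π o, pow_orderOf_eq_one, one_pow, mul_one]
        · refine ((card_fixQ_le_of_pow _ 2).trans_eq ?_).trans hfix2.le
          congr 1
          rw [← pow_mul, ← pow_mul, e4, show o / 4 * (i * 2) = o / 4 * 2 + o * c by
            obtain ⟨e, he⟩ := h4o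
            rw [he, Nat.mul_div_cancel_left _ (by norm_num : 0 < 4), hc]
            ring, pow_add, pow_mul π o, pow_orderOf_eq_one, one_pow, mul_one]
    omega
  right
  intro t
  rw [ho2, Nat.div_self (by norm_num : 0 < 2), pow_one] at hfix2
  haveI hsub : Subsingleton {x // π x = x} := by
    obtain ⟨h1, -⟩ := Nat.card_eq_one_iff_unique.1 hfix2
    exact h1
  have hππ : π * π = 1 := by rw [← pow_two, ← ho2, pow_orderOf_eq_one]
  have hfixed : π (QuotientGroup.mk ((⟨d * t * d⁻¹, hd t t.2⟩ : T) * t)) =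
      QuotientGroup.mk ((⟨d * t * d⁻¹, hd t t.2⟩ : T) * t) := by
    set t' : T := ⟨d * t * d⁻¹, hd t t.2⟩ with ht'
    have hmul : ∀ a b : T, π (QuotientGroup.mk (a * b)) = π (QuotientGroup.mk a) * π (QuotientGroup.mk b) := by
      intro a b
      rw [hπdef, conjQ_mk, conjQ_mk, conjQ_mk, ← QuotientGroup.mk_mul]
      exact congrArg QuotientGroup.mk (Subtype.ext (by simp [mul_assoc]))
    have h1 : π (QuotientGroup.mk t) = QuotientGroup.mk t' := conjQ_mk ρ T hd t
    have h2 : π (QuotientGroup.mk t') = QuotientGroup.mk t := by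
      rw [← h1, ← Equiv.Perm.mul_apply, hππ, Equiv.Perm.one_apply]
    rw [hmul, h1, h2, ← QuotientGroup.mk_mul, comm_classes h.scal]
  have heq : (⟨_, hfixed⟩ : {x // π x = x}) = ⟨_, conjQ_one hd⟩ := Subsingleton.elim _ _
  have := congrArg Subtype.val heq
  rw [QuotientGroup.eq, mul_one] at this
  exact inv_mem_iff.1 this

end Cfsg.Lib.FitHeight
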