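import Cfsg.Agent.FitHeight.Frame
import Cfsg.Agent.FitHeight.Sign

/-!
Irreducible constituents of the moved part of a class-two group on which the centre is scalar.
-/

set_option autoImplicit false
set_option linter.unusedSectionVars false
set_option linter.style.haveILetI false
set_option linter.unusedVariables false

namespace Cfsg.Lib.FitHeight

open scoped commutatorElement
open Module

universe u v w

variable {F : Type u} [Field F] {V : Type v} [AddCommGroup V] [Module F V] {H : Type w} [Group H] [Finite H]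
  {ρ : H →* Module.End F V} {X Z : Subgroup H} {s : H} {r q : ℕ}

/-- The elements whose commutators with `T` are trivial on `U`. -/
def Rad (ρ : H →* Module.End F V) (T : Subgroup H) (U : Submodule F V) (t : H) : Prop :=
  ∀ a ∈ T, ∀ v ∈ U, ρ ⁅t, a⁆ v = v

namespace Frame

variable [IsAlgClosed F] [FiniteDimensional F V] (h : Frame ρ X Z s r q)
include h

set_option maxHeartbeats 1000000 in
theorem constituent (U : Submodule F V) (hU : U ≠ ⊥) (hsc : ∀ z ∈ Z, ∃ c : F, ∀ v ∈ U, ρ z v = c • v)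
    (hTU : ∀ t ∈ ⁅X, Subgroup.zpowers s⁆, ∀ x ∈ U, ρ t x ∈ U) (hsU : ∀ x ∈ U, ρ s x ∈ U) {d : H}
    (hd : Commute d s) (hdr : ¬ r ∣ orderOf d) (hdU : ∀ x ∈ U, ρ d x ∈ U) :
    ∃ U₀ ≤ U, ∃ (hT : ⁅X, Subgroup.zpowers s⁆ ≤ stab ρ U₀) (hs₀ : s ∈ stab ρ U₀) (hd₀ : d ∈ stab ρ U₀), U₀ ≠ ⊥ ∧
      (((∃ v ∈ U₀, v ≠ 0 ∧ ρ s v = v) ∧
          ((∀ v ∈ U₀, ρ s v = v → ρ d v = v) → ∀ v ∈ U₀, ρ d v = v)) ∨
        (Triple (subRep ρ U₀) (⁅X, Subgroup.zpowers s⁆.subgroupOf (stab ρ U₀)) ⟨s, hs₀⟩ r ∧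
          (∀ W : Submodule F U₀, (∀ t ∈ ⁅X, Subgroup.zpowers s⁆.subgroupOf (stab ρ U₀), ∀ x ∈ W,
            subRep ρ U₀ t x ∈ W) → W = ⊥ ∨ W = ⊤) ∧
          ∀ t : ⁅X, Subgroup.zpowers s⁆.subgroupOf (stab ρ U₀),
            t ∈ zed (subRep ρ U₀) (⁅X, Subgroup.zpowers s⁆.subgroupOf (stab ρ U₀)) ↔
              Rad ρ ⁅X, Subgroup.zpowers s⁆ U ((t : stab ρ U₀) : H))) := by
  classical
  set T := ⁅X, Subgroup.zpowers s⁆ with hTdef
  set g := s * d with hg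
  obtain ⟨U₀, ⟨hle, hne, hT0, hg0⟩, hmin⟩ := WellFounded.has_min (wellFounded_lt (α := Submodule F V))
    {W | W ≤ U ∧ W ≠ ⊥ ∧ (∀ t ∈ T, ∀ x ∈ W, ρ t x ∈ W) ∧ ∀ x ∈ W, ρ g x ∈ W}
    ⟨U, le_rfl, hU, hTU, fun x hx => by rw [hg, ← rho_rho]; exact hsU _ (hdU x hx)⟩
  have hT : T ≤ stab ρ U₀ := fun t ht => mem_stab_of_forall ρ (hT0 t ht)
  have hgs : g ∈ stab ρ U₀ := mem_stab_of_forall ρ hg0
  have hso : orderOf s ∣ r := orderOf_dvd_of_pow_eq_one h.hs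
  have hs₀ : s ∈ stab ρ U₀ := by
    obtain ⟨m, hm⟩ := exists_pow_eq_self_of_coprime (x := s) (n := orderOf d)
      (((h.hr.coprime_iff_not_dvd.2 hdr).symm).coprime_dvd_right hso)
    rw [← hm, show s ^ orderOf d = g ^ orderOf d by rw [hg, hd.symm.mul_pow, pow_orderOf_eq_one, mul_one]]
    exact pow_mem (pow_mem hgs _) m
  have hd₀ : d ∈ stab ρ U₀ := by
    rw [show d = s⁻¹ * g by rw [hg, inv_mul_cancel_left]]
    exact mul_mem (inv_mem hs₀) hgs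
  refine ⟨U₀, hle, hT, hs₀, hd₀, hne, ?_⟩
  haveI : Nontrivial U₀ := Submodule.nontrivial_iff_ne_bot.2 hne
  haveI : Fact r.Prime := ⟨h.hr⟩
  set σ := subRep ρ U₀ with hσ
  set T₀ := T.subgroupOf (stab ρ U₀) with hT₀
  have hTX : T ≤ X := h.mv_le
  have hcard : Nat.card T₀ = Nat.card T := Nat.card_congr (Subgroup.subgroupOfEquivOfLe hT).toEquiv
  -- commutators are scalars
  have hcomm : ∀ a ∈ T, ∀ b ∈ T, ∃ c : F, c ≠ 0 ∧ (∀ v ∈ U, ρ ⁅a, b⁆ v = c • v) := by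
    intro a ha b hb
    obtain ⟨c, hc⟩ := hsc _ (h.com (Subgroup.commutator_mem_commutator (hTX ha) (hTX hb)))
    refine ⟨c, fun h0 => ?_, hc⟩
    obtain ⟨v, hv, hv0⟩ := Submodule.exists_mem_ne_zero_of_ne_bot hU
    have h1 := hc v hv
    rw [h0, zero_smul, ← map_zero (ρ ⁅a, b⁆)] at h1
    exact hv0 (rho_injective ρ _ h1)
  have hsw : ∀ a b : H, ∀ v : V, ρ (a * b) v = ρ ⁅a, b⁆ (ρ (b * a) v) := fun a b v => by
    rw [rho_rho]; congr 2; simp only [commutatorElement_def]; group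
  have hscal : ScalarComm σ T₀ := by
    rintro ⟨⟨a, -⟩, ha⟩ ⟨⟨b, -⟩, hb⟩
    obtain ⟨c, hc0, hc⟩ := hcomm a ha b hb
    refine ⟨Units.mk0 c hc0, LinearMap.ext fun x => Subtype.ext ?_⟩
    change ρ (a * b) x = c • ρ (b * a) x
    rw [hsw, hc _ (hle ?_)]
    rw [← rho_rho]
    exact hT0 b hb _ (hT0 a ha _ x.2)
  have htriple : Triple σ T₀ ⟨s, hs₀⟩ r := by
    refine ⟨h.hr, Subtype.ext h.hs, h.hrF, fun t ht => h.mv_nrm (Commute.refl s) _ ht, ?_, ?_, hscal, ?_⟩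
    · rw [hcard]; exact h.card_cast hTX
    · rw [hcard]; exact h.not_dvd_card hTX
    · intro c hc hsc'
      let K : Subgroup (stab ρ U₀) := T₀ ⊓ σ.toHomUnits.ker
      have hKmem : ∀ x, x ∈ K ↔ x ∈ T₀ ∧ σ x = 1 := fun x => by
        rw [Subgroup.mem_inf, MonoidHom.mem_ker, Units.ext_iff]; rfl
      have h1 : c⁻¹ * ⟨s, hs₀⟩ * c * (⟨s, hs₀⟩ : stab ρ U₀)⁻¹ ∈ K := by
        refine (hKmem _).2 ⟨?_, ?_⟩
        · change (c : H)⁻¹ * s * c * s⁻¹ ∈ T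
          rw [mul_assoc, mul_assoc, ← mul_assoc s]
          exact mul_mem (inv_mem hc) (h.mv_nrm (Commute.refl s) _ hc)
        · rw [mul_assoc (c⁻¹), map_mul, map_mul _ c⁻¹, hsc', map_mul _ c, ← mul_assoc, ← map_mul, inv_mul_cancel,
            map_one, one_mul, ← map_mul, mul_inv_cancel, map_one]
      obtain ⟨u, hu, huc⟩ := exists_fixed_coset K (g := ⟨s, hs₀⟩) (p := r) (n := 1)
        (Subtype.ext (by simpa using h.hs))
        (fun hd' => h.not_dvd_card hTX (hd'.trans ((Subgroup.card_dvd_of_le inf_le_left).trans (dvd_of_eq hcard))))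
        (fun u hu => by
          obtain ⟨hu1, hu2⟩ := (hKmem u).1 hu
          refine (hKmem _).2 ⟨h.mv_nrm (Commute.refl s) _ hu1, ?_⟩
          rw [map_mul, map_mul, hu2, mul_one, ← map_mul, mul_inv_cancel, map_one]) h1
      obtain ⟨k, hk⟩ := hsc _ (h.mv_fixed (mul_mem (show (c : H) ∈ T from hc) ((hKmem u).1 hu).1)
        (congrArg Subtype.val huc.eq))
      refine ⟨k, ?_⟩
      have h2 : σ (c * u) = σ c := by rw [map_mul, ((hKmem u).1 hu).2, mul_one]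
      rw [← h2]
      refine LinearMap.ext fun x => Subtype.ext ?_
      exact hk x (hle x.2)
  have hirrg : ∀ W : Submodule F U₀, (∀ t ∈ T₀, ∀ x ∈ W, σ t x ∈ W) →
      (∀ x ∈ W, σ ⟨g, hgs⟩ x ∈ W) → W = ⊥ ∨ W = ⊤ := by
    intro W hW1 hW2
    by_cases hW : W = ⊥
    · exact Or.inl hW
    refine Or.inr ?_
    by_contra hW'
    refine hmin (W.map U₀.subtype) ⟨(Submodule.map_subtype_le U₀ W).trans hle, ?_, ?_, ?_⟩
      (lt_of_le_of_ne (Submodule.map_subtype_le U₀ W) fun e => hW' ?_)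
    · intro e
      exact hW (Submodule.map_injective_of_injective U₀.injective_subtype (e.trans (Submodule.map_bot _).symm))
    · rintro t ht _ ⟨x, hx, rfl⟩
      exact ⟨σ ⟨t, hT ht⟩ x, hW1 _ ht x hx, rfl⟩
    · rintro _ ⟨x, hx, rfl⟩
      exact ⟨σ ⟨g, hgs⟩ x, hW2 x hx, rfl⟩
    · exact Submodule.map_injective_of_injective U₀.injective_subtype (e.trans (Submodule.map_subtype_top U₀).symm)
  have hnT : Nrm T₀ (⟨g, hgs⟩ : stab ρ U₀) := fun t ht =>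
    h.mv_nrm ((Commute.refl s).mul_left hd) _ ht
  rcases htriple.zed_scalar_or hnT (Subtype.ext ((Commute.refl s).mul_left hd).eq) hirrg with hz | hA
  · refine Or.inr ⟨htriple, htriple.irreducible_T hz hnT hirrg, ?_⟩
    obtain ⟨v₀, hv₀, hv₀0⟩ := Submodule.exists_mem_ne_zero_of_ne_bot hne
    intro t
    constructor
    · intro ht a ha v hv
      obtain ⟨c, hc0, hc⟩ := hcomm ((t : stab ρ U₀) : H) t.2 a ha
      have h1 : ρ (((t : stab ρ U₀) : H) * a) v₀ = ρ (a * ((t : stab ρ U₀) : H)) v₀ :=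
        congrArg Subtype.val (LinearMap.congr_fun (ht ⟨⟨a, hT ha⟩, ha⟩) ⟨v₀, hv₀⟩)
      rw [hsw] at h1
      set w := ρ (a * ((t : stab ρ U₀) : H)) v₀ with hw
      have hwU : w ∈ U₀ := by rw [hw, ← rho_rho]; exact hT0 a ha _ (hT0 _ t.2 _ hv₀)
      have hw0 : w ≠ 0 := fun e => hv₀0 (rho_injective ρ _ (e.trans (map_zero _).symm))
      rw [hc w (hle hwU)] at h1
      have hc1 : c = 1 := smul_left_injective F hw0 (h1.trans (one_smul F w).symm)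
      rw [hc v hv, hc1, one_smul]
    · intro ht a
      refine LinearMap.ext fun x => Subtype.ext ?_
      change ρ (((t : stab ρ U₀) : H) * ((a : stab ρ U₀) : H)) x = ρ (((a : stab ρ U₀) : H) * ((t : stab ρ U₀) : H)) x
      rw [hsw, ht ((a : stab ρ U₀) : H) a.2 _ (hle ?_)]
      rw [← rho_rho]
      exact hT0 _ a.2 _ (hT0 _ t.2 _ x.2)
  · obtain ⟨A, hAT, hAn, hAc, hAf, hA0⟩ := hA
    haveI := Fintype.ofFinite A
    have hAF : ((Fintype.card A : ℕ) : F) ≠ 0 := by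
      rw [← Nat.card_eq_fintype_card]
      intro h0
      obtain ⟨k, hk⟩ := Subgroup.card_dvd_of_le hAT
      exact h.card_cast hTX (by rw [← hcard, hk, Nat.cast_mul, h0, zero_mul])
    have hsA : ∀ t ∈ A, (⟨s, hs₀⟩ : stab ρ U₀) * t * (⟨s, hs₀⟩ : stab ρ U₀)⁻¹ ∈ A :=
      hAn _ (fun t ht => h.mv_nrm (Commute.refl s) _ ht) (Commute.refl _)
    refine Or.inl ⟨?_, fun hfix => ?_⟩
    · obtain ⟨v, hv0, hv⟩ := exists_fixed_vector σ A h.hr (s := ⟨s, hs₀⟩) (Subtype.ext h.hs) hsA hAf hAF (hA0 _)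
      exact ⟨v, v.2, fun e => hv0 (Subtype.ext e), congrArg Subtype.val hv⟩
    · have key := eq_one_of_fixes' σ A (s := ⟨s, hs₀⟩) (d := ⟨d, hd₀⟩) h.hr (Subtype.ext h.hs) hsA hAf hAc hAF
        (hA0 _) (Subtype.ext hd.eq) (hAn _ (fun t ht => h.mv_nrm hd _ ht) (Subtype.ext hd.eq))
        (by rwa [Subgroup.orderOf_mk]) (fun v hv => Subtype.ext (hfix v v.2 (congrArg Subtype.val hv)))
      exact fun v hv => congrArg Subtype.val (LinearMap.congr_fun key ⟨v, hv⟩)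

/-- Without fixed vectors the classes are exceptional. -/
theorem no_fixed_piece (U : Submodule F V) (hU : U ≠ ⊥) (hsc : ∀ z ∈ Z, ∃ c : F, ∀ v ∈ U, ρ z v = c • v)
    (hTU : ∀ t ∈ ⁅X, Subgroup.zpowers s⁆, ∀ x ∈ U, ρ t x ∈ U) (hsU : ∀ x ∈ U, ρ s x ∈ U) {d : H}
    (hd : Commute d s) (hdr : ¬ r ∣ orderOf d) (hdU : ∀ x ∈ U, ρ d x ∈ U)
    (hnt : ∃ t ∈ ⁅X, Subgroup.zpowers s⁆, ¬ Rad ρ ⁅X, Subgroup.zpowers s⁆ U t)
    (hC : ∀ v ∈ U, ρ s v = v → v = 0) :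
    (∀ t ∈ ⁅X, Subgroup.zpowers s⁆, Rad ρ ⁅X, Subgroup.zpowers s⁆ U (t⁻¹ * (d * t * d⁻¹))) ∧
      ∃ m, 1 ≤ m ∧ q ^ m + 1 = r ∧ ∀ R : Subgroup H,
        (∀ t ∈ ⁅X, Subgroup.zpowers s⁆, (t ∈ R ↔ Rad ρ ⁅X, Subgroup.zpowers s⁆ U t)) →
          R.relIndex ⁅X, Subgroup.zpowers s⁆ = q ^ m * q ^ m := by
  classical
  haveI := h.fact_q
  obtain ⟨U₀, hle, hT, hs₀, hd₀, hne, h1 | ⟨htr, hirr, hzed⟩⟩ := h.constituent U hU hsc hTU hsU hd hdr hdU
  · obtain ⟨⟨v, hv, hv0, hvs⟩, -⟩ := h1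
    exact absurd (hC v (hle hv) hvs) hv0
  set T := ⁅X, Subgroup.zpowers s⁆
  set T₀ := T.subgroupOf (stab ρ U₀) with hT₀
  set σ := subRep ρ U₀
  haveI : Nontrivial U₀ := Submodule.nontrivial_iff_ne_bot.2 hne
  have hq : IsPGroup q T₀ := (h.pX.to_le h.mv_le).of_equiv (Subgroup.subgroupOfEquivOfLe hT).symm
  have hN : zed σ T₀ ≠ ⊤ := by
    obtain ⟨t, ht, htn⟩ := hnt
    exact fun e => htn ((hzed ⟨⟨t, hT ht⟩, ht⟩).1 (e ▸ Subgroup.mem_top _))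
  obtain ⟨hDr, hcls⟩ := htr.no_fixed hirr hq hN fun v hv => Subtype.ext (hC v (hle v.2) (congrArg Subtype.val hv))
  obtain ⟨-, ⟨m, hm⟩, hD2⟩ := htr.dim_facts hirr hq hN
  refine ⟨fun t ht => ?_, m, ?_, by rw [← hm]; exact hDr, fun R hR => ?_⟩
  · have hdT : Nrm T₀ (⟨d, hd₀⟩ : stab ρ U₀) := fun t ht => h.mv_nrm hd _ ht
    have h2 := congrFun (congrArg DFunLike.coe (hcls ⟨d, hd₀⟩ hdT (Subtype.ext hd.eq) (by rwa [Subgroup.orderOf_mk])))
      (QuotientGroup.mk ⟨⟨t, hT ht⟩, ht⟩)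
    rw [conjQ_mk, Equiv.Perm.one_apply, eq_comm, QuotientGroup.eq] at h2
    exact (hzed _).1 h2
  · by_contra hm0
    have hm0' : m = 0 := by omega
    rw [hm, hm0', pow_zero] at hD2
    omega
  · have h2 := (card_classes (ρ := σ) htr.scal htr.hTF hirr).1
    rw [hm] at h2
    rw [← h2]
    change (R.subgroupOf T).index = (zed σ T₀).index
    have he : (R.subgroupOf T).comap (Subgroup.subgroupOfEquivOfLe hT).toMonoidHom = zed σ T₀ := by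
      ext x
      rw [Subgroup.mem_comap, Subgroup.mem_subgroupOf, hzed]
      exact hR _ x.2
    rw [← he, Subgroup.index_comap_of_surjective _ (Subgroup.subgroupOfEquivOfLe hT).surjective]

/-- An element trivial on fixed vectors acts on the classes as a sign. -/
theorem sign_piece (U : Submodule F V) (hU : U ≠ ⊥) (hsc : ∀ z ∈ Z, ∃ c : F, ∀ v ∈ U, ρ z v = c • v)
    (hTU : ∀ t ∈ ⁅X, Subgroup.zpowers s⁆, ∀ x ∈ U, ρ t x ∈ U) (hsU : ∀ x ∈ U, ρ s x ∈ U) {d : H}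
    (hd : Commute d s) (hdr : ¬ r ∣ orderOf d) (hdq : (orderOf d).Coprime q) (hdU : ∀ x ∈ U, ρ d x ∈ U)
    (hfix : ∀ v ∈ U, ρ s v = v → ρ d v = v) :
    (∀ t ∈ ⁅X, Subgroup.zpowers s⁆, Rad ρ ⁅X, Subgroup.zpowers s⁆ U (t⁻¹ * (d * t * d⁻¹))) ∨
      ∀ t ∈ ⁅X, Subgroup.zpowers s⁆, Rad ρ ⁅X, Subgroup.zpowers s⁆ U ((d * t * d⁻¹) * t) := by
  classical
  haveI := h.fact_q
  obtain ⟨U₀, hle, hT, hs₀, hd₀, hne, h1 | ⟨htr, hirr, hzed⟩⟩ := h.constituent U hU hsc hTU hsU hd hdr hdU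
  · refine Or.inl fun t ht a ha v hv => ?_
    have hd1 := h1.2 fun v hv => hfix v (hle hv)
    obtain ⟨v₀, hv₀, hv₀0⟩ := Submodule.exists_mem_ne_zero_of_ne_bot hne
    set t' := t⁻¹ * (d * t * d⁻¹) with ht'
    have hfix' : ∀ x ∈ U₀, ρ t' x = x := by
      intro x hx
      have hdi : ρ d⁻¹ x = x := by
        conv_lhs => rw [← hd1 x hx]
        rw [rho_inv_apply]
      rw [ht', ← rho_rho, ← rho_rho, hdi, ← rho_rho, hd1 _ ((hT ht).1 x hx), rho_inv_apply]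
    have ht'T : t' ∈ ⁅X, Subgroup.zpowers s⁆ := mul_mem (inv_mem ht) (h.mv_nrm hd t ht)
    obtain ⟨c, hc⟩ := hsc _ (h.com (Subgroup.commutator_mem_commutator (h.mv_le ht'T) (h.mv_le ha)))
    have hfi : ∀ x ∈ U₀, ρ t'⁻¹ x = x := fun x hx => by
      conv_lhs => rw [← hfix' x hx]
      rw [rho_inv_apply]
    have h2 : ρ ⁅t', a⁆ v₀ = v₀ := by
      rw [commutatorElement_def, ← rho_rho, ← rho_rho, ← rho_rho, hfi _ ((hT ha).2 _ hv₀), rho_apply_inv, hfix' _ hv₀]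
    rw [hc v₀ (hle hv₀)] at h2
    have hc1 : c = 1 := smul_left_injective F hv₀0 (h2.trans (one_smul F v₀).symm)
    rw [hc v hv, hc1, one_smul]
  set T := ⁅X, Subgroup.zpowers s⁆
  set T₀ := T.subgroupOf (stab ρ U₀) with hT₀
  set σ := subRep ρ U₀
  haveI : Nontrivial U₀ := Submodule.nontrivial_iff_ne_bot.2 hne
  have hq : IsPGroup q T₀ := (h.pX.to_le h.mv_le).of_equiv (Subgroup.subgroupOfEquivOfLe hT).symm
  have hdT : Nrm T₀ (⟨d, hd₀⟩ : stab ρ U₀) := fun t ht => h.mv_nrm hd _ ht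
  by_cases hN : zed σ T₀ = ⊤
  · exact Or.inl fun t ht => (hzed ⟨⟨_, hT (mul_mem (inv_mem ht) (h.mv_nrm hd t ht))⟩,
      mul_mem (inv_mem ht) (h.mv_nrm hd t ht)⟩).1 (hN ▸ Subgroup.mem_top _)
  obtain ⟨m, hm⟩ := IsPGroup.iff_card.1 hq
  rcases htr.neg_or_one hq hN hirr hdT (Subtype.ext hd.eq) (by rwa [Subgroup.orderOf_mk])
    (by rw [Subgroup.orderOf_mk, hm]; exact hdq.pow_right m)
    (fun v hv => Subtype.ext (hfix v (hle v.2) (congrArg Subtype.val hv))) with h2 | h2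
  · refine Or.inl fun t ht => ?_
    have h3 := congrFun (congrArg DFunLike.coe h2) (QuotientGroup.mk ⟨⟨t, hT ht⟩, ht⟩)
    rw [conjQ_mk, Equiv.Perm.one_apply, eq_comm, QuotientGroup.eq] at h3
    exact (hzed _).1 h3
  · exact Or.inr fun t ht => (hzed _).1 (h2 ⟨⟨t, hT ht⟩, ht⟩)

end Frame

end Cfsg.Lib.FitHeight
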