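import Cfsg.Agent.FitHeight.Sign

/-!
For `r = 2 ^ m + 1` a group of odd order moved by an element of order `r` moves many vectors.
-/

set_option autoImplicit false
set_option linter.unusedSectionVars false
set_option linter.style.haveILetI false
set_option linter.unusedVariables false
set_option linter.unusedSimpArgs false

namespace Cfsg.Lib.FitHeight

open Module Cfsg.Lib.HallHigman
open scoped commutatorElement

universe u v w

variable {F : Type u} [Field F] {V : Type v} [AddCommGroup V] [Module F V] {H : Type w} [Group H]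
  (ρ : H →* Module.End F V) (T : Subgroup H) (s : H)

/-- `T = [T, s]` with central fixed points and commutators, without fixed vectors. -/
structure MovedGroup : Prop where
  hsT : Nrm T s
  hgen : ∀ U : Subgroup H, (∀ l ∈ T, l⁻¹ * s * l * s⁻¹ ∈ U) → T ≤ U
  hC : ∀ c ∈ T, Commute s c → ∀ t ∈ T, ρ (c * t) = ρ (t * c)
  hC2 : ∀ a ∈ T, ∀ b ∈ T, ∀ t ∈ T, ρ (⁅a, b⁆ * t) = ρ (t * ⁅a, b⁆)
  hT0 : ∀ (_ : Fintype T) (v : V), ∑ t : T, ρ (t : H) v = 0

variable {ρ T s}

theorem MovedGroup.sub [Finite H] [FiniteDimensional F V] (h : MovedGroup ρ T s) {U : Submodule F V} (hU : T ≤ stab ρ U)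
    (hs : s ∈ stab ρ U) :
    MovedGroup (subRep ρ U) (T.subgroupOf (stab ρ U)) ⟨s, hs⟩ where
  hsT := fun t ht => h.hsT _ ht
  hgen := fun X hX t ht => by
    have h1 := h.hgen (X.map (stab ρ U).subtype) (fun l hl =>
      ⟨_, hX ⟨l, hU hl⟩ hl, rfl⟩) (show (t : H) ∈ T from ht)
    obtain ⟨y, hy, hyt⟩ := h1
    rwa [show t = y from Subtype.ext hyt.symm]
  hC := fun c hc hcs t ht => LinearMap.ext fun x => Subtype.ext
    (LinearMap.congr_fun (h.hC c hc (congrArg Subtype.val hcs.eq) t ht) (x : V))
  hC2 := fun a ha b hb t ht => LinearMap.ext fun x => Subtype.ext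
    (LinearMap.congr_fun (h.hC2 a ha b hb t ht) (x : V))
  hT0 := fun _ x => by
    haveI : Fintype T := Fintype.ofFinite _
    refine Subtype.ext ?_
    rw [Submodule.coe_sum, Submodule.coe_zero, ← h.hT0 inferInstance (x : V)]
    exact Fintype.sum_equiv (Subgroup.subgroupOfEquivOfLe hU).toEquiv _ _ fun t => rfl

theorem subgroupOf_card {U : Submodule F V} (hU : T ≤ stab ρ U) :
    Nat.card (T.subgroupOf (stab ρ U)) = Nat.card T :=
  Nat.card_congr (Subgroup.subgroupOfEquivOfLe hU).toEquiv

/-- Fixed vectors of invariant complements add up. -/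
theorem finrank_fixed_add [FiniteDimensional F V] {A B : Submodule F V} (hAB : IsCompl A B)
    (hA : s ∈ stab ρ A) (hB : s ∈ stab ρ B) :
    finrank F (LinearMap.ker (ρ s - 1)) =
      finrank F (LinearMap.ker (subRep ρ A ⟨s, hA⟩ - 1)) + finrank F (LinearMap.ker (subRep ρ B ⟨s, hB⟩ - 1)) := by
  have e : ∀ (U : Submodule F V) (hU : s ∈ stab ρ U),
      finrank F (LinearMap.ker (subRep ρ U ⟨s, hU⟩ - 1)) = finrank F (LinearMap.ker (ρ s - 1) ⊓ U : Submodule F V) := by
    intro U hU
    have : (LinearMap.ker (subRep ρ U ⟨s, hU⟩ - 1)).map U.subtype = LinearMap.ker (ρ s - 1) ⊓ U := by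
      ext x
      constructor
      · rintro ⟨y, hy, rfl⟩
        exact ⟨congrArg Subtype.val (LinearMap.mem_ker.1 hy), y.2⟩
      · rintro ⟨hx, hxU⟩
        exact ⟨⟨x, hxU⟩, LinearMap.mem_ker.2 (Subtype.ext hx), rfl⟩
    rw [← this]
    exact (Submodule.equivMapOfInjective _ U.injective_subtype _).finrank_eq
  rw [e A hA, e B hB]
  set K := LinearMap.ker (ρ s - 1)
  have hsup : (K ⊓ A) ⊔ (K ⊓ B) = K := by
    refine le_antisymm (sup_le inf_le_left inf_le_left) fun x hx => ?_
    obtain ⟨a, ha, b, hb, rfl⟩ := Submodule.mem_sup.1 (hAB.sup_eq_top ▸ Submodule.mem_top : x ∈ A ⊔ B)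
    have hx' : ρ s a - a + (ρ s b - b) = 0 := by
      have := LinearMap.mem_ker.1 hx
      rw [LinearMap.sub_apply, Module.End.one_apply, map_add] at this
      rw [← this]; abel
    have h1 : ρ s a - a ∈ A ⊓ B := ⟨sub_mem (hA.1 a ha) ha, by
      rw [eq_neg_of_add_eq_zero_left hx']; exact neg_mem (sub_mem (hB.1 b hb) hb)⟩
    rw [hAB.inf_eq_bot, Submodule.mem_bot] at h1
    have h2 : ρ s b - b = 0 := by rwa [h1, zero_add] at hx'
    exact Submodule.add_mem_sup ⟨LinearMap.mem_ker.2 h1, ha⟩ ⟨LinearMap.mem_ker.2 h2, hb⟩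
  have hinf : (K ⊓ A) ⊓ (K ⊓ B) = ⊥ := le_bot_iff.1
    ((inf_le_inf inf_le_right inf_le_right).trans hAB.inf_eq_bot.le)
  have h3 := Submodule.finrank_sup_add_finrank_inf_eq (K ⊓ A) (K ⊓ B)
  rw [hsup, hinf, finrank_bot, add_zero] at h3
  exact h3

theorem finrank_fixed_le [FiniteDimensional F V] (f : Module.End F V) :
    finrank F (LinearMap.ker f) ≤ finrank F V := Submodule.finrank_le _

/-- An element moved by `s` among the central ones yields a moved abelian subgroup. -/
theorem exists_moving [Finite H] [FiniteDimensional F V] {r : ℕ} (hr : r.Prime) (hs : s ^ r = 1)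
    (hrT : ¬ r ∣ Nat.card T) (hsT : Nrm T s) {z : T} (hz : z ∈ zed ρ T)
    (hne : ρ (s * z) ≠ ρ ((z : H) * s)) :
    ∃ A : Subgroup H, A ≤ T ∧ Nrm A s ∧ (∀ a ∈ A, ∀ t ∈ T, ρ (a * t) = ρ (t * a)) ∧
      (∀ a ∈ A, ρ (s * a) = ρ (a * s) → ρ a = 1) ∧ ∃ a ∈ A, ρ a ≠ 1 := by
  have hzc : ∀ z : T, z ∈ zed ρ T → ∀ a ∈ T, ρ ((z : H) * a) = ρ (a * z) := fun z hz a ha => hz ⟨a, ha⟩
  have hmem : ∀ z : T, (z : H)⁻¹ * (s * z * s⁻¹) ∈ T := fun z => mul_mem (inv_mem z.2) (hsT z z.2)
  let A : Subgroup H :=
    { carrier := {a | a ∈ T ∧ ∃ z : T, z ∈ zed ρ T ∧ ρ a = ρ ((z : H)⁻¹ * (s * z * s⁻¹))}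
      one_mem' := ⟨one_mem T, 1, one_mem _, by simp⟩
      mul_mem' := fun {a b} ha hb => by
        obtain ⟨haT, z, hz, hza⟩ := ha
        obtain ⟨hbT, w, hw, hwb⟩ := hb
        refine ⟨mul_mem haT hbT, z * w, mul_mem hz hw, ?_⟩
        have hc := hzc w⁻¹ (inv_mem hw) _ (hmem z)
        rw [map_mul, hza, hwb, ← map_mul, Subgroup.coe_mul, mul_inv_rev,
          show ((w : H))⁻¹ * (z : H)⁻¹ * (s * ((z : H) * w) * s⁻¹) =
            ((w : H)⁻¹ * ((z : H)⁻¹ * (s * z * s⁻¹))) * (s * w * s⁻¹) by group,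
          show (z : H)⁻¹ * (s * z * s⁻¹) * ((w : H)⁻¹ * (s * w * s⁻¹)) =
            ((z : H)⁻¹ * (s * z * s⁻¹) * (w : H)⁻¹) * (s * w * s⁻¹) by group, map_mul]
        conv_rhs => rw [map_mul]
        rw [show ((w : H))⁻¹ = ((w⁻¹ : T) : H) from rfl, hc]
      inv_mem' := fun {a} ha => by
        obtain ⟨haT, z, hz, hza⟩ := ha
        refine ⟨inv_mem haT, z⁻¹, inv_mem hz, ?_⟩
        have hc := hzc z hz _ (inv_mem (hsT z z.2))
        have h1 : ρ a⁻¹ = ρ (((z : H)⁻¹ * (s * z * s⁻¹))⁻¹) := by
          have h2 : ρ a⁻¹ * (ρ a * ρ (((z : H)⁻¹ * (s * z * s⁻¹))⁻¹)) = ρ (((z : H)⁻¹ * (s * z * s⁻¹))⁻¹) := by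
            rw [← mul_assoc, ← map_mul, inv_mul_cancel, map_one, one_mul]
          rwa [hza, ← map_mul, mul_inv_cancel, map_one, mul_one] at h2
        rw [h1, mul_inv_rev, inv_inv, ← hc, Subgroup.coe_inv]
        congr 1
        group }
  refine ⟨A, fun a ha => ha.1, ?_, ?_, ?_, ?_⟩
  · rintro a ⟨haT, w, hw, hwa⟩
    refine ⟨hsT a haT, ⟨s * w * s⁻¹, hsT w w.2⟩, conj_zed ρ T hsT hw, ?_⟩
    rw [map_mul, map_mul, hwa, ← map_mul, ← map_mul]
    congr 1
    change s * ((w : H)⁻¹ * (s * w * s⁻¹)) * s⁻¹ = (s * w * s⁻¹)⁻¹ * (s * (s * w * s⁻¹) * s⁻¹)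
    group
  · rintro a ⟨-, w, hw, hwa⟩ b hb
    rw [map_mul, hwa, ← map_mul, map_mul ρ b a, hwa, ← map_mul]
    exact hzc ((w⁻¹ : T) * ⟨s * w * s⁻¹, hsT w w.2⟩) (mul_mem (inv_mem hw) (conj_zed ρ T hsT hw)) b hb
  · rintro a ⟨haT, w, hw, hwa⟩ hc
    have e1 : img ρ a = (img ρ (w : H))⁻¹ * (img ρ s * img ρ (w : H) * (img ρ s)⁻¹) := by
      simp only [← map_mul, ← map_inv]
      exact (img_eq_iff ρ).2 hwa
    have e2 : Commute (img ρ s) (img ρ a) := by
      change img ρ s * img ρ a = img ρ a * img ρ s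
      rw [← map_mul, ← map_mul, img_eq_iff]
      exact hc
    generalize hwd : img ρ (w : H) = z' at e1
    generalize hsd : img ρ s = s' at e1 e2
    generalize had : img ρ a = a' at e1 e2
    have e0 : s' * z' * s'⁻¹ = z' * a' := by rw [e1, mul_inv_cancel_left]
    have e3 : ∀ i : ℕ, s' ^ i * z' * (s' ^ i)⁻¹ = z' * a' ^ i := by
      intro i
      induction i with
      | zero => simp
      | succ i ih =>
        calc s' ^ (i + 1) * z' * (s' ^ (i + 1))⁻¹ = s' * (s' ^ i * z' * (s' ^ i)⁻¹) * s'⁻¹ := by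
              rw [pow_succ']; group
          _ = (s' * z' * s'⁻¹) * (s' * a' ^ i * s'⁻¹) := by rw [ih]; group
          _ = z' * a' ^ (i + 1) := by
              rw [(e2.pow_right i).eq, mul_inv_cancel_right, e0, pow_succ', mul_assoc]
    have e4 := e3 r
    rw [show s' ^ r = 1 by rw [← hsd, ← map_pow, hs, map_one], one_mul, inv_one, mul_one, left_eq_mul] at e4
    have e5 : a' ^ Nat.card T = 1 := by
      rw [← had, ← map_pow, show a ^ Nat.card T = 1 from
        congrArg Subtype.val (pow_card_eq_one' (x := (⟨a, haT⟩ : T))), map_one]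
    have e6 : a' = 1 := by
      have := Nat.dvd_gcd (orderOf_dvd_of_pow_eq_one e4) (orderOf_dvd_of_pow_eq_one e5)
      rw [(hr.coprime_iff_not_dvd.2 hrT).gcd_eq_one, Nat.dvd_one, orderOf_eq_one_iff] at this
      exact this
    rw [← imgRep_img ρ a, had, e6, map_one]
  · refine ⟨_, ⟨hmem z, z, hz, rfl⟩, fun h1 => hne ?_⟩
    rw [show s * (z : H) = z * (((z : H))⁻¹ * (s * z * s⁻¹)) * s by group, map_mul, map_mul ρ (z : H), h1, mul_one,
      ← map_mul]

variable [IsAlgClosed F]

/-- Either `s` moves `r - 1` vectors for each fixed one, or more than `2 m`. -/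
theorem moved_bound {r m q : ℕ} (hr : r.Prime) (hm : r = 2 ^ m + 1) (hm1 : 1 ≤ m) [Fact q.Prime] (hq2 : q ≠ 2) :
    ∀ (n : ℕ) (V : Type v) [AddCommGroup V] [Module F V] [FiniteDimensional F V] (H : Type w) [Group H] [Finite H]
    (ρ : H →* Module.End F V) (T : Subgroup H) (s : H), finrank F V ≤ n → MovedGroup ρ T s → s ^ r = 1 →
    (r : F) ≠ 0 → IsPGroup q T → ((q : F) ≠ 0) → q ≠ r →
    r * finrank F (LinearMap.ker (ρ s - 1)) ≤ finrank F V ∨
      finrank F (LinearMap.ker (ρ s - 1)) + 2 * m < finrank F V := by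
  intro n
  induction n with
  | zero =>
    intro V _ _ _ H _ _ ρ T s hn _ _ _ _ _ _
    left
    have := Submodule.finrank_le (LinearMap.ker (ρ s - 1))
    have h0 : finrank F (LinearMap.ker (ρ s - 1)) = 0 := by omega
    simp [h0]
  | succ n ih =>
    intro V _ _ _ H _ _ ρ T s hn hMG hs hrF hq hqF hqr
    classical
    haveI : Fact r.Prime := ⟨hr⟩
    haveI : Fintype T := Fintype.ofFinite _
    obtain ⟨e, he⟩ := IsPGroup.iff_card.1 hq
    have hTF : ((Nat.card T : ℕ) : F) ≠ 0 := by rw [he, Nat.cast_pow]; exact pow_ne_zero _ hqF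
    have hrT : ¬ r ∣ Nat.card T := fun hd => hqr (by
      rw [he] at hd
      exact ((Nat.prime_dvd_prime_iff_eq hr (Fact.out : q.Prime)).1 (hr.dvd_of_dvd_pow hd)).symm)
    -- lifting fixed elements modulo a kernel
    have hlift : ∀ (U : Submodule F V) (hU : T ≤ stab ρ U) (hsU : s ∈ stab ρ U) (X : Subgroup H), X ≤ T → Nrm X s →
        ∀ c ∈ X, (∀ x ∈ U, ρ (s * c) x = ρ (c * s) x) →
        ∃ c' ∈ X, Commute s c' ∧ ∀ x ∈ U, ρ c x = ρ c' x := by
      intro U hU hsU X hXT hsX c hc hcs
      let K : Subgroup H :=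
        { carrier := {k | k ∈ X ∧ ∀ x ∈ U, ρ k x = x}
          one_mem' := ⟨one_mem X, fun x _ => by simp⟩
          mul_mem' := fun {a b} ha hb => ⟨mul_mem ha.1 hb.1, fun x hx => by
            rw [← rho_rho, hb.2 x hx, ha.2 x hx]⟩
          inv_mem' := fun {a} ha => ⟨inv_mem ha.1, fun x hx => by
            conv_lhs => rw [← ha.2 x hx]
            exact rho_inv_apply ρ a x⟩ }
      obtain ⟨u, hu, huc⟩ := exists_fixed_coset K (g := s) (p := r) (n := 1) (by rwa [pow_one])
        (fun hd => hrT (hd.trans (Subgroup.card_dvd_of_le fun k hk => hXT hk.1)))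
        (fun k hk => ⟨hsX k hk.1, fun x hx => by
          rw [← rho_rho, ← rho_rho, hk.2 _ (hsU.2 x hx), rho_apply_inv]⟩) (l := c)
        ⟨by rw [mul_assoc, mul_assoc, ← mul_assoc s]; exact mul_mem (inv_mem hc) (hsX c hc), fun x hx => by
          rw [show c⁻¹ * s * c * s⁻¹ = c⁻¹ * ((s * c) * s⁻¹) by group, ← rho_rho, ← rho_rho,
            hcs _ (hsU.2 x hx), ← rho_rho _ c, rho_apply_inv, rho_inv_apply]⟩
      exact ⟨c * u, mul_mem hc hu.1, huc, fun x hx => by rw [← rho_rho, hu.2 x hx]⟩
    by_cases hall : ∀ z ∈ zed ρ T, ∃ k : F, ρ (z : H) = k • 1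
    · -- scalar centre
      by_cases hV : finrank F V = 0
      · left
        have h0 : finrank F (LinearMap.ker (ρ s - 1)) = 0 := by
          have := Submodule.finrank_le (LinearMap.ker (ρ s - 1)); omega
        simp [h0]
      haveI : Nontrivial V := Module.nontrivial_of_finrank_pos (Nat.pos_of_ne_zero hV)
      have hscal : ScalarComm ρ T := fun a b => by
        obtain ⟨k, hk⟩ := hall (⁅a, b⁆ : T) fun t => hMG.hC2 _ a.2 _ b.2 _ t.2
        have hk0 : k ≠ 0 := fun h0 => rho_ne_zero (ρ := ρ) _ (by rw [hk, h0, zero_smul])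
        refine ⟨Units.mk0 k hk0, ?_⟩
        have hk' : ρ (⁅(a : H), (b : H)⁆) = k • 1 := hk
        rw [Units.val_mk0, show (a : H) * b = ⁅(a : H), (b : H)⁆ * ((b : H) * a) by
          rw [commutatorElement_def]; group, map_mul, hk', smul_one_mul]
      have hfix : ∀ c ∈ T, ρ (s * c) = ρ (c * s) → ∃ k : F, ρ c = k • 1 := by
        intro c hc hcs
        obtain ⟨c', hc', hcc, hcc2⟩ := hlift ⊤ (fun t _ => mem_stab_of_forall ρ fun x _ => Submodule.mem_top)
          (mem_stab_of_forall ρ fun x _ => Submodule.mem_top) T le_rfl hMG.hsT c hc fun x _ => by rw [hcs]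
        obtain ⟨k, hk⟩ := hall ⟨c', hc'⟩ fun t => hMG.hC c' hc' hcc t t.2
        exact ⟨k, LinearMap.ext fun x => by rw [hcc2 x trivial, hk]⟩
      have htri : Triple ρ T s r := ⟨hr, hs, hrF, hMG.hsT, hTF, hrT, hscal, hfix⟩
      by_cases hN : zed ρ T = ⊤
      · exfalso
        let U : Subgroup H :=
          { carrier := {x | ρ x = 1}
            one_mem' := map_one ρ
            mul_mem' := fun {a b} (ha : ρ a = 1) (hb : ρ b = 1) => by
              change ρ (a * b) = 1
              rw [map_mul, ha, hb, mul_one]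
            inv_mem' := fun {a} (ha : ρ a = 1) => by
              change ρ a⁻¹ = 1
              conv_lhs => rw [← mul_one (ρ a⁻¹), ← ha, ← map_mul, inv_mul_cancel, map_one] }
        have hTU : T ≤ U := hMG.hgen U fun l hl => by
          obtain ⟨k, hk⟩ := hall ⟨l, hl⟩ (hN ▸ Subgroup.mem_top _)
          change ρ _ = 1
          rw [show l⁻¹ * s * l * s⁻¹ = l⁻¹ * (s * l) * s⁻¹ by group, map_mul, map_mul ρ l⁻¹,
            ← scalar_comm (ρ := ρ) hk s, ← map_mul, ← map_mul, inv_mul_cancel_left, mul_inv_cancel, map_one]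
        obtain ⟨v, hv⟩ := exists_ne (0 : V)
        have h0 := hMG.hT0 inferInstance v
        rw [Finset.sum_congr rfl (g := fun _ => v) fun t _ => by rw [show ρ (t : H) = 1 from hTU t.2]; rfl,
          Finset.sum_const, Finset.card_univ, ← Nat.card_eq_fintype_card, ← Nat.cast_smul_eq_nsmul F] at h0
        exact hv ((smul_eq_zero.1 h0).resolve_left hTF)
      -- an irreducible piece
      obtain ⟨W, ⟨hWT, hW0⟩, hmin⟩ := WellFounded.has_min (wellFounded_lt (α := Submodule F V))
        {U : Submodule F V | (∀ t ∈ T, ∀ x ∈ U, ρ t x ∈ U) ∧ U ≠ ⊥}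
        ⟨⊤, fun _ _ _ _ => Submodule.mem_top, top_ne_bot⟩
      haveI : Nontrivial W := Submodule.nontrivial_iff_ne_bot.2 hW0
      have hTK : T ≤ stab ρ W := fun t ht => mem_stab_of_forall ρ (hWT t ht)
      set T' := T.subgroupOf (stab ρ W)
      set ρ' := subRep ρ W
      have hsc : ScalarComm ρ' T' := fun a b => by
        refine ⟨beta hscal ⟨_, a.2⟩ ⟨_, b.2⟩, LinearMap.ext fun x => Subtype.ext ?_⟩
        exact LinearMap.congr_fun (beta_spec hscal ⟨_, a.2⟩ ⟨_, b.2⟩) (x : V)
      have hT'F : ((Nat.card T' : ℕ) : F) ≠ 0 := by rwa [subgroupOf_card hTK]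
      have hirr' : ∀ U : Submodule F W, (∀ t ∈ T', ∀ x ∈ U, ρ' t x ∈ U) → U = ⊥ ∨ U = ⊤ := by
        intro U hU
        by_cases hU0 : U = ⊥
        · exact Or.inl hU0
        right
        have hle : U.map W.subtype ≤ W := by rintro _ ⟨y, -, rfl⟩; exact y.2
        rcases hle.lt_or_eq with hlt | heq
        · refine absurd hlt (hmin _ ⟨fun t ht v hv => ?_, ?_⟩)
          · obtain ⟨y, hy, rfl⟩ := hv
            exact ⟨ρ' ⟨t, hTK ht⟩ y, hU ⟨t, hTK ht⟩ ht y hy, rfl⟩
          · intro hb
            refine hU0 (Submodule.map_injective_of_injective W.injective_subtype ?_)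
            rw [hb, Submodule.map_bot]
        · exact Submodule.map_injective_of_injective W.injective_subtype (by rw [heq, Submodule.map_subtype_top])
      obtain ⟨hcard, -⟩ := card_classes hsc hT'F hirr'
      have hNeq : Nat.card (T' ⧸ zed ρ' T') = Nat.card (T ⧸ zed ρ T) := by
        let f : T ≃* T' := (Subgroup.subgroupOfEquivOfLe hTK).symm
        refine (Nat.card_congr ?_).symm
        refine Quotient.congr f.toEquiv fun a b => ?_
        change (QuotientGroup.leftRel _).r a b ↔ (QuotientGroup.leftRel _).r (f a) (f b)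
        rw [QuotientGroup.leftRel_apply, QuotientGroup.leftRel_apply, ← map_inv, ← map_mul]
        constructor
        · intro h1 t
          exact LinearMap.ext fun x => Subtype.ext (LinearMap.congr_fun (h1 ⟨_, t.2⟩) (x : V))
        · intro h1 y
          refine (beta_eq_one_iff hscal).1 ?_
          have h2 : ρ' ((f (a⁻¹ * b) : stab ρ W) * (f y : stab ρ W)) =
              (beta hscal (a⁻¹ * b) y : F) • ρ' ((f y : stab ρ W) * (f (a⁻¹ * b) : stab ρ W)) :=
            LinearMap.ext fun x => Subtype.ext (LinearMap.congr_fun (beta_spec hscal (a⁻¹ * b) y) (x : V))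
          refine (smul_rho_inj (ρ := ρ') (c := 1) (x := (f y : stab ρ W) * (f (a⁻¹ * b) : stab ρ W)) ?_).symm
          rw [Units.val_one, one_smul, ← h2]
          exact (h1 (f y)).symm
      rw [hNeq] at hcard
      have hmod : finrank F W * finrank F W % r = 1 := by
        rw [← hcard, ← Nat.card_congr (Equiv.subtypeUnivEquiv (p := fun _ : T ⧸ zed ρ T => True) fun _ => trivial)]
        exact htri.card_mod _ trivial fun _ _ => trivial
      set Q := finrank F W with hQdef
      have hQD : Q ≤ finrank F V := Submodule.finrank_le W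
      have hQbig : 2 * (2 ^ m) + 1 ≤ Q := by
        have hdvd : Q ∣ q ^ e := (dvd_mul_right Q Q).trans (hcard ▸ he ▸ Subgroup.card_quotient_dvd_card _)
        obtain ⟨i, -, hi⟩ := (Nat.dvd_prime_pow (Fact.out : q.Prime)).1 hdvd
        have hQodd : Q % 2 = 1 := by
          rw [hi, Nat.pow_mod, show q % 2 = 1 from (Fact.out : q.Prime).mod_two_eq_one_iff_ne_two.2 hq2]
          simp
        have hQpos : 0 < Q := Module.finrank_pos
        have hQ1 : Q ≠ 1 := fun h1 => hN (Subgroup.index_eq_one.1 (by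
          rw [Subgroup.index_eq_card, hcard, h1]))
        have hrodd : r % 2 = 1 := by
          rw [hm, Nat.add_mod, Nat.pow_mod, Nat.mod_self, zero_pow (by omega)]
          rfl
        rcases sq_mod_cases hr hmod with h1 | h1
        · obtain ⟨c, hc⟩ := h1
          have hc2 : 2 ≤ c := by
            rcases Nat.lt_or_ge c 2 with h3 | h3
            · interval_cases c <;> omega
            · exact h3
          have := Nat.mul_le_mul_left r hc2
          omega
        · obtain ⟨c, hc⟩ := h1
          have hc2 : 2 ≤ c := by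
            rcases Nat.lt_or_ge c 2 with h3 | h3
            · interval_cases c <;> omega
            · exact h3
          have := Nat.mul_le_mul_left r hc2
          omega
      right
      by_contra hlt
      push Not at hlt
      -- the centralizer bound
      have hMr : NeZero r := ⟨hr.ne_zero⟩
      have hb := cent_le hscal hall hTF hMG.hsT (conjQ ρ T hMG.hsT) (fun t => conjQ_mk ρ T _ t) (M := r)
        (by rw [conjQ_pow, conjQ_eq_one _ hs])
      rw [Finset.range_eq_Ico, Finset.sum_eq_sum_Ico_succ_bot hr.pos, Finset.sum_congr rfl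
        (g := fun _ => 1) fun j hj => ?_] at hb
      swap
      · obtain ⟨hj0, hjr⟩ := Finset.mem_Ico.1 hj
        obtain ⟨c, -, hc⟩ := Nat.exists_mul_mod_eq_one_of_coprime (n := j)
          ((hr.coprime_iff_not_dvd.2 fun hd => by have := Nat.le_of_dvd (by omega) hd; omega).symm) hr.one_lt
        refine fixQ_eq_one htri _ c (Equiv.Perm.pow_apply_eq_self_of_apply_eq_self (conjQ_one _) j) ?_
        rw [← pow_mul, ← Nat.mod_add_div (j * c) r, hc, pow_add, pow_one, pow_mul, conjQ_pow _ r, conjQ_eq_one _ hs,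
          one_pow, mul_one]
      rw [Finset.sum_const, Nat.card_Ico, smul_eq_mul, mul_one, pow_zero, Nat.card_congr
        (Equiv.subtypeUnivEquiv (p := fun x : T ⧸ zed ρ T => (1 : Equiv.Perm (T ⧸ zed ρ T)) x = x) fun _ => rfl), hcard] at hb
      have hsq := finrank_sq hscal hall hTF
      rw [hcard] at hsq
      obtain ⟨S, c, hCS, hSc, hc⟩ := cent_lower (ρ := ρ) hr hs hrF (Commute.one_left s) (k := 1)
        (by simpa using hr.ne_one) (by simp) (fun v _ => by simp)
      rw [mul_one] at hc
      set R := 2 ^ m with hRdef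
      set C := finrank F (LinearMap.ker (ρ s - 1))
      set D := finrank F V
      set b := finrank F (centT ρ T)
      rw [show r - (0 + 1) = R by omega] at hb
      rw [one_mul, show r - 1 = R by omega] at hSc
      have hR2m : 2 * m ≤ R := by
        clear_value R
        subst hRdef
        rcases m with _ | k
        · simp
        · have : k + 1 ≤ 2 ^ k := k.lt_two_pow_self
          rw [pow_succ]; omega
      have h1 : r * ((R * (C * C) + S * S) * (Q * Q)) ≤ R * (D * D * (Q * Q + R)) := by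
        calc r * ((R * (C * C) + S * S) * (Q * Q)) ≤ r * ((R * (C * C) + R * c) * (Q * Q)) := by gcongr
          _ = R * (Q * Q) * (r * (C * C + c)) := by ring
          _ ≤ R * (Q * Q) * (b * (Q * Q + R)) := Nat.mul_le_mul_left _ ((Nat.mul_le_mul_left r hc).trans hb)
          _ = R * ((Q * Q * b) * (Q * Q + R)) := by ring
          _ = _ := by rw [← hsq]
      have hR1 : 1 ≤ R := Nat.one_le_two_pow
      have hCR : R + 1 ≤ C := by omega
      have hSR : S ≤ R := by omega
      rw [hm, ← hCS] at h1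
      zify at h1 hQbig hCR hSR hR1
      have hCSQ : (Q : ℤ) ≤ C + S := by exact_mod_cast (hCS ▸ hQD)
      have h2 : (((R : ℤ) * C - S) * Q) ^ 2 ≤ ((R : ℤ) * (C + S)) ^ 2 := by linear_combination h1
      have h3 : 0 ≤ (R : ℤ) * C - S := by
        have := mul_le_mul_of_nonneg_right hR1 (show (0 : ℤ) ≤ C by positivity)
        linarith
      have h4 : ((R : ℤ) * C - S) * Q ≤ R * (C + S) :=
        (abs_le.1 (abs_le_of_sq_le_sq h2 (by positivity))).2
      have h5 := mul_le_mul_of_nonneg_left hQbig h3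
      have h6 : 2 * (R : ℤ) * R * C ≤ R * (3 * R + 1) := by
        have h7 := mul_le_mul_of_nonneg_right hSR (show (0 : ℤ) ≤ 3 * R + 1 by positivity)
        linarith
      have h8 := mul_le_mul_of_nonneg_left hCR (show (0 : ℤ) ≤ 2 * R * R by positivity)
      have h9 : (2 : ℤ) ≤ R := by
        have : 2 ≤ 2 ^ m := Nat.le_self_pow (by omega) 2
        exact_mod_cast this
      have h10 : (R : ℤ) * (2 * R * (R + 1)) ≤ R * (3 * R + 1) := by linarith
      have h11 := le_of_mul_le_mul_left h10 (by linarith)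
      have h12 := mul_le_mul_of_nonneg_right h9 (show (0 : ℤ) ≤ R by positivity)
      linarith
    · push Not at hall
      obtain ⟨z, hz, hzns⟩ := hall
      have hstabT : ∀ U : Submodule F V, (∀ t ∈ T, ∀ x ∈ U, ρ t x ∈ U) → T ≤ stab ρ U :=
        fun U hU t ht => mem_stab_of_forall ρ (hU t ht)
      -- the inductive use on a proper invariant subspace
      have hind : ∀ (U : Submodule F V), U ≠ ⊤ → ∀ (hU : T ≤ stab ρ U) (hsU : s ∈ stab ρ U),
          r * finrank F (LinearMap.ker (subRep ρ U ⟨s, hsU⟩ - 1)) ≤ finrank F U ∨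
            finrank F (LinearMap.ker (subRep ρ U ⟨s, hsU⟩ - 1)) + 2 * m < finrank F U := by
        intro U hU hTU hsU
        refine ih U (stab ρ U) (subRep ρ U) (T.subgroupOf (stab ρ U)) ⟨s, hsU⟩ ?_ (hMG.sub hTU hsU)
          (Subtype.ext hs) hrF ?_ hqF hqr
        · have := Submodule.finrank_lt (s := U) hU; omega
        · exact IsPGroup.of_equiv hq (Subgroup.subgroupOfEquivOfLe hTU).symm
      by_cases hmv : ρ (s * z) = ρ ((z : H) * s)
      · -- split by an eigenspace
        have hV0 : Nontrivial V := by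
          by_contra hnt
          rw [not_nontrivial_iff_subsingleton] at hnt
          exact hzns 0 (LinearMap.ext fun x => Subsingleton.elim _ _)
        obtain ⟨μ, hμ⟩ := Module.End.exists_eigenvalue (ρ (z : H))
        set f : Module.End F V := ρ (z : H) - μ • 1 with hf
        set A := LinearMap.ker f with hA
        set B := LinearMap.range f with hB
        have hA0 : A ≠ ⊤ := fun h => hzns μ (LinearMap.ext fun x => by
          have : x ∈ A := h ▸ Submodule.mem_top
          rw [hA, LinearMap.mem_ker, hf, LinearMap.sub_apply, sub_eq_zero] at this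
          exact this)
        have hA1 : A ≠ ⊥ := by
          obtain ⟨x, hx⟩ := hμ.exists_hasEigenvector
          intro h
          have : x ∈ A := by
            rw [hA, LinearMap.mem_ker, hf, LinearMap.sub_apply, hx.apply_eq_smul]; simp
          rw [h, Submodule.mem_bot] at this
          exact hx.2 this
        set n₀ := Nat.card T
        have hzn : ∀ x, (ρ (z : H) ^ n₀) x = x := fun x => by
          rw [← map_pow, show (z : H) ^ n₀ = 1 from congrArg Subtype.val (pow_card_eq_one' (x := z)), map_one]; rfl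
        have hμ0 : μ ≠ 0 := by
          obtain ⟨x, hx⟩ := hμ.exists_hasEigenvector
          intro h
          have := hx.apply_eq_smul
          rw [h, zero_smul] at this
          exact hx.2 (rho_injective ρ (z : H) (this.trans (map_zero _).symm))
        have hdisj : A ⊓ B = ⊥ := by
          rw [eq_bot_iff]
          rintro x ⟨hx1, y, rfl⟩
          rw [SetLike.mem_coe, hA, LinearMap.mem_ker, hf, LinearMap.sub_apply, sub_eq_zero] at hx1
          set w := f y with hw
          have hy : ρ (z : H) y = μ • y + w := by simp [hw, hf]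
          have hpow : ∀ i : ℕ, (ρ (z : H) ^ (i + 1)) y = μ ^ (i + 1) • y + ((i + 1 : ℕ) : F) • μ ^ i • w := by
            intro i
            induction i with
            | zero => simpa using hy
            | succ i ihh =>
              rw [pow_succ', Module.End.mul_apply, ihh, map_add, map_smul, map_smul, map_smul, hy, hx1]
              simp only [LinearMap.smul_apply, Module.End.one_apply, smul_add, smul_smul, Nat.cast_succ, add_smul,
                one_mul, pow_succ]
              module
          obtain ⟨i, hi⟩ : ∃ i, n₀ = i + 1 := ⟨n₀ - 1, (Nat.sub_add_cancel Nat.card_pos).symm⟩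
          have hμn : μ ^ n₀ = 1 := by
            obtain ⟨v, hv⟩ := hμ.exists_hasEigenvector
            have h1 := hv.pow_apply n₀
            rw [hzn] at h1
            exact smul_left_injective F hv.2 (h1.symm.trans (one_smul F v).symm)
          have h1 := hpow i
          rw [← hi, hzn, hμn, one_smul, left_eq_add, smul_eq_zero] at h1
          exact (Submodule.mem_bot F).2 ((smul_eq_zero.1 (h1.resolve_left hTF)).resolve_left (pow_ne_zero _ hμ0))
        have hcompl : IsCompl A B := by
          refine IsCompl.of_eq hdisj (Submodule.eq_top_of_finrank_eq ?_)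
          have h1 := Submodule.finrank_sup_add_finrank_inf_eq A B
          rw [hdisj, finrank_bot, add_zero] at h1
          rw [h1, hA, hB, add_comm, f.finrank_range_add_finrank_ker]
        have hcomm : ∀ g : H, ρ ((z : H) * g) = ρ (g * z) → ∀ x, f (ρ g x) = ρ g (f x) := fun g hg x => by
          simp only [hf, LinearMap.sub_apply, LinearMap.smul_apply, Module.End.one_apply, map_sub, map_smul, rho_rho, hg]
        have hinv : ∀ g : H, ρ ((z : H) * g) = ρ (g * z) → (∀ x ∈ A, ρ g x ∈ A) ∧ ∀ x ∈ B, ρ g x ∈ B := fun g hg =>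
          ⟨fun x hx => by rw [hA, LinearMap.mem_ker, hcomm g hg, LinearMap.mem_ker.1 hx, map_zero],
            fun x hx => by obtain ⟨y, rfl⟩ := hx; exact ⟨ρ g y, hcomm g hg y⟩⟩
        have hTA := hstabT A fun t ht => (hinv t (hz ⟨t, ht⟩)).1
        have hTB := hstabT B fun t ht => (hinv t (hz ⟨t, ht⟩)).2
        have hsA : s ∈ stab ρ A := mem_stab_of_forall ρ (hinv s hmv.symm).1
        have hsB : s ∈ stab ρ B := mem_stab_of_forall ρ (hinv s hmv.symm).2
        have hB0 : B ≠ ⊤ := fun h => hA1 (by rw [← hdisj, h, inf_top_eq])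
        rw [finrank_fixed_add hcompl hsA hsB, ← Submodule.finrank_add_eq_of_isCompl hcompl]
        have la := Submodule.finrank_le (LinearMap.ker (subRep ρ A ⟨s, hsA⟩ - 1))
        have lb := Submodule.finrank_le (LinearMap.ker (subRep ρ B ⟨s, hsB⟩ - 1))
        rcases hind A hA0 hTA hsA with h1 | h1 <;> rcases hind B hB0 hTB hsB with h2 | h2
        · left; rw [mul_add]; omega
        all_goals (right; omega)
      · obtain ⟨A, hAT, hAs, hAc, hAfix, a, ha, ha1⟩ := exists_moving hr hs hrT hMG.hsT hz hmv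
        haveI : Fintype A := Fintype.ofFinite _
        have hAF : ((Fintype.card A : ℕ) : F) ≠ 0 := fun h => hTF (by
          obtain ⟨c, hc⟩ := Subgroup.card_dvd_of_le hAT
          rw [hc, Nat.cast_mul, Nat.card_eq_fintype_card (α := A), h, zero_mul])
        let Sg : Module.End F V := ∑ a : A, ρ (a : H)
        set W₁ := LinearMap.ker Sg with hW₁
        set W₂ := LinearMap.range Sg with hW₂
        have hSg : ∀ x, Sg x = ∑ a : A, ρ (a : H) x := fun x => by simp [Sg]
        have hAS : ∀ b ∈ A, ∀ x, ρ b (Sg x) = Sg x := fun b hb x => by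
          rw [hSg, map_sum]
          simp only [rho_rho]
          exact Fintype.sum_equiv (Equiv.mulLeft (⟨b, hb⟩ : A)) _ _ fun a => rfl
        have hSS : ∀ x, Sg (Sg x) = (Fintype.card A : F) • Sg x := fun x => by
          rw [hSg (Sg x), Finset.sum_congr rfl fun (b : A) _ => hAS b b.2 x, Finset.sum_const, Finset.card_univ,
            Nat.cast_smul_eq_nsmul]
        have hcompl : IsCompl W₁ W₂ := by
          constructor
          · rw [disjoint_iff, eq_bot_iff]
            rintro x ⟨hx1, y, rfl⟩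
            rw [SetLike.mem_coe, LinearMap.mem_ker, hSS] at hx1
            exact (Submodule.mem_bot F).2 ((smul_eq_zero.1 hx1).resolve_left hAF)
          · rw [codisjoint_iff, eq_top_iff]
            intro x _
            rw [show x = (x - (Fintype.card A : F)⁻¹ • Sg x) + (Fintype.card A : F)⁻¹ • Sg x by abel]
            refine Submodule.add_mem_sup ?_ (Submodule.smul_mem _ _ ⟨x, rfl⟩)
            rw [hW₁, LinearMap.mem_ker, map_sub, map_smul, hSS, smul_smul, inv_mul_cancel₀ hAF, one_smul, sub_self]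
        have hcomT : ∀ t ∈ T, ∀ x, Sg (ρ t x) = ρ t (Sg x) := fun t ht x => by
          simp only [hSg, map_sum, rho_rho]
          exact Finset.sum_congr rfl fun b _ => by rw [hAc b b.2 t ht]
        have hcomS : ∀ x, Sg (ρ s x) = ρ s (Sg x) := by
          intro x
          have hb : Function.Bijective fun b : A => (⟨s * b * s⁻¹, hAs b b.2⟩ : A) :=
            Finite.injective_iff_bijective.1 fun a b h => Subtype.ext
              (mul_left_cancel (mul_right_cancel (congrArg Subtype.val h)))
          simp only [hSg, map_sum, rho_rho]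
          refine ((Fintype.sum_equiv (Equiv.ofBijective _ hb) _ _ fun b => ?_)).symm
          change ρ (s * b) x = ρ (s * b * s⁻¹ * s) x
          rw [inv_mul_cancel_right]
        have hT1 := hstabT W₁ fun t ht x hx => by rw [hW₁, LinearMap.mem_ker, hcomT t ht, LinearMap.mem_ker.1 hx, map_zero]
        have hT2 := hstabT W₂ fun t ht x hx => by obtain ⟨y, rfl⟩ := hx; exact ⟨ρ t y, hcomT t ht y⟩
        have hs1 : s ∈ stab ρ W₁ := mem_stab_of_forall ρ fun x hx => by
          rw [hW₁, LinearMap.mem_ker, hcomS, LinearMap.mem_ker.1 hx, map_zero]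
        have hs2 : s ∈ stab ρ W₂ := mem_stab_of_forall ρ fun x hx => by
          obtain ⟨y, rfl⟩ := hx; exact ⟨ρ s y, hcomS y⟩
        have hW20 : W₂ ≠ ⊤ := fun h => ha1 (LinearMap.ext fun x => by
          obtain ⟨y, hy⟩ : x ∈ LinearMap.range Sg := (h ▸ Submodule.mem_top : x ∈ W₂)
          rw [← hy, hAS a ha]; rfl)
        have h1 : r * finrank F (LinearMap.ker (subRep ρ W₁ ⟨s, hs1⟩ - 1)) ≤ finrank F W₁ := by
          set A' := A.subgroupOf (stab ρ W₁)
          have hA1 : A ≤ stab ρ W₁ := hAT.trans hT1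
          haveI : Fintype A' := Fintype.ofFinite _
          refine mul_fixed_le_finrank (subRep ρ W₁) (s := ⟨s, hs1⟩) A' hr (Subtype.ext hs) (fun t ht => hAs _ ht) ?_
            (fun a ha b hb => LinearMap.ext fun x => Subtype.ext
              (LinearMap.congr_fun (hAc _ ha _ (hAT hb)) (x : V))) ?_ ?_
          · intro c hc hcs
            obtain ⟨c', hc', hcc, hcc2⟩ := hlift W₁ hT1 hs1 A hAT hAs c hc fun x hx =>
              congrArg Subtype.val (LinearMap.congr_fun hcs ⟨x, hx⟩)
            have h2 := hAfix c' hc' (congrArg ρ hcc.eq)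
            exact LinearMap.ext fun x => Subtype.ext (by
              change ρ (c : H) x = x
              rw [hcc2 x x.2, h2]; rfl)
          · rwa [← Nat.card_eq_fintype_card, Nat.card_congr (Subgroup.subgroupOfEquivOfLe hA1).toEquiv,
              Nat.card_eq_fintype_card]
          · intro x
            refine Subtype.ext ?_
            rw [Submodule.coe_sum, Submodule.coe_zero, ← LinearMap.mem_ker.1 x.2, hSg]
            exact Fintype.sum_equiv (Subgroup.subgroupOfEquivOfLe hA1).toEquiv _ _ fun t => rfl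
        rw [finrank_fixed_add hcompl hs1 hs2, ← Submodule.finrank_add_eq_of_isCompl hcompl]
        have la := Submodule.finrank_le (LinearMap.ker (subRep ρ W₁ ⟨s, hs1⟩ - 1))
        rcases hind W₂ hW20 hT2 hs2 with h2 | h2
        · left; rw [mul_add]; omega
        · right; omega

end Cfsg.Lib.FitHeight
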