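import Cfsg.Agent.FitHeight.Acting
import Cfsg.Agent.FitHeight.Moved

/-!
A fixed element outside the radical is seen on fixed vectors.
-/

set_option autoImplicit false
set_option linter.unusedSectionVars false
set_option linter.style.haveILetI false
set_option linter.unusedVariables false

namespace Cfsg.Lib.FitHeight

open scoped commutatorElement
open Module

universe u v w

variable {F : Type u} [Field F] {V : Type v} [AddCommGroup V] [Module F V] {H : Type w} [Group H] [Finite H]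
  {ρ : H →* Module.End F V} {X Z : Subgroup H} {s : H} {r q : ℕ}

namespace Frame

variable [IsAlgClosed F] [FiniteDimensional F V] (h : Frame ρ X Z s r q)
include h

set_option maxHeartbeats 1600000 in
theorem not_bad_nonrad {T : Subgroup H} {qT : ℕ} (a : Acting X Z s r q T qT) {e : H}
    (he : e ∈ ⁅X, T⁆ ⊔ Z) (heX : e ∈ X) (hes : Commute e s) {y : H} (hy : y ∈ X) {v : V}
    (hv : ∀ z ∈ ⁅Z, Subgroup.zpowers s⁆, ρ z v = v) (hev : ρ ⁅e, y⁆ v ≠ v) :
    ¬ Bad ρ ⁅X, Subgroup.zpowers s⁆ s e := by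
  classical
  intro hbad
  haveI := h.nX
  haveI := h.nZ
  haveI := h.fact_q
  set T' := ⁅X, Subgroup.zpowers s⁆ with hT'
  have hey : ⁅e, y⁆ ∈ Z := h.com (Subgroup.commutator_mem_commutator heX hy)
  let Vf : Submodule F V := ⨅ m : (⁅Z, Subgroup.zpowers s⁆ : Subgroup H), LinearMap.ker (ρ (m : H) - 1)
  have hVf : ∀ w, w ∈ Vf ↔ ∀ m ∈ ⁅Z, Subgroup.zpowers s⁆, ρ m w = w := fun w => by simp [Vf, sub_eq_zero]
  obtain ⟨v₁, χ, hv₁f, hv₁0, hχ, hv₁⟩ := h.Z_char_vec hey (U := Vf) (fun b hb w hw => (hVf _).2 fun m hm => by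
    rw [rho_rho, (h.comm_Z (h.zm_le_Z hm) hb).eq, ← rho_rho, (hVf w).1 hw m hm]) ((hVf v).2 hv) hev
  set U := piece ρ Z χ with hU
  have hU0 : U ≠ ⊥ := (Submodule.ne_bot_iff _).2 ⟨v₁, hv₁, hv₁0⟩
  have hUf : ∀ w ∈ U, ∀ m ∈ ⁅Z, Subgroup.zpowers s⁆, ρ m w = w := fun w hw m hm => by
    have h1 : (χ ⟨m, h.zm_le_Z hm⟩ : F) = 1 := smul_left_injective F hv₁0
      ((((mem_piece ρ).1 hv₁ ⟨m, h.zm_le_Z hm⟩).symm.trans ((hVf v₁).1 hv₁f m hm)).trans (one_smul F v₁).symm)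
    rw [(mem_piece ρ).1 hw ⟨m, h.zm_le_Z hm⟩, h1, one_smul]
  have hsU : ∀ w ∈ U, ρ s w ∈ U := piece_invariant ρ fun z w hw => by
    have hsw : ρ (s⁻¹ * z * s) w = ρ (z : H) w := by
      rw [mul_assoc, ← rho_rho, ← h.s_comm_Z (hUf w hw) z.2, ← rho_rho ρ s, rho_inv_apply]
    rw [hsw, (mem_piece ρ).1 hw z]
  have hXU : ∀ b ∈ X, ∀ w ∈ U, ρ b w ∈ U := fun b hb => h.piece_invariant_X χ hb
  -- the pairing
  let f : H → F := fun z => if hz : z ∈ Z then (χ ⟨z, hz⟩ : F) else 0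
  have hf : ∀ z, ∀ hz : z ∈ Z, f z = χ ⟨z, hz⟩ := fun z hz => dif_pos hz
  have hfv : ∀ z ∈ Z, ∀ w ∈ U, ρ z w = f z • w := fun z hz w hw => by rw [hf z hz]; exact (mem_piece ρ).1 hw ⟨z, hz⟩
  have hfeq : ∀ z ∈ Z, ∀ c : F, ρ z v₁ = c • v₁ → f z = c := fun z hz c hc =>
    smul_left_injective F hv₁0 ((hfv z hz v₁ hv₁).symm.trans hc)
  have hfmul : ∀ z ∈ Z, ∀ z' ∈ Z, f (z * z') = f z * f z' := fun z hz z' hz' => by
    refine hfeq _ (mul_mem hz hz') _ ?_
    rw [← rho_rho, hfv z' hz' v₁ hv₁, map_smul, hfv z hz v₁ hv₁, smul_smul, mul_comm]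
  have hf1 : f 1 = 1 := hfeq 1 (one_mem Z) 1 (by simp)
  have hfs : ∀ i : ℕ, ∀ z ∈ Z, f (s ^ i * z * (s ^ i)⁻¹) = f z := by
    intro i z hz
    have hst : s ^ i ∈ stab ρ U := pow_mem (mem_stab_of_forall ρ hsU) i
    refine hfeq _ (h.nZ.conj_mem z hz _) _ ?_
    rw [← rho_rho, ← rho_rho, hfv z hz _ (hst.2 _ hv₁), map_smul, rho_apply_inv]
  let β : H → H → F := fun x y => f ⁅x, y⁆
  have hZc : ∀ x ∈ X, ∀ x' ∈ X, ⁅x, x'⁆ ∈ Z := fun x hx x' hx' => h.com (Subgroup.commutator_mem_commutator hx hx')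
  have hβl : ∀ x ∈ X, ∀ x' ∈ X, ∀ b ∈ X, β (x * x') b = β x b * β x' b := fun x hx x' hx' b hb => by
    change f ⁅x * x', b⁆ = _
    rw [show ⁅x * x', b⁆ = x * ⁅x', b⁆ * x⁻¹ * ⁅x, b⁆ by simp only [commutatorElement_def]; group,
      ← (h.cen _ (hZc x' hx' b hb) x hx).eq, mul_inv_cancel_right, hfmul _ (hZc x' hx' b hb) _ (hZc x hx b hb),
      mul_comm]
  have hβr : ∀ x ∈ X, ∀ b ∈ X, ∀ b' ∈ X, β x (b * b') = β x b * β x b' := fun x hx b hb b' hb' => by
    change f ⁅x, b * b'⁆ = _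
    rw [show ⁅x, b * b'⁆ = ⁅x, b⁆ * (b * ⁅x, b'⁆ * b⁻¹) by simp only [commutatorElement_def]; group,
      ← (h.cen _ (hZc x hx b' hb') b hb).eq, mul_inv_cancel_right, hfmul _ (hZc x hx b hb) _ (hZc x hx b' hb')]
  have hβswap : ∀ x ∈ X, ∀ b ∈ X, β x b * β b x = 1 := fun x hx b hb => by
    change f ⁅x, b⁆ * f ⁅b, x⁆ = 1
    rw [← hfmul _ (hZc x hx b hb) _ (hZc b hb x hx), show ⁅b, x⁆ = ⁅x, b⁆⁻¹ from (commutatorElement_inv x b).symm,
      mul_inv_cancel, hf1]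
  have hβ1l : ∀ b : H, β 1 b = 1 := fun b => by change f ⁅1, b⁆ = 1; rw [commutatorElement_one_left, hf1]
  let R : Subgroup H :=
    { carrier := {x | x ∈ X ∧ ∀ b ∈ X, β x b = 1}
      one_mem' := ⟨one_mem X, fun b _ => hβ1l b⟩
      mul_mem' := fun {x x'} hx hx' => ⟨mul_mem hx.1 hx'.1, fun b hb => by
        rw [hβl x hx.1 x' hx'.1 b hb, hx.2 b hb, hx'.2 b hb, one_mul]⟩
      inv_mem' := fun {x} hx => ⟨inv_mem hx.1, fun b hb => by
        have := hβl x hx.1 x⁻¹ (inv_mem hx.1) b hb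
        rw [mul_inv_cancel, hβ1l, hx.2 b hb, one_mul] at this
        exact this.symm⟩ }
  have hZR : Z ≤ R := fun z hz => ⟨h.hZX hz, fun b hb => by
    change f ⁅z, b⁆ = 1
    rw [commutatorElement_eq_one_iff_mul_comm.2 (h.cen z hz b hb).eq, hf1]⟩
  have hRX : R ≤ X := fun x hx => hx.1
  -- fixed elements pair trivially with the moved ones
  have horth : ∀ c ∈ X, Commute c s → ∀ t ∈ T', β t c = 1 := by
    intro c hc hcs
    let S : Subgroup H :=
      { carrier := {t | t ∈ X ∧ β t c = 1}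
        one_mem' := ⟨one_mem X, hβ1l c⟩
        mul_mem' := fun {x x'} hx hx' => ⟨mul_mem hx.1 hx'.1, by rw [hβl x hx.1 x' hx'.1 c hc, hx.2, hx'.2, one_mul]⟩
        inv_mem' := fun {x} hx => ⟨inv_mem hx.1, by
          have := hβl x hx.1 x⁻¹ (inv_mem hx.1) c hc
          rw [mul_inv_cancel, hβ1l, hx.2, one_mul] at this
          exact this.symm⟩ }
    suffices T' ≤ S from fun t ht => (this ht).2
    refine Subgroup.commutator_le.2 fun x hx σ hσ => ?_
    obtain ⟨i, rfl⟩ := (isOfFinOrder_of_finite s).mem_powers_iff_mem_zpowers.2 hσ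
    change ⁅x, s ^ i⁆ ∈ S
    have hx' : s ^ i * x⁻¹ * (s ^ i)⁻¹ ∈ X := h.nX.conj_mem _ (inv_mem hx) _
    have he : ⁅x, s ^ i⁆ = x * (s ^ i * x⁻¹ * (s ^ i)⁻¹) := by simp only [commutatorElement_def]; group
    rw [he]
    refine ⟨mul_mem hx hx', ?_⟩
    rw [hβl x hx _ hx' c hc]
    have : β (s ^ i * x⁻¹ * (s ^ i)⁻¹) c = β x⁻¹ c := by
      change f _ = f _
      conv_rhs => rw [← hfs i _ (hZc _ (inv_mem hx) c hc)]
      have hci : s ^ i * c * (s ^ i)⁻¹ = c := by rw [(hcs.symm.pow_left i).eq, mul_inv_cancel_right]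
      conv_lhs => rw [← hci]
      congr 1
      simp only [commutatorElement_def]; group
    rw [this, ← hβl x hx _ (inv_mem hx) c hc, mul_inv_cancel, hβ1l]
  have hdec : ∀ b ∈ X, ∃ t ∈ T', ∃ c ∈ X, Commute c s ∧ b = t * c := by
    intro b hb
    have hb' : b ∈ T' ⊔ (X ⊓ Subgroup.centralizer (Subgroup.zpowers s : Set H)) := by
      rw [Cfsg.Lib.Coprime.commutator_sup_centralizer (by rw [Subgroup.normalizer_eq_top_iff.2 h.nX]; exact le_top)
        (h.cop_card le_rfl) (Or.inl (Group.isSolvable_of_comm fun a b => mul_comm' a b))]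
      exact hb
    obtain ⟨t, ht, c, hc, htc⟩ := (Cfsg.Lib.Coprime.mem_sup_of_le_normalizer
      (inf_le_left.trans (Cfsg.Lib.Coprime.le_normalizer_commutator_left (Subgroup.zpowers s) X))).1 hb'
    exact ⟨t, ht, c, hc.1, (Subgroup.mem_centralizer_iff.1 hc.2 s (Subgroup.mem_zpowers s)).symm, htc.symm⟩
  have hradR : ∀ t ∈ T', (t ∈ R ↔ Rad ρ T' U t) := by
    refine fun t ht => ⟨fun hR b hb w hw => ?_, fun hR => ⟨h.mv_le ht, fun b hb => ?_⟩⟩
    · rw [hfv _ (hZc t hR.1 b (h.mv_le hb)) w hw, show f ⁅t, b⁆ = 1 from hR.2 b (h.mv_le hb), one_smul]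
    · obtain ⟨t₁, ht₁, c, hc, hcs, rfl⟩ := hdec b hb
      rw [hβr t (h.mv_le ht) t₁ (h.mv_le ht₁) c hc, horth c hc hcs t ht, mul_one]
      refine hfeq _ (hZc t (h.mv_le ht) t₁ (h.mv_le ht₁)) _ ?_
      rw [one_smul]
      exact hR t₁ ht₁ v₁ hv₁
  -- a fixed partner
  obtain ⟨t₀, ht₀, c, hc, hcs, hyc⟩ := hdec y hy
  have hec : β e c ≠ 1 := by
    intro h1
    apply hev
    have h2 : β e t₀ = 1 := by
      have := hβswap t₀ (h.mv_le ht₀) e heX
      rwa [horth e heX hes t₀ ht₀, one_mul] at this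
    have h3 : β e y = 1 := by rw [hyc, hβr e heX t₀ (h.mv_le ht₀) c hc, h1, h2, one_mul]
    exfalso
    refine hχ (Units.ext ?_)
    rw [← hf _ hey]
    exact h3
  -- the moved part is not radical
  have hnR : ¬ T' ≤ R := by
    intro hle
    refine hec ?_
    let N : Subgroup H :=
      { carrier := {g | (∀ b ∈ X, ⁅g, b⁆ ∈ R) ∧ (∀ z ∈ Z, Commute g z)}
        one_mem' := ⟨fun b _ => by rw [commutatorElement_one_left]; exact one_mem R, fun z _ => Commute.one_left z⟩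
        mul_mem' := fun {g g'} hg hg' => ⟨fun b hb => by
          have hx : g' * b * g'⁻¹ ∈ X := h.nX.conj_mem b hb g'
          rw [show ⁅g * g', b⁆ = ⁅g, g' * b * g'⁻¹⁆ * ⁅g', b⁆ by simp only [commutatorElement_def]; group]
          exact mul_mem (hg.1 _ hx) (hg'.1 b hb), fun z hz => (hg.2 z hz).mul_left (hg'.2 z hz)⟩
        inv_mem' := fun {g} hg => ⟨fun b hb => by
          have hx : g⁻¹ * b * g ∈ X := by simpa using h.nX.conj_mem b hb g⁻¹
          rw [show ⁅g⁻¹, b⁆ = (⁅g, g⁻¹ * b * g⁆)⁻¹ by simp only [commutatorElement_def]; group]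
          exact inv_mem (hg.1 _ hx), fun z hz => (hg.2 z hz).inv_left⟩ }
    have hTN : T ≤ N := by
      refine a.gen N fun l hl => ⟨fun b hb => ?_, fun z hz => a.cenZ _ (by
        rw [mul_assoc, mul_assoc, ← mul_assoc s]; exact mul_mem (inv_mem hl) (a.sT l hl)) z hz⟩
      -- `s` centralizes the quotient
      have hs1 : ∀ x ∈ X, ⁅s, x⁆ ∈ T' := fun x hx => by
        have := Subgroup.commutator_mem_commutator hx (Subgroup.mem_zpowers s)
        rw [← commutatorElement_inv]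
        exact inv_mem this
      have hlR : ∀ x ∈ R, l⁻¹ * x * l ∈ R := fun x hx => ⟨by simpa using h.nX.conj_mem x hx.1 l⁻¹, fun b' hb' => by
        have hz := hZc x hx.1 (l * b' * l⁻¹) (h.nX.conj_mem b' hb' l)
        change f _ = 1
        rw [show ⁅l⁻¹ * x * l, b'⁆ = l⁻¹ * ⁅x, l * b' * l⁻¹⁆ * l by simp only [commutatorElement_def]; group, mul_assoc,
          ← (a.cenZ l hl _ hz).eq, inv_mul_cancel_left]
        exact hx.2 _ (h.nX.conj_mem b' hb' l)⟩
      set B := s⁻¹ * b * s with hB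
      have hBX : B ∈ X := by simpa using h.nX.conj_mem b hb s⁻¹
      set A := l * B * l⁻¹ with hA
      have hAX : A ∈ X := h.nX.conj_mem B hBX l
      rw [show ⁅l⁻¹ * s * l * s⁻¹, b⁆ = (l⁻¹ * ⁅s, A⁆ * l) * ⁅s, B⁆⁻¹ by
        simp only [hA, hB, commutatorElement_def]; group]
      exact mul_mem (hlR _ (hle (hs1 A hAX))) (inv_mem (hle (hs1 B hBX)))
    have hXTR : ⁅X, T⁆ ⊔ Z ≤ R := sup_le (Subgroup.commutator_le.2 fun x hx t ht => by
      rw [← commutatorElement_inv]; exact inv_mem ((hTN ht).1 x hx)) hZR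
    exact (hXTR he).2 c hc
  obtain ⟨t₁, ht₁, ht₁n⟩ := SetLike.not_le_iff_exists.1 hnR
  -- no fixed vectors
  have hfix0 : ∀ w ∈ U, ρ s w = w → w = 0 := by
    intro w hw hws
    have hsum : ∀ w ∈ U, tSum ρ T' w = 0 := by
      intro w hw
      obtain ⟨b, hb, hbn⟩ : ∃ b ∈ T', f ⁅t₁, b⁆ ≠ 1 := by
        by_contra hcon
        push Not at hcon
        exact ht₁n ((hradR t₁ ht₁).2 fun b hb u hu => by
          rw [hfv _ (hZc _ (h.mv_le ht₁) b (h.mv_le hb)) u hu, hcon b hb, one_smul])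
      exact tSum_eq_zero_of_eigen ρ (mul_mem (mul_mem (mul_mem ht₁ hb) (inv_mem ht₁)) (inv_mem hb))
        hbn (hfv _ (hZc _ (h.mv_le ht₁) b (h.mv_le hb)) w hw)
    have he1 : ∀ w ∈ U, ρ s w = w → ρ e w = w := fun w hw hws => hbad w (hsum w hw) hws
    have hci : ρ c⁻¹ w ∈ U := hXU _ (inv_mem hc) w hw
    have hcis : ρ s (ρ c⁻¹ w) = ρ c⁻¹ w := by rw [rho_rho, (hcs.inv_left).eq.symm, ← rho_rho, hws]
    have hei : ρ e⁻¹ (ρ c⁻¹ w) = ρ c⁻¹ w := by
      conv_lhs => rw [← he1 _ hci hcis]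
      rw [rho_inv_apply]
    have hw1 : ρ ⁅e, c⁆ w = w := by
      rw [commutatorElement_def, ← rho_rho, ← rho_rho, ← rho_rho, hei, rho_apply_inv, he1 w hw hws]
    rw [hfv _ (hZc e heX c hc) w hw] at hw1
    by_contra hw0
    exact hec (smul_left_injective F hw0 (hw1.trans (one_smul F w).symm))
  obtain ⟨-, m, hm1, hmr, hcard⟩ := h.no_fixed_piece U hU0 (h.scalar_on_piece χ le_rfl)
    (fun t ht => hXU t (h.mv_le ht)) hsU (Commute.one_left s) (by rw [orderOf_one]; exact h.hr.not_dvd_one)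
    (fun w hw => by rwa [map_one]) ⟨t₁, ht₁, fun hR => ht₁n ((hradR t₁ ht₁).2 hR)⟩ hfix0
  have hq2 : q = 2 := by
    rcases h.hq.eq_two_or_odd' with h2 | hodd
    · exact h2
    · exfalso
      have hev : Even r := hmr ▸ (hodd.pow).add_one
      have hr2 : r = 2 := (Nat.Prime.even_iff h.hr).1 hev
      have := Nat.one_lt_pow (by omega : m ≠ 0) h.hq.one_lt
      omega
  subst hq2
  have hindex := hcard R hradR
  -- the section modulo the radical
  set Δ : Subgroup H := Subgroup.normalizer (R : Set H) with hΔ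
  have hXΔ : X ≤ Δ := fun x hx => Cfsg.Lib.Coprime.mem_normalizer_of_conj_mem
    (fun b hb => by
      rw [show x * b * x⁻¹ = ⁅x, b⁆ * b by simp only [commutatorElement_def]; group]
      exact mul_mem (hZR (hZc x hx b hb.1)) hb)
    (fun b hb => by
      rw [show x⁻¹ * b * x = ⁅x⁻¹, b⁆ * b by simp only [commutatorElement_def]; group]
      exact mul_mem (hZR (hZc _ (inv_mem hx) b hb.1)) hb)
  have hRconj : ∀ g : H, (∀ z ∈ Z, f (g * z * g⁻¹) = f z) → ∀ b ∈ R, g * b * g⁻¹ ∈ R := fun g hg b hb =>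
    ⟨h.nX.conj_mem b hb.1 g, fun b' hb' => by
      have hb'' : g⁻¹ * b' * g ∈ X := by simpa using h.nX.conj_mem b' hb' g⁻¹
      change f _ = 1
      rw [show ⁅g * b * g⁻¹, b'⁆ = g * ⁅b, g⁻¹ * b' * g⁆ * g⁻¹ by simp only [commutatorElement_def]; group,
        hg _ (hZc b hb.1 _ hb'')]
      exact hb.2 _ hb''⟩
  have hTconj : ∀ t ∈ T, ∀ z ∈ Z, f (t * z * t⁻¹) = f z := fun t ht z hz => by
    rw [(a.cenZ t ht z hz).eq, mul_inv_cancel_right]
  have hTΔ : T ≤ Δ := fun t ht => Cfsg.Lib.Coprime.mem_normalizer_of_conj_mem (hRconj t (hTconj t ht))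
    (fun b hb => by simpa using hRconj t⁻¹ (hTconj _ (inv_mem ht)) b hb)
  have hsΔ : s ∈ Δ := Cfsg.Lib.Coprime.mem_normalizer_of_conj_mem
    (hRconj s fun z hz => by simpa using hfs 1 z hz)
    (fun b hb => by
      obtain ⟨i, hi⟩ := (isOfFinOrder_of_finite s).mem_powers_iff_mem_zpowers.2 (inv_mem (Subgroup.mem_zpowers s))
      have := hRconj (s ^ i) (fun z hz => hfs i z hz) b hb
      rw [show s ^ i = s⁻¹ from hi, inv_inv] at this
      exact this)
  haveI : (X.subgroupOf Δ).Normal := Subgroup.Normal.subgroupOf h.nX Δ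
  haveI : (R.subgroupOf Δ).Normal := Subgroup.normal_in_normalizer
  obtain ⟨S⟩ := exists_sectRep (q := 2) (X.subgroupOf Δ) (R.subgroupOf Δ)
    (Subgroup.commutator_le.2 fun x hx x' hx' => hZR (hZc _ hx _ hx'))
    (fun x hx => Subgroup.mem_subgroupOf.2 (hZR (h.pow _ hx)))
  set TΔ := T.subgroupOf Δ with hTΔdef
  set sΔ : Δ := ⟨s, hsΔ⟩
  haveI := Fact.mk a.hp
  have hTcard : ((Nat.card TΔ : ℕ) : ZMod 2) ≠ 0 := by
    rw [Nat.card_congr (Subgroup.subgroupOfEquivOfLe hTΔ).toEquiv]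
    exact a.card_cast Nat.prime_two
  let Fc := AlgebraicClosure (ZMod 2)
  let π' : Δ →* Module.End Fc (Fin S.D → Fc) := (bchg Fc).comp S.π
  set W0 := LinearMap.ker (tSum π' TΔ) with hW0
  have hsT : ∀ t ∈ TΔ, sΔ * t * sΔ⁻¹ ∈ TΔ := fun t ht => a.sT _ ht
  have hsW : sΔ ∈ stab π' W0 := mem_stab_of_forall π' fun w hw => by
    rw [hW0, LinearMap.mem_ker, tSum_conj π' hsT, LinearMap.mem_ker.1 hw, map_zero]
  have hTW : TΔ ≤ stab π' W0 := fun t ht => mem_stab_of_forall π' fun w hw => by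
    rw [hW0, LinearMap.mem_ker, tSum_rho_right π' ht, LinearMap.mem_ker.1 hw]
  have hcomm1 : ∀ c t : Δ, (∀ x ∈ X, ⁅⁅(c : H), (t : H)⁆, x⁆ ∈ Z) → π' (c * t) = π' (t * c) := by
    intro c t hct
    have h1 : S.π ⁅c, t⁆ = 1 := (S.pi_eq_one_iff _).2 (mem_cgrp.2 fun x hx => hZR (hct _ hx))
    rw [show c * t = ⁅c, t⁆ * (t * c) by simp only [commutatorElement_def]; group, map_mul π' ⁅c, t⁆]
    change bchg Fc (S.π ⁅c, t⁆) * _ = _
    rw [h1, map_one, one_mul]
  have hM : MovedGroup (subRep π' W0) (TΔ.subgroupOf (stab π' W0)) ⟨sΔ, hsW⟩ := by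
    refine ⟨fun t ht => a.sT _ ht, fun K hK t ht => ?_, fun c hc hcs t ht => ?_, fun b hb b' hb' t ht => ?_,
      fun _ w => Subtype.ext ?_⟩
    · have h1 := a.gen ((K.map (stab π' W0).subtype).map Δ.subtype) (fun l hl =>
        ⟨_, ⟨_, hK ⟨⟨l, hTΔ hl⟩, hTW hl⟩ hl, rfl⟩, rfl⟩) ht
      obtain ⟨_, ⟨k, hk, rfl⟩, hkt⟩ := h1
      rwa [show t = k from Subtype.ext (Subtype.ext hkt.symm)]
    · refine LinearMap.ext fun w => Subtype.ext ?_
      exact LinearMap.congr_fun (hcomm1 _ _ (a.fixC _ hc (congrArg (fun z : stab π' W0 => ((z : Δ) : H)) hcs.eq) _ ht)) w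
    · refine LinearMap.ext fun w => Subtype.ext ?_
      exact LinearMap.congr_fun (hcomm1 _ _ (a.cls2 _ hb _ hb' _ ht)) w
    · haveI := Fintype.ofFinite TΔ
      have h2 := LinearMap.mem_ker.1 w.2
      rw [tSum_apply] at h2
      rw [Submodule.coe_sum, Submodule.coe_zero]
      exact (Fintype.sum_equiv (Subgroup.subgroupOfEquivOfLe hTW).toEquiv _ _ fun t => rfl).trans h2
  have h2' : (2 : ℕ) ≠ r := h.hqr
  have hr2 : (r : Fc) ≠ 0 := by
    rw [ne_eq, CharP.cast_eq_zero_iff Fc 2]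
    exact fun hd => h2' ((Nat.prime_dvd_prime_iff_eq Nat.prime_two h.hr).1 hd)
  have hqT2 : qT ≠ 2 := a.hTq
  have hbound := moved_bound (F := Fc) h.hr hmr.symm hm1 (q := qT) hqT2 (finrank Fc W0) W0 (stab π' W0) (subRep π' W0)
    (TΔ.subgroupOf (stab π' W0)) ⟨sΔ, hsW⟩ le_rfl hM (Subtype.ext (Subtype.ext h.hs)) hr2
    ((a.pT.of_equiv (Subgroup.subgroupOfEquivOfLe hTΔ).symm).of_equiv (Subgroup.subgroupOfEquivOfLe hTW).symm)
    (by rw [ne_eq, CharP.cast_eq_zero_iff Fc 2]; exact fun hd => hqT2 ((Nat.prime_dvd_prime_iff_eq Nat.prime_two a.hp).1 hd).symm)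
    a.hTr
  -- the moved dimension
  set f₀ := subRep π' W0 ⟨sΔ, hsW⟩ - 1 with hf₀
  have hrank : finrank Fc (LinearMap.range f₀) ≤ 2 * m := by
    let T1 : Submodule (ZMod 2) (Fin S.D → ZMod 2) :=
      AddSubgroup.toZModSubmodule 2
        { carrier := {w | ∃ t : Δ, (t : H) ∈ T' ∧ S.ι t = w}
          zero_mem' := ⟨1, one_mem T', S.map_one⟩
          add_mem' := by
            rintro _ _ ⟨t, ht, rfl⟩ ⟨t', ht', rfl⟩
            exact ⟨t * t', mul_mem ht ht', S.add t (h.mv_le ht) t' (h.mv_le ht')⟩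
          neg_mem' := by
            rintro _ ⟨t, ht, rfl⟩
            exact ⟨t⁻¹, inv_mem ht, S.map_inv (h.mv_le ht)⟩ }
    have hT1mem : ∀ w, w ∈ T1 ↔ ∃ t : Δ, (t : H) ∈ T' ∧ S.ι t = w := fun w => Iff.rfl
    have hcardT1 : Nat.card T1 = 2 ^ m * 2 ^ m := by
      rw [← hindex]
      let φ : T' →* Multiplicative T1 :=
        { toFun := fun t => Multiplicative.ofAdd ⟨S.ι ⟨t, hXΔ (h.mv_le t.2)⟩, (hT1mem _).2 ⟨_, t.2, rfl⟩⟩
          map_one' := by
            refine Multiplicative.toAdd.injective (Subtype.ext ?_)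
            exact S.map_one
          map_mul' := fun t t' => by
            refine Multiplicative.toAdd.injective (Subtype.ext ?_)
            exact S.add ⟨t, _⟩ (h.mv_le t.2) ⟨t', _⟩ (h.mv_le t'.2) }
      have hsurj : Function.Surjective φ := by
        intro w
        obtain ⟨t, ht, htw⟩ := (hT1mem _).1 (Multiplicative.toAdd w).2
        exact ⟨⟨t, ht⟩, Multiplicative.toAdd.injective (Subtype.ext htw)⟩
      have hker : φ.ker = R.subgroupOf T' := by
        ext t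
        rw [MonoidHom.mem_ker, Subgroup.mem_subgroupOf, show ((t : H) ∈ R) ↔ S.ι ⟨t, hXΔ (h.mv_le t.2)⟩ = 0 from
          (S.ker ⟨t, hXΔ (h.mv_le t.2)⟩ (h.mv_le t.2)).symm]
        exact ⟨fun e => congrArg Subtype.val (congrArg Multiplicative.toAdd e),
          fun e => Multiplicative.toAdd.injective (Subtype.ext e)⟩
      rw [show R.relIndex T' = (R.subgroupOf T').index from rfl, ← hker, Subgroup.index_ker,
        MonoidHom.range_eq_top.2 hsurj, Subgroup.card_top]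
      exact Nat.card_congr Multiplicative.ofAdd
    have hfin1 : finrank (ZMod 2) T1 = 2 * m := by
      have h1 : Nat.card T1 = 2 ^ finrank (ZMod 2) T1 := by
        rw [Module.natCard_eq_pow_finrank (K := ZMod 2), Nat.card_zmod]
      rw [hcardT1, ← pow_add, ← two_mul] at h1
      exact (Nat.pow_right_injective le_rfl h1).symm
    let b := Module.finBasis (ZMod 2) T1
    set E := Submodule.span Fc (Set.range fun i => emb Fc ((b i : T1) : Fin S.D → ZMod 2)) with hE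
    have hE1 : ∀ w ∈ T1, emb Fc w ∈ E := by
      intro w hw
      rw [show w = ((∑ i, b.repr ⟨w, hw⟩ i • b i : T1) : Fin S.D → ZMod 2) by rw [b.sum_repr], Submodule.coe_sum, map_sum]
      refine Submodule.sum_mem _ fun i _ => ?_
      rw [Submodule.coe_smul, emb_smul]
      exact Submodule.smul_mem _ _ (Submodule.subset_span ⟨i, rfl⟩)
    have hE2 : LinearMap.range (π' sΔ - 1) ≤ E := by
      rw [LinearMap.range_eq_map, ← span_emb (K := ZMod 2) (F := Fc), Submodule.map_span, Submodule.span_le]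
      rintro _ ⟨_, ⟨w, rfl⟩, rfl⟩
      obtain ⟨x, hx, rfl⟩ := S.surj w
      change (π' sΔ - 1) (emb Fc (S.ι x)) ∈ E
      rw [LinearMap.sub_apply, Module.End.one_apply, show π' sΔ (emb Fc (S.ι x)) = emb Fc (S.π sΔ (S.ι x)) from
        bchg_emb _ _, ← map_sub, S.act_sub sΔ hx]
      refine hE1 _ ((hT1mem _).2 ⟨⁅sΔ, x⁆, ?_, rfl⟩)
      have := inv_mem (Subgroup.commutator_mem_commutator (show (x : H) ∈ X from hx) (Subgroup.mem_zpowers s))
      rwa [commutatorElement_inv] at this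
    have hmap : (LinearMap.range f₀).map W0.subtype ≤ LinearMap.range (π' sΔ - 1) := by
      rintro _ ⟨_, ⟨w, rfl⟩, rfl⟩
      exact ⟨(w : Fin S.D → Fc), rfl⟩
    calc finrank Fc (LinearMap.range f₀) = finrank Fc ((LinearMap.range f₀).map W0.subtype) :=
          (LinearEquiv.finrank_eq (Submodule.equivMapOfInjective _ W0.injective_subtype _)).symm.symm
      _ ≤ finrank Fc E := Submodule.finrank_mono (hmap.trans hE2)
      _ ≤ _ := (finrank_range_le_card _).trans (by rw [Fintype.card_fin, hfin1])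
  -- two independent fixed vectors
  have hker2 : 2 ≤ finrank Fc (LinearMap.ker f₀) := by
    set eΔ : Δ := ⟨e, hXΔ heX⟩
    set cΔ : Δ := ⟨c, hXΔ hc⟩
    have heXT : eΔ ∈ ⁅X.subgroupOf Δ, TΔ⁆ ⊔ R.subgroupOf Δ := by
      have h1 : (⁅X, T⁆ ⊔ Z) ≤ ((⁅X.subgroupOf Δ, TΔ⁆ ⊔ R.subgroupOf Δ).map Δ.subtype) := by
        rw [Subgroup.map_sup, Subgroup.map_commutator, Subgroup.map_subgroupOf_eq_of_le hXΔ,
          Subgroup.map_subgroupOf_eq_of_le hTΔ, Subgroup.map_subgroupOf_eq_of_le (hRX.trans hXΔ)]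
        exact sup_le_sup_left hZR _
      obtain ⟨g, hg, hge⟩ := h1 he
      rwa [show eΔ = g from Subtype.ext hge.symm]
    have hιe := (S.tSum_moved TΔ (fun x hx => hRX hx) heXT).2
    have hfixv : ∀ x : Δ, x ∈ X.subgroupOf Δ → Commute (x : H) s → S.π sΔ (S.ι x) = S.ι x := fun x hx hxs =>
      (S.fix_iff sΔ hx).2 (by
        rw [show ⁅sΔ, x⁆ = 1 from commutatorElement_eq_one_iff_mul_comm.2 (Subtype.ext hxs.eq.symm)]
        exact one_mem _)
    choose lift hliftX hlift using S.surj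
    have hRmod : ∀ x ∈ X, ∀ x' ∈ X, x⁻¹ * x' ∈ R → ∀ b ∈ X, β x b = β x' b := by
      intro x hx x' hx' hR b hb
      rw [show x' = x * (x⁻¹ * x') by group, hβl x hx _ (hRX hR) b hb, hR.2 b hb, mul_one]
    have hRmod' : ∀ x ∈ X, ∀ x' ∈ X, x⁻¹ * x' ∈ R → ∀ b ∈ X, β b x = β b x' := by
      intro x hx x' hx' hR b hb
      have h1 := hβswap b hb x hx
      have h2 := hβswap b hb x' hx'
      rw [hRmod x hx x' hx' hR b hb] at h1
      exact mul_right_cancel₀ (fun h0 => by rw [h0, mul_zero] at h2; exact zero_ne_one h2) (h1.trans h2.symm)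
    let P : (Fin S.D → ZMod 2) → (Fin S.D → ZMod 2) → F := fun w w' => β (lift w : Δ) (lift w' : Δ)
    have hPι : ∀ x x' : Δ, (x : H) ∈ X → (x' : H) ∈ X → P (S.ι x) (S.ι x') = β x x' := by
      intro x x' hx hx'
      have h1 : ((lift (S.ι x) : Δ) : H)⁻¹ * x ∈ R := ((S.eq_iff (hliftX _) hx).1 (hlift _))
      have h2 : ((lift (S.ι x') : Δ) : H)⁻¹ * x' ∈ R := ((S.eq_iff (hliftX _) hx').1 (hlift _))
      change β _ _ = _
      exact (hRmod _ (hliftX _) _ hx h1 _ (hliftX _)).trans (hRmod' _ (hliftX _) _ hx' h2 _ hx)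
    have hPr : ∀ w u u', P w (u + u') = P w u * P w u' := fun w u u' => by
      rw [← hlift w, ← hlift u, ← hlift u', ← S.add _ (hliftX u) _ (hliftX u'), hPι _ _ (hliftX w)
        (mul_mem (hliftX u) (hliftX u') : ((lift u * lift u' : Δ) : H) ∈ X), hPι _ _ (hliftX w) (hliftX u),
        hPι _ _ (hliftX w) (hliftX u')]
      exact hβr _ (hliftX w) _ (hliftX u) _ (hliftX u')
    have hPl : ∀ u u' w, P (u + u') w = P u w * P u' w := fun u u' w => by
      rw [← hlift w, ← hlift u, ← hlift u', ← S.add _ (hliftX u) _ (hliftX u'),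
        hPι _ _ (mul_mem (hliftX u) (hliftX u') : ((lift u * lift u' : Δ) : H) ∈ X) (hliftX w),
        hPι _ _ (hliftX u) (hliftX w), hPι _ _ (hliftX u') (hliftX w)]
      exact hβl _ (hliftX u) _ (hliftX u') _ (hliftX w)
    have hP0 : ∀ w, P w 0 = 1 := fun w => by
      have h1 := hPr w 0 0
      rw [add_zero] at h1
      refine mul_left_cancel₀ ?_ (h1.symm.trans (mul_one _).symm)
      intro h0
      have h2 := hβswap _ (hliftX w) _ (hliftX (0 : Fin S.D → ZMod 2))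
      change P w 0 * _ = 1 at h2
      rw [h0, zero_mul] at h2
      exact zero_ne_one h2
    have hP0l : ∀ w, P 0 w = 1 := fun w => by
      have h1 := hPl 0 0 w
      rw [add_zero] at h1
      refine mul_left_cancel₀ ?_ (h1.symm.trans (mul_one _).symm)
      intro h0
      have h2 := hβswap _ (hliftX (0 : Fin S.D → ZMod 2)) _ (hliftX w)
      change P 0 w * _ = 1 at h2
      rw [h0, zero_mul] at h2
      exact zero_ne_one h2
    haveI := Fintype.ofFinite TΔ
    have hPT : P (S.ι eΔ) (tSum S.π TΔ (S.ι cΔ)) = 1 := by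
      have key : ∀ (A : Finset TΔ), P (S.ι eΔ) (∑ t ∈ A, S.π (t : Δ) (S.ι cΔ)) =
          P (∑ t ∈ A, S.π ((t : Δ)⁻¹) (S.ι eΔ)) (S.ι cΔ) := by
        intro A
        induction A using Finset.induction with
        | empty => rw [Finset.sum_empty, Finset.sum_empty, hP0, hP0l]
        | insert t A ht ih =>
          rw [Finset.sum_insert ht, Finset.sum_insert ht, hPr, hPl, ih]
          congr 1
          rw [S.act _ cΔ hc, S.act _ eΔ heX, hPι _ _ heX (h.nX.conj_mem c hc _),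
            hPι _ _ (h.nX.conj_mem e heX _) hc]
          set τ : H := ((t : Δ) : H)
          change f ⁅e, τ * c * τ⁻¹⁆ = f ⁅τ⁻¹ * e * τ⁻¹⁻¹, c⁆
          have hz := hZc e heX _ (h.nX.conj_mem c hc τ)
          rw [← hTconj τ⁻¹ (inv_mem t.2) _ hz]
          congr 1
          simp only [commutatorElement_def]; group
      have h1 : ∑ t : TΔ, S.π ((t : Δ)⁻¹) (S.ι eΔ) = tSum S.π TΔ (S.ι eΔ) := by
        rw [tSum_apply]
        exact Fintype.sum_equiv (Equiv.inv TΔ) _ _ fun t => rfl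
      rw [tSum_apply, key, h1, hιe, hP0l]
    set k := Nat.card TΔ
    set a0 := k • S.ι cΔ - tSum S.π TΔ (S.ι cΔ) with ha0
    have ha0T : tSum S.π TΔ a0 = 0 := by
      rw [ha0, map_sub, map_nsmul, tSum_of_fixed S.π (fun t ht => rho_tSum S.π ht _), Nat.cast_smul_eq_nsmul, sub_self]
    have ha0s : S.π sΔ a0 = a0 := by
      rw [ha0, map_sub, map_nsmul, hfixv cΔ hc hcs, ← tSum_conj S.π hsT, hfixv cΔ hc hcs]
    have hPnsmul : ∀ w u, ∀ n : ℕ, P w (n • u) = P w u ^ n := fun w u n => by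
      induction n with
      | zero => rw [zero_smul, pow_zero, hP0]
      | succ n ih => rw [succ_nsmul, hPr, ih, pow_succ]
    have hPec : P (S.ι eΔ) (S.ι cΔ) ≠ 1 := by rw [hPι _ _ heX hc]; exact hec
    have hcast2 : ∀ n : ℕ, n % 2 = 1 → P (S.ι eΔ) (n • S.ι cΔ) = P (S.ι eΔ) (S.ι cΔ) := fun n hn => by
      congr 1
      rw [← Nat.cast_smul_eq_nsmul (ZMod 2), ← ZMod.natCast_mod n 2, hn, Nat.cast_one, one_smul]
    have hPa0 : P (S.ι eΔ) a0 = P (S.ι eΔ) (S.ι cΔ) := by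
      have hk : k % 2 = 1 := Nat.two_dvd_ne_zero.1 fun hd => hTcard (by
        rw [ZMod.natCast_eq_zero_iff]; exact hd)
      have h1 := hPr (S.ι eΔ) a0 (tSum S.π TΔ (S.ι cΔ))
      rw [ha0, sub_add_cancel, hcast2 k hk, ← ha0, hPT, mul_one] at h1
      exact h1.symm
    have hPee : P (S.ι eΔ) (S.ι eΔ) = 1 := by
      rw [hPι _ _ heX heX]
      change f ⁅e, e⁆ = 1
      rw [commutatorElement_self, hf1]
    have hind : ∀ x : ZMod 2, a0 ≠ x • S.ι eΔ := fun x hx => hPec (by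
      rw [← hPa0, hx, ← ZMod.natCast_zmod_val x, Nat.cast_smul_eq_nsmul, hPnsmul, hPee, one_pow])
    have he0 : S.ι eΔ ≠ 0 := fun h0 => hPec (by rw [h0]; exact hP0l _)
    have hmemker : ∀ w, tSum S.π TΔ w = 0 → emb Fc w ∈ W0 := fun w hw => by
      rw [hW0, LinearMap.mem_ker, tSum_apply, show ∑ t : TΔ, π' (t : Δ) (emb Fc w) =
        emb Fc (∑ t : TΔ, S.π (t : Δ) w) by
          rw [map_sum]; exact Finset.sum_congr rfl fun t _ => bchg_emb _ _, ← tSum_apply, hw, map_zero]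
    have hmemfix : ∀ w (hw : emb Fc w ∈ W0), S.π sΔ w = w → (⟨emb Fc w, hw⟩ : W0) ∈ LinearMap.ker f₀ :=
      fun w hw hws => by
        rw [hf₀, LinearMap.mem_ker, LinearMap.sub_apply, Module.End.one_apply, sub_eq_zero]
        refine Subtype.ext ?_
        change π' sΔ (emb Fc w) = emb Fc w
        rw [show π' sΔ (emb Fc w) = emb Fc (S.π sΔ w) from bchg_emb _ _, hws]
    let g : Fin 2 → LinearMap.ker f₀ := ![⟨⟨_, hmemker _ hιe⟩, hmemfix _ _ (hfixv eΔ heX hes)⟩,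
      ⟨⟨_, hmemker _ ha0T⟩, hmemfix _ _ ha0s⟩]
    have hli : LinearIndependent Fc g := by
      refine (LinearIndependent.pair_iff'
        (x := (⟨⟨_, hmemker _ hιe⟩, hmemfix _ _ (hfixv eΔ heX hes)⟩ : LinearMap.ker f₀)) (fun h0 => he0 (emb_injective (F := Fc) (by
        rw [map_zero]; exact congrArg (fun z : LinearMap.ker f₀ => ((z : W0) : Fin S.D → Fc)) h0)))).2 ?_
      intro x hx
      obtain ⟨x', hx'⟩ := emb_smul_mem (F := Fc) he0
        (congrArg (fun z : LinearMap.ker f₀ => ((z : W0) : Fin S.D → Fc)) hx).symm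
      exact hind x' hx'
    simpa using hli.fintype_card_le_finrank
  have hsum := LinearMap.finrank_range_add_finrank_ker f₀
  have hpow := Nat.lt_two_pow_self (n := m)
  have hr' : r * finrank Fc (LinearMap.ker f₀) = 2 ^ m * finrank Fc (LinearMap.ker f₀) + finrank Fc (LinearMap.ker f₀) := by
    rw [← hmr, add_mul, one_mul]
  have hmul : 2 ^ m * 2 ≤ 2 ^ m * finrank Fc (LinearMap.ker f₀) := Nat.mul_le_mul_left _ hker2
  rcases hbound with hb | hb
  · have : r * finrank Fc (LinearMap.ker f₀) ≤ finrank Fc W0 := hb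
    omega
  · have : finrank Fc (LinearMap.ker f₀) + 2 * m < finrank Fc W0 := hb
    omega

end Frame

end Cfsg.Lib.FitHeight
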