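import Cfsg.Agent.FitHeight.Fpf

/-!
Common eigenvectors, quotient representations, and moved weights without a second automorphism.
-/

set_option autoImplicit false
set_option linter.unusedSectionVars false
set_option linter.style.haveILetI false
set_option linter.unusedVariables false

namespace Cfsg.Lib.FitHeight

open Module

universe u v w

variable {F : Type u} [Field F] {V : Type v} [AddCommGroup V] [Module F V] {H : Type w} [Group H]
  (ρ : H →* Module.End F V)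

/-- A commuting group has a common eigenvector in every invariant subspace. -/
theorem exists_char_vec [IsAlgClosed F] [FiniteDimensional F V] (A : Subgroup H)
    (hc : ∀ a ∈ A, ∀ b ∈ A, ρ (a * b) = ρ (b * a)) (U : Submodule F V) (hU : U ≠ ⊥)
    (hinv : ∀ a ∈ A, ∀ x ∈ U, ρ a x ∈ U) :
    ∃ (v : V) (χ : A →* Fˣ), v ∈ U ∧ v ≠ 0 ∧ ∀ a : A, ρ (a : H) v = (χ a : F) • v := by
  classical
  obtain ⟨U₀, ⟨hle, hne, hinv₀⟩, hmin⟩ := WellFounded.has_min (wellFounded_lt (α := Submodule F V))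
    {W | W ≤ U ∧ W ≠ ⊥ ∧ ∀ a ∈ A, ∀ x ∈ W, ρ a x ∈ W} ⟨U, le_rfl, hU, hinv⟩
  haveI : Nontrivial U₀ := Submodule.nontrivial_iff_ne_bot.2 hne
  have hsc : ∀ a : A, ∃ c : F, ∀ x ∈ U₀, ρ (a : H) x = c • x := by
    intro a
    obtain ⟨c, hc'⟩ := Module.End.exists_eigenvalue ((ρ (a : H)).restrict (hinv₀ a a.2))
    obtain ⟨⟨x, hx⟩, hxv⟩ := hc'.exists_hasEigenvector
    have hxc : ρ (a : H) x = c • x := congrArg Subtype.val hxv.apply_eq_smul
    refine ⟨c, fun y hy => ?_⟩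
    by_contra hyc
    refine hmin (U₀ ⊓ LinearMap.ker (ρ (a : H) - c • (1 : Module.End F V))) ⟨inf_le_left.trans hle, ?_, ?_⟩
      (lt_of_le_of_ne inf_le_left fun e => hyc ?_)
    · intro e
      have h1 : x ∈ U₀ ⊓ LinearMap.ker (ρ (a : H) - c • (1 : Module.End F V)) := ⟨hx, by simp [hxc]⟩
      rw [e, Submodule.mem_bot] at h1
      exact hxv.2 (Subtype.ext h1)
    · rintro b hb z ⟨hz, hzc⟩
      refine ⟨hinv₀ b hb z hz, ?_⟩
      simp only [SetLike.mem_coe, LinearMap.mem_ker, LinearMap.sub_apply, LinearMap.smul_apply,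
        Module.End.one_apply, sub_eq_zero] at hzc ⊢
      rw [rho_rho, hc a a.2 b hb, ← rho_rho, hzc, map_smul]
    · have h1 := (e.ge hy).2
      simpa [sub_eq_zero] using h1
  choose c hc' using hsc
  obtain ⟨v, hv, hv0⟩ := Submodule.exists_mem_ne_zero_of_ne_bot hne
  have huniq : ∀ k k' : F, k • v = k' • v → k = k' := fun k k' h => smul_left_injective F hv0 h
  have h1 : c 1 = 1 := huniq _ _ (by rw [← hc' 1 v hv, one_smul, OneMemClass.coe_one, map_one]; rfl)
  have hmul : ∀ a b : A, c (a * b) = c a * c b := fun a b => huniq _ _ (by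
    rw [← hc' _ v hv, Subgroup.coe_mul, ← rho_rho, hc' b v hv, map_smul, hc' a v hv, smul_smul, mul_comm])
  exact ⟨v, ({ toFun := c, map_one' := h1, map_mul' := hmul } : A →* F).toHomUnits, hle hv, hv0, fun a => hc' a v hv⟩

/-- An element that is not trivial on an invariant subspace has a common eigenvector where it is not trivial. -/
theorem exists_char_vec_ne [IsAlgClosed F] [FiniteDimensional F V] (A : Subgroup H) [Finite A]
    (hc : ∀ a ∈ A, ∀ b ∈ A, ρ (a * b) = ρ (b * a)) (hAF : ((Nat.card A : ℕ) : F) ≠ 0) (U : Submodule F V)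
    (hinv : ∀ a ∈ A, ∀ x ∈ U, ρ a x ∈ U) (z : A) {x : V} (hx : x ∈ U) (hzx : ρ (z : H) x ≠ x) :
    ∃ (v : V) (χ : A →* Fˣ), v ∈ U ∧ v ≠ 0 ∧ χ z ≠ 1 ∧ ∀ a : A, ρ (a : H) v = (χ a : F) • v := by
  have hpow : (z : H) ^ Nat.card A = 1 := congrArg Subtype.val (pow_card_eq_one' (x := z))
  let U' := U ⊓ LinearMap.ker (orbSum ρ (z : H) (Nat.card A))
  have hne : U' ≠ ⊥ := by
    intro e
    have h1 : ρ (z : H) x - x ∈ U' := ⟨sub_mem (hinv _ z.2 x hx) hx, by
      rw [SetLike.mem_coe, LinearMap.mem_ker, map_sub, orbSum_apply, orbSum_apply, ← Finset.sum_sub_distrib]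
      simp only [rho_rho, ← pow_succ]
      rw [Finset.sum_range_sub (fun i => ρ ((z : H) ^ i) x), hpow, pow_zero, sub_self]⟩
    rw [e, Submodule.mem_bot, sub_eq_zero] at h1
    exact hzx h1
  have hinv' : ∀ a ∈ A, ∀ y ∈ U', ρ a y ∈ U' := by
    rintro a ha y ⟨hy, hy'⟩
    refine ⟨hinv a ha y hy, ?_⟩
    rw [SetLike.mem_coe, LinearMap.mem_ker] at hy' ⊢
    rw [orbSum_apply] at hy' ⊢
    rw [show ∑ i ∈ Finset.range (Nat.card A), ρ ((z : H) ^ i) (ρ a y) =
      ρ a (∑ i ∈ Finset.range (Nat.card A), ρ ((z : H) ^ i) y) by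
        rw [map_sum]
        refine Finset.sum_congr rfl fun i _ => ?_
        rw [rho_rho, rho_rho, hc _ (pow_mem z.2 i) a ha], hy', map_zero]
  obtain ⟨v, χ, hv, hv0, hχ⟩ := exists_char_vec ρ A hc U' hne hinv'
  refine ⟨v, χ, hv.1, hv0, fun h => hv0 ?_, hχ⟩
  have h1 : orbSum ρ (z : H) (Nat.card A) v = 0 := hv.2
  rw [orbSum_fixed ρ (by rw [hχ, h, Units.val_one, one_smul])] at h1
  exact (smul_eq_zero.1 h1).resolve_left hAF

/-- The representation on a quotient. -/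
def quotRep (U : Submodule F V) : stab ρ U →* Module.End F (V ⧸ U) where
  toFun h := U.mapQ U (ρ (h : H)) fun x hx => h.2.1 x hx
  map_one' := by ext x; simp
  map_mul' a b := by ext x; simp

theorem quotRep_mk (U : Submodule F V) (h : stab ρ U) (x : V) :
    quotRep ρ U h (Submodule.Quotient.mk x) = Submodule.Quotient.mk (ρ (h : H) x) := rfl

variable {s : H} {r : ℕ} (T : Subgroup H) [Fintype T]

/-- Some moved weight has a non-zero orbit sum. -/
theorem exists_moved₀ [Finite H] (hr : r.Prime) (hs : s ^ r = 1) (hrF : (r : F) ≠ 0)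
    (hrT : ¬ r ∣ Fintype.card T) (hsT : ∀ t ∈ T, s * t * s⁻¹ ∈ T)
    (hgen : ∀ U : Subgroup H, U ≤ T → (∀ l ∈ T, l⁻¹ * s * l * s⁻¹ ∈ U) → U = T)
    (hC : ∀ c ∈ T, Commute s c → ∀ t ∈ T, Commute c t) (hTF : ((Fintype.card T : ℕ) : F) ≠ 0)
    (hT0 : ∀ v : V, ∑ t : T, ρ (t : H) v = 0)
    (Ω : Set V) (hΩs : ∀ w ∈ Ω, ρ s w ∈ Ω) (hΩT : ∀ t ∈ T, ∀ w ∈ Ω, ρ t w ∈ Ω)
    (hspan : Submodule.span F Ω = ⊤) (hfix : ∃ v : V, ρ s v = v ∧ v ≠ 0) :
    ∃ w ∈ Ω, ρ s w ≠ w ∧ orbSum ρ s r w ≠ 0 := by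
  classical
  haveI : Fact r.Prime := ⟨hr⟩
  by_contra hno
  push Not at hno
  obtain ⟨ω, hω, hωs, hω0⟩ : ∃ ω ∈ Ω, ρ s ω = ω ∧ ω ≠ 0 := by
    by_contra hc
    push Not at hc
    obtain ⟨v, hv, hv0⟩ := hfix
    have hle : Submodule.span F Ω ≤ LinearMap.ker (orbSum ρ s r) := by
      refine Submodule.span_le.2 fun w hw => ?_
      rw [SetLike.mem_coe, LinearMap.mem_ker]
      by_cases hws : ρ s w = w
      · rw [hc w hw hws, map_zero]
      · exact hno w hw hws
    have h : orbSum ρ s r v = 0 := hle (hspan.symm ▸ Submodule.mem_top)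
    rw [orbSum_fixed ρ hv] at h
    exact hv0 ((smul_eq_zero.1 h).resolve_left hrF)
  have hs' : ρ s⁻¹ ω = ω := by
    conv_lhs => rw [← hωs]
    rw [rho_inv_apply]
  have hsi : ∀ i : ℕ, ρ (s ^ i) ω = ω := fun i => by
    induction i with
    | zero => simp
    | succ i ih => rw [pow_succ', ← rho_rho, ih, hωs]
  -- the elements with a fixed translate
  let S : Subgroup H :=
    { carrier := {x | x ∈ T ∧ ρ x ω = ω}
      one_mem' := ⟨one_mem T, by simp⟩
      mul_mem' := fun {x y} hx hy => ⟨mul_mem hx.1 hy.1, by rw [← rho_rho, hy.2, hx.2]⟩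
      inv_mem' := fun {x} hx => ⟨inv_mem hx.1, by conv_lhs => rw [← hx.2]; rw [rho_inv_apply]⟩ }
  let U : Subgroup H :=
    { carrier := {x | x ∈ T ∧ ∃ c ∈ T, Commute s c ∧ ρ x ω = ρ c ω}
      one_mem' := ⟨one_mem T, 1, one_mem T, Commute.one_right s, rfl⟩
      mul_mem' := fun {x y} hx hy => by
        obtain ⟨hxT, c, hc, hcs, hce⟩ := hx
        obtain ⟨hyT, e, he, hes, hee⟩ := hy
        refine ⟨mul_mem hxT hyT, e * c, mul_mem he hc, hes.mul_right hcs, ?_⟩
        rw [← rho_rho, hee, rho_rho, ← (hC e he hes x hxT).eq, ← rho_rho, hce, rho_rho]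
      inv_mem' := fun {x} hx => by
        obtain ⟨hxT, c, hc, hcs, hce⟩ := hx
        refine ⟨inv_mem hxT, c⁻¹, inv_mem hc, hcs.inv_right, ?_⟩
        have h1 : ρ (x⁻¹ * c) ω = ω := by rw [← rho_rho, ← hce, rho_inv_apply]
        conv_rhs => rw [← h1]
        rw [rho_rho, ← (hC c hc hcs _ (inv_mem hxT)).eq, inv_mul_cancel_left] }
  have hUT : U ≤ T := fun x hx => hx.1
  have hfixU : ∀ l ∈ T, ρ s (ρ l ω) = ρ l ω → l ∈ U := by
    intro l hl h
    have h1 : l⁻¹ * s * l * s⁻¹ ∈ S := by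
      refine ⟨by rw [mul_assoc, mul_assoc, ← mul_assoc s]; exact mul_mem (inv_mem hl) (hsT l hl), ?_⟩
      rw [← rho_rho, hs', ← rho_rho, ← rho_rho, h, rho_inv_apply]
    have hST : S ≤ T := fun x hx => hx.1
    obtain ⟨u, hu, huc⟩ := exists_fixed_coset S (g := s) (p := r) (n := 1) (by rwa [pow_one])
      (fun hd' => hrT (hd'.trans (by rw [← Nat.card_eq_fintype_card]; exact Subgroup.card_dvd_of_le hST)))
      (fun v hv => ⟨hsT v hv.1, by rw [← rho_rho, hs', ← rho_rho, hv.2, hωs]⟩) h1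
    exact ⟨hl, l * u, mul_mem hl (hST hu), huc, by rw [← rho_rho, hu.2]⟩
  have hUfix : ∀ x ∈ U, ρ s (ρ x ω) = ρ x ω := by
    rintro x ⟨-, c, -, hcs, hce⟩
    rw [hce, rho_rho, hcs.eq, ← rho_rho, hωs]
  obtain ⟨l, hl, hlU⟩ : ∃ l ∈ T, l ∉ U := by
    by_contra hc
    push Not at hc
    have hS : S = T := hgen S (fun x hx => hx.1) fun l hl => ⟨by
      rw [mul_assoc, mul_assoc, ← mul_assoc s]; exact mul_mem (inv_mem hl) (hsT l hl), by
      rw [← rho_rho, hs', ← rho_rho, ← rho_rho, hUfix l (hc l hl), rho_inv_apply]⟩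
    have h3 := hT0 ω
    rw [Finset.sum_congr rfl fun (t : T) _ => ((hS.ge t.2).2 : ρ (t : H) ω = ω), Finset.sum_const, Finset.card_univ,
      ← Nat.cast_smul_eq_nsmul F, smul_eq_zero] at h3
    exact hω0 (h3.resolve_left hTF)
  have h1 : orbSum ρ s r (ρ l ω) = 0 := hno _ (hΩT l hl ω hω) fun h => hlU (hfixU l hl h)
  have h2 := congrArg (fun z => orbSum ρ s r (ρ l⁻¹ z)) h1
  simp only [map_zero, orbSum_apply ρ s r (ρ l ω), map_sum, rho_rho] at h2
  rw [Finset.sum_eq_single (0 : ℕ)] at h2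
  · rw [pow_zero, one_mul, inv_mul_cancel, map_one, Module.End.one_apply, orbSum_fixed ρ hωs] at h2
    exact hω0 ((smul_eq_zero.1 h2).resolve_left hrF)
  · intro i hi hi0
    have hxT : l⁻¹ * s ^ i * l * (s ^ i)⁻¹ ∈ T := by
      rw [mul_assoc, mul_assoc, ← mul_assoc (s ^ i)]
      exact mul_mem (inv_mem hl) (conj_pow_mem T hsT i l hl)
    have e : ρ (l⁻¹ * (s ^ i * l)) ω = ρ (l⁻¹ * s ^ i * l * (s ^ i)⁻¹) ω := by
      conv_rhs => rw [← hsi i, rho_rho]
      congr 2; group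
    rw [e]
    refine hno _ (hΩT _ hxT _ hω) fun h => hlU ?_
    have hUs : ∀ v ∈ U, s * v * s⁻¹ ∈ U := fun v hv => hfixU _ (hsT v (hUT hv)) (by
      have h2 : ρ (s * v * s⁻¹) ω = ρ v ω := by rw [← rho_rho, hs', ← rho_rho, hUfix v hv]
      rw [h2, hUfix v hv])
    obtain ⟨u, hu, huc⟩ := exists_fixed_coset U (g := s ^ i) (p := r) (n := 1)
      (by rw [pow_one, ← pow_mul, mul_comm, pow_mul, hs, one_pow])
      (fun hd' => hrT (hd'.trans (by rw [← Nat.card_eq_fintype_card]; exact Subgroup.card_dvd_of_le hUT)))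
      (fun v hv => by
        clear hxT e hi hi0 h
        induction i with
        | zero => simpa using hv
        | succ i ih => rw [pow_succ']; simpa [mul_assoc] using hUs _ ih)
      (hfixU _ hxT h)
    have h3 : l * u ∈ U := hfixU _ (mul_mem hl (hUT hu)) (by
      rw [rho_rho, (commute_of_pow hr hs (not_dvd_of_range hr hi hi0) huc).eq, ← rho_rho, hωs])
    exact (U.mul_mem_cancel_right hu).1 h3
  · intro h0
    exact absurd (Finset.mem_range.2 hr.pos) h0

end Cfsg.Lib.FitHeight
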