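import Cfsg.Agent.FitHeight.Acting
import Cfsg.Agent.FitHeight.Eigen

/-!
A fixed element of the centre of the section is seen on fixed vectors through a moved weight.
-/

set_option autoImplicit false
set_option linter.unusedSectionVars false
set_option linter.style.haveILetI false
set_option linter.unusedVariables false

namespace Cfsg.Lib.FitHeight

open scoped commutatorElement
open Module

universe u v w

variable {F : Type u} [Field F] {V : Type v} [AddCommGroup V] [Module F V] {H : Type w} [Group H] [Finite H]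
  {ρ : H →* Module.End F V} {X Z : Subgroup H} {s : H} {r q : ℕ}

namespace Frame

variable [IsAlgClosed F] [FiniteDimensional F V] (h : Frame ρ X Z s r q)
include h

/-- An element trivial on the moved part and on the radical is central. -/
theorem commute_of_rad {e : H} (he : e ∈ X) (hmov : ∀ v, tSum ρ ⁅Z, Subgroup.zpowers s⁆ v = 0 → ρ e v = v)
    (hrad : ∀ x ∈ X, ∀ v, (∀ z ∈ ⁅Z, Subgroup.zpowers s⁆, ρ z v = v) → ρ ⁅e, x⁆ v = v) :
    ∀ x ∈ X, Commute e x := by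
  intro x hx
  rw [← commutatorElement_eq_one_iff_commute]
  refine h.eq_one_of_parts (fun v hv => ?_) (hrad x hx)
  set Zm := ⁅Z, Subgroup.zpowers s⁆
  have hxi : ∀ m ∈ Zm, x⁻¹ * m * x⁻¹⁻¹ ∈ Zm := fun m hm => by
    rw [← (h.cen m (h.zm_le_Z hm) x⁻¹ (inv_mem hx)).eq, mul_inv_cancel_right]; exact hm
  have hw : tSum ρ Zm (ρ x⁻¹ v) = 0 := by rw [tSum_conj ρ hxi, hv, map_zero]
  have hei : ρ e⁻¹ (ρ x⁻¹ v) = ρ x⁻¹ v := by
    conv_lhs => rw [← hmov _ hw]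
    rw [rho_inv_apply]
  rw [commutatorElement_def, ← rho_rho, ← rho_rho, ← rho_rho, hei, rho_apply_inv, hmov v hv]

/-- The complement of the centre of the section in the centre of the `q`-group. -/
theorem exists_complement {T : Subgroup H} {qT : ℕ} (a : Acting X Z s r q T qT) [Fintype T] {y₀ : H}
    (hy₀ : y₀ ∈ ⁅X, T⁆ ⊔ Z) (hy₀s : Commute y₀ s) (hy₀c : ∀ x ∈ X, Commute y₀ x) :
    ∃ Y : Subgroup H, Y ≤ X ∧ (∀ y ∈ Y, ∀ x ∈ X, Commute y x) ∧ (∀ y ∈ Y, y ∈ Z → y = 1) ∧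
      (∀ y ∈ Y, y ^ q = 1) ∧ (∀ g : H, (∀ t ∈ T, g * t * g⁻¹ ∈ T) → ∀ y ∈ Y, g * y * g⁻¹ ∈ Y) ∧
      (∀ (A : Type) [AddCommGroup A] (φ : H → A), (∀ y ∈ Y, ∀ y' ∈ Y, φ (y * y') = φ y + φ y') →
        ∀ y ∈ Y, ∑ t : T, φ ((t : H) * y * (t : H)⁻¹) = 0) ∧
      ∃ y₁ ∈ Y, Commute y₁ s ∧ y₁⁻¹ * y₀ ^ Nat.card T ∈ Z := by
  classical
  haveI := h.nX
  haveI := h.nZ
  haveI := h.fact_q
  set Bt : Subgroup H := X ⊓ Subgroup.centralizer (X : Set H) with hBt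
  have hBc : ∀ b ∈ Bt, ∀ x ∈ X, Commute b x := fun b hb x hx => (Subgroup.mem_centralizer_iff.1 hb.2 x hx).symm
  have hBconj : ∀ g : H, ∀ b ∈ Bt, g * b * g⁻¹ ∈ Bt := fun g b hb => ⟨h.nX.conj_mem b hb.1 g,
    Subgroup.mem_centralizer_iff.2 fun x hx => by
      have h1 : g⁻¹ * x * g ∈ X := by simpa using h.nX.conj_mem x hx g⁻¹
      calc x * (g * b * g⁻¹) = g * ((g⁻¹ * x * g) * b) * g⁻¹ := by group
        _ = g * (b * (g⁻¹ * x * g)) * g⁻¹ := by rw [(hBc b hb _ h1).eq]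
        _ = g * b * g⁻¹ * x := by group⟩
  letI : CommGroup Bt := { mul_comm := fun x y => Subtype.ext (hBc x x.2 y y.2.1).eq }
  let cj : H → Bt →* Bt := fun g =>
    { toFun := fun b => ⟨g * b * g⁻¹, hBconj g b b.2⟩
      map_one' := Subtype.ext (by simp)
      map_mul' := fun b b' => Subtype.ext (by simp) }
  let N : Bt →* Bt := ∏ t : T, cj t
  have hN : ∀ b, N b = ∏ t : T, cj t b := fun b => MonoidHom.finsetProd_apply _ _ b
  have hcjN : ∀ g : H, (∀ t ∈ T, g * t * g⁻¹ ∈ T) → ∀ b, N (cj g b) = cj g (N b) := by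
    intro g hg b
    rw [hN, hN, map_prod]
    let f : T → T := fun t => ⟨g * t * g⁻¹, hg t t.2⟩
    have hf : Function.Bijective f := Finite.injective_iff_bijective.1 fun a b h =>
      Subtype.ext (mul_left_cancel (mul_right_cancel (congrArg Subtype.val h)))
    refine (Fintype.prod_bijective f hf _ _ fun t => Subtype.ext ?_).symm
    change g * ((t : H) * b * (t : H)⁻¹) * g⁻¹ =
      (g * (t : H) * g⁻¹) * (g * b * g⁻¹) * (g * (t : H) * g⁻¹)⁻¹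
    group
  have hfixN : ∀ b : Bt, (∀ t ∈ T, cj t b = b) → N b = b ^ Nat.card T := fun b hb => by
    rw [hN, Finset.prod_congr rfl fun (t : T) _ => hb t t.2, Finset.prod_const, Finset.card_univ,
      Nat.card_eq_fintype_card]
  have hZfix : ∀ b : Bt, (b : H) ∈ Z → ∀ t ∈ T, cj t b = b := fun b hb t ht => Subtype.ext (by
    change t * (b : H) * t⁻¹ = b
    rw [(a.cenZ t ht _ hb).eq, mul_inv_cancel_right])
  have hinj : ∀ b : Bt, b ^ Nat.card T = 1 → b = 1 := fun b hb => by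
    obtain ⟨m, hm⟩ := h.pX ⟨b, b.2.1⟩
    have hm' : b ^ q ^ m = 1 := Subtype.ext (by
      have h0 := congrArg Subtype.val hm
      rw [Subgroup.coe_pow, OneMemClass.coe_one] at h0 ⊢
      exact h0)
    have h1 := Nat.dvd_gcd (orderOf_dvd_of_pow_eq_one hb) (orderOf_dvd_of_pow_eq_one hm')
    rw [Nat.Coprime.gcd_eq_one ((h.hq.coprime_iff_not_dvd.2 (a.card_cop_q h.hq)).symm.pow_right m), Nat.dvd_one,
      orderOf_eq_one_iff] at h1
    exact h1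
  set Y : Subgroup H := N.ker.map Bt.subtype with hY
  have hYmem : ∀ y, y ∈ Y ↔ ∃ hy : y ∈ Bt, N ⟨y, hy⟩ = 1 := fun y => by
    constructor
    · rintro ⟨b, hb, rfl⟩; exact ⟨b.2, hb⟩
    · rintro ⟨hy, hy'⟩; exact ⟨⟨y, hy⟩, hy', rfl⟩
  refine ⟨Y, fun y hy => ((hYmem y).1 hy).1.1, fun y hy => hBc y ((hYmem y).1 hy).1, fun y hy hyZ => ?_,
    fun y hy => ?_, fun g hg y hy => ?_, fun A _ φ hφ y hy => ?_, ?_⟩
  · obtain ⟨hyB, hyN⟩ := (hYmem y).1 hy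
    rw [hfixN _ (hZfix ⟨y, hyB⟩ hyZ)] at hyN
    exact congrArg Subtype.val (hinj _ hyN)
  · obtain ⟨hyB, hyN⟩ := (hYmem y).1 hy
    have h1 : N ((⟨y, hyB⟩ : Bt) ^ q) = 1 := by rw [map_pow, hyN, one_pow]
    rw [hfixN _ (hZfix _ (by rw [Subgroup.coe_pow]; exact h.pow y hyB.1))] at h1
    have h2 := congrArg Subtype.val (hinj _ h1)
    rwa [Subgroup.coe_pow] at h2
  · obtain ⟨hyB, hyN⟩ := (hYmem y).1 hy
    refine (hYmem _).2 ⟨hBconj g y hyB, ?_⟩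
    change N (cj g ⟨y, hyB⟩) = 1
    rw [hcjN g hg, hyN, map_one]
  · obtain ⟨hyB, hyN⟩ := (hYmem y).1 hy
    have hYc : ∀ t : T, (t : H) * y * (t : H)⁻¹ ∈ Y := fun t => (hYmem _).2 ⟨hBconj _ y hyB, by
      change N (cj t ⟨y, hyB⟩) = 1
      rw [hcjN _ (fun u hu => mul_mem (mul_mem t.2 hu) (inv_mem t.2)), hyN, map_one]⟩
    have hφ1 : φ 1 = 0 := by
      have := hφ 1 (one_mem Y) 1 (one_mem Y)
      rwa [one_mul, left_eq_add] at this
    have key : ∀ S : Finset T, (((∏ t ∈ S, cj t ⟨y, hyB⟩ : Bt) : H) ∈ Y) ∧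
        ∑ t ∈ S, φ ((t : H) * y * (t : H)⁻¹) = φ ((∏ t ∈ S, cj t ⟨y, hyB⟩ : Bt) : H) := by
      intro S
      induction S using Finset.induction with
      | empty => simp only [Finset.prod_empty, Finset.sum_empty]; exact ⟨one_mem Y, hφ1.symm⟩
      | insert t S ht ih =>
        rw [Finset.prod_insert ht, Finset.sum_insert ht, Subgroup.coe_mul]
        refine ⟨mul_mem (hYc t) ih.1, ?_⟩
        rw [ih.2]
        exact (hφ _ (hYc t) _ ih.1).symm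
    rw [(key Finset.univ).2, ← hN, hyN]
    exact hφ1
  · obtain ⟨S⟩ := exists_sectRep (q := q) X Z h.com h.pow
    obtain ⟨hy₀X, hι₀⟩ := S.tSum_moved T h.hZX hy₀
    have hy₀B : y₀ ∈ Bt := ⟨hy₀X, Subgroup.mem_centralizer_iff.2 fun x hx => (hy₀c x hx).eq.symm⟩
    set b₀ : Bt := ⟨y₀, hy₀B⟩
    have key : ∀ A : Finset T, S.ι ((∏ t ∈ A, cj t b₀ : Bt) : H) = ∑ t ∈ A, S.π (t : H) (S.ι y₀) := by
      intro A
      induction A using Finset.induction with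
      | empty => rw [Finset.prod_empty, Finset.sum_empty]; exact S.map_one
      | insert t A ht ih =>
        rw [Finset.prod_insert ht, Finset.sum_insert ht, Subgroup.coe_mul,
          S.add ((cj t b₀ : Bt) : H) (h.nX.conj_mem y₀ hy₀X t) _ (∏ t ∈ A, cj t b₀ : Bt).2.1, ih, S.act _ y₀ hy₀X]
        rfl
    have hNZ : ((N b₀ : Bt) : H) ∈ Z := (S.ker _ (N b₀).2.1).1 (by rw [hN, key, ← tSum_apply, hι₀])
    set k := Nat.card T
    refine ⟨((b₀ ^ k * (N b₀)⁻¹ : Bt) : H), (hYmem _).2 ⟨(b₀ ^ k * (N b₀)⁻¹).2, ?_⟩, ?_, ?_⟩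
    · change N (b₀ ^ k * (N b₀)⁻¹) = 1
      rw [map_mul, map_inv, map_pow, hfixN _ (hZfix _ hNZ), mul_inv_cancel]
    · have hs0 : cj s b₀ = b₀ := Subtype.ext (by
        change s * y₀ * s⁻¹ = y₀
        rw [← hy₀s.eq, mul_inv_cancel_right])
      have h1 : cj s (b₀ ^ k * (N b₀)⁻¹) = b₀ ^ k * (N b₀)⁻¹ := by
        rw [map_mul, map_inv, map_pow, hs0, ← hcjN s a.sT, hs0]
      exact (mul_inv_eq_iff_eq_mul.1 (congrArg Subtype.val h1)).symm
    · rw [Subgroup.coe_mul, Subgroup.coe_pow, Subgroup.coe_inv, mul_inv_rev, inv_inv, mul_assoc,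
        inv_mul_cancel, mul_one]
      exact hNZ

set_option maxHeartbeats 1600000 in
theorem not_bad_rad {T : Subgroup H} {qT : ℕ} (a : Acting X Z s r q T qT) {y₀ : H}
    (hy₀ : y₀ ∈ ⁅X, T⁆ ⊔ Z) (hy₀s : Commute y₀ s) (hy₀c : ∀ x ∈ X, Commute y₀ x) (hy₀Z : y₀ ∉ Z) :
    (∃ y ∈ X, Commute y s ∧ ¬ Bad ρ ⁅X, Subgroup.zpowers s⁆ s y) ∧
      ∀ d : H, Commute d s → ¬ r ∣ orderOf d → (∀ t ∈ T, d * t * d⁻¹ ∈ T) →
        (∀ c ∈ T, Commute s c → ∀ x ∈ X, ⁅⁅d, c⁆, x⁆ ∈ Z) →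
        ((∃ p j : ℕ, p.Prime ∧ p ≠ qT ∧ d ^ p ^ j = 1) ∨
          ∀ b ∈ T, ∀ t ∈ T, ∀ x ∈ X, ⁅⁅b⁻¹ * d * b * d⁻¹, t⁆, x⁆ ∈ Z) →
        ⁅y₀, d⁆ ∉ Z → ∃ w ∈ X, Commute w s ∧ ¬ Bad ρ ⁅X, Subgroup.zpowers s⁆ s ⁅w, d⁆ := by
  classical
  haveI := h.nX
  haveI := h.nZ
  haveI := h.fact_q
  haveI := Fact.mk h.hr
  haveI := Fintype.ofFinite T
  obtain ⟨Y, hYX, hYc, hYZ, hYq, hYn, hYsum, y₁, hy₁, hy₁s, hy₁Z⟩ := h.exists_complement a hy₀ hy₀s hy₀c
  set Δ : Subgroup H := Subgroup.normalizer (Y : Set H)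
  have hnrm : ∀ g : H, (∀ t ∈ T, g * t * g⁻¹ ∈ T) → g ∈ Δ := fun g hg =>
    Cfsg.Lib.Coprime.mem_normalizer_of_conj_mem (hYn g hg) fun y hy => by
      have hgi : ∀ t ∈ T, g⁻¹ * t * g⁻¹⁻¹ ∈ T := nrm_inv (T := T) hg
      simpa using hYn g⁻¹ hgi y hy
  have hsΔ : s ∈ Δ := hnrm s a.sT
  have hTΔ : T ≤ Δ := fun t ht => hnrm t fun u hu => mul_mem (mul_mem ht hu) (inv_mem ht)
  have hYΔ : Y ≤ Δ := Subgroup.le_normalizer
  haveI : (Y.subgroupOf Δ).Normal := Subgroup.normal_in_normalizer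
  obtain ⟨S⟩ := exists_sectRep (q := q) (Y.subgroupOf Δ) (⊥ : Subgroup Δ)
    (Subgroup.commutator_le.2 fun x hx x' hx' => by
      rw [Subgroup.mem_bot, commutatorElement_eq_one_iff_commute]
      exact Subtype.ext (hYc _ hx _ (hYX hx')).eq)
    (fun x hx => Subgroup.mem_bot.2 (Subtype.ext (hYq _ hx)))
  set sΔ : Δ := ⟨s, hsΔ⟩ with hsΔdef
  set TΔ := T.subgroupOf Δ with hTΔdef
  let τ₀ : Δ →* Module.End (ZMod q) (Module.Dual (ZMod q) (Fin S.D → ZMod q)) :=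
    { toFun := fun g => (S.π g⁻¹).dualMap
      map_one' := LinearMap.ext fun f => LinearMap.ext fun v => by simp
      map_mul' := fun g g' => LinearMap.ext fun f => LinearMap.ext fun v => by
        change f (S.π (g * g')⁻¹ v) = f (S.π g'⁻¹ (S.π g⁻¹ v))
        rw [mul_inv_rev, rho_rho] }
  have hτ : ∀ g f v, τ₀ g f v = f (S.π g⁻¹ v) := fun g f v => rfl
  have hinj : ∀ x x' : Δ, (x : H) ∈ Y → (x' : H) ∈ Y → S.ι x = S.ι x' → x = x' := fun x x' hx hx' e => by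
    have h1 := (S.eq_iff hx hx').1 e
    rw [Subgroup.mem_bot] at h1
    exact inv_mul_eq_one.1 h1
  haveI := Fintype.ofFinite TΔ
  have hTsum : ∀ v, ∑ t : TΔ, S.π (t : Δ) v = 0 := by
    intro v
    obtain ⟨x, hx, rfl⟩ := S.surj v
    let φ : H → (Fin S.D → ZMod q) := fun g => if hg : g ∈ Δ then S.ι ⟨g, hg⟩ else 0
    have hφ : ∀ g : Δ, φ g = S.ι g := fun g => dif_pos g.2
    have h1 := hYsum _ φ (fun y hy y' hy' => by
      rw [show y * y' = ((⟨y, hYΔ hy⟩ * ⟨y', hYΔ hy'⟩ : Δ) : H) from rfl, hφ, show φ y = S.ι ⟨y, hYΔ hy⟩ from dif_pos _,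
        show φ y' = S.ι ⟨y', hYΔ hy'⟩ from dif_pos _]
      exact S.add ⟨y, _⟩ hy ⟨y', _⟩ hy') (x : H) hx
    rw [← h1]
    refine Fintype.sum_equiv (Subgroup.subgroupOfEquivOfLe hTΔ).toEquiv _ _ fun t => ?_
    rw [S.act _ x hx, ← hφ]
    rfl
  have hTdual : ∀ f, ∑ t : TΔ, τ₀ (t : Δ) f = 0 := fun f => LinearMap.ext fun v => by
    rw [LinearMap.sum_apply, LinearMap.zero_apply, ← map_zero f, ← hTsum v, map_sum]
    exact Fintype.sum_equiv (Equiv.inv TΔ) _ _ fun t => rfl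
  -- the weights
  haveI : NeZero ((q : ℕ) : F) := ⟨h.hqF⟩
  obtain ⟨ζ, hζ⟩ := HasEnoughRootsOfUnity.exists_primitiveRoot F q
  let E : ZMod q → F := fun k => ζ ^ k.val
  have hEadd : ∀ k k', E (k + k') = E k * E k' := fun k k' => by
    change ζ ^ (k + k').val = ζ ^ k.val * ζ ^ k'.val
    rw [← pow_add, ZMod.val_add, ← pow_mod_orderOf ζ (k.val + k'.val), ← hζ.eq_orderOf]
  have hEinj : Function.Injective E := fun k k' e =>
    ZMod.val_injective q (hζ.pow_inj (ZMod.val_lt k) (ZMod.val_lt k') e)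
  have hE0 : E 0 = 1 := by
    change ζ ^ (0 : ZMod q).val = 1
    rw [ZMod.val_zero, pow_zero]
  let Ω₀ : Set (Module.Dual (ZMod q) (Fin S.D → ZMod q)) :=
    {f | ∃ v : V, v ≠ 0 ∧ ∀ x : Δ, (x : H) ∈ Y → ρ (x : H) v = E (f (S.ι x)) • v}
  have hΩinv : ∀ g : Δ, ∀ f ∈ Ω₀, τ₀ g f ∈ Ω₀ := by
    rintro g f ⟨v, hv0, hv⟩
    refine ⟨ρ (g : H) v, fun e => hv0 (rho_injective ρ _ (e.trans (map_zero _).symm)), fun x hx => ?_⟩
    have hx' : ((g⁻¹ * x * g : Δ) : H) ∈ Y := by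
      have := (inferInstance : (Y.subgroupOf Δ).Normal).conj_mem x hx g⁻¹
      rwa [inv_inv] at this
    rw [hτ, S.act _ x hx, inv_inv, ← map_smul, ← hv _ hx', rho_rho, rho_rho]
    congr 2
    simp [mul_assoc]
  have hspan : Submodule.span (ZMod q) Ω₀ = ⊤ := by
    rw [← Subspace.dualCoannihilator_dualAnnihilator_eq (W := Submodule.span (ZMod q) Ω₀),
      ← Submodule.dualAnnihilator_bot]
    congr 1
    refine (Submodule.eq_bot_iff _).2 fun v hv => ?_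
    rw [Submodule.mem_dualCoannihilator] at hv
    by_contra hv0
    obtain ⟨x, hx, rfl⟩ := S.surj v
    have hx1 : ¬ ∀ w : V, ρ (x : H) w = w := fun e => hv0 ((S.ker x hx).2 (Subgroup.mem_bot.2 (Subtype.ext
      (h.inj (LinearMap.ext fun w => by rw [e, OneMemClass.coe_one, map_one, Module.End.one_apply])))))
    push Not at hx1
    obtain ⟨w, hw⟩ := hx1
    obtain ⟨u, χ, -, hu0, hχ, hu⟩ := exists_char_vec_ne ρ Y (fun b hb b' hb' => congrArg ρ (hYc b hb b' (hYX hb')).eq)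
      (h.card_cast hYX) (⊤ : Submodule F V) (fun _ _ _ _ => trivial) ⟨x, hx⟩ (x := w) trivial hw
    choose lift hliftY hlift using S.surj
    have hroot : ∀ y : Y, ∃ k : ZMod q, (χ y : F) = E k := fun y => by
      have h1 : (χ y : F) ^ q = 1 := by
        rw [← Units.val_pow_eq_pow_val, ← map_pow, show y ^ q = 1 from Subtype.ext (hYq y y.2), map_one,
          Units.val_one]
      obtain ⟨i, hi, hie⟩ := hζ.eq_pow_of_pow_eq_one h1
      exact ⟨i, by rw [← hie]; change ζ ^ i = ζ ^ (i : ZMod q).val; rw [ZMod.val_natCast, Nat.mod_eq_of_lt hi]⟩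
    choose κ hκ using hroot
    let φ : (Fin S.D → ZMod q) →+ ZMod q := AddMonoidHom.mk' (fun v => κ ⟨(lift v : H), hliftY v⟩) fun v v' => by
      refine hEinj ?_
      rw [hEadd, ← hκ, ← hκ, ← hκ, ← Units.val_mul, ← map_mul]
      congr 2
      refine Subtype.ext ?_
      have : lift (v + v') = lift v * lift v' := hinj _ _ (hliftY _) (mul_mem (hliftY v) (hliftY v'))
        (by rw [hlift, S.add _ (hliftY v) _ (hliftY v'), hlift, hlift])
      change ((lift (v + v') : Δ) : H) = (lift v : H) * (lift v' : H)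
      rw [this]
      rfl
    have hφ : ∀ y : Δ, ∀ hy : (y : H) ∈ Y, φ.toZModLinearMap q (S.ι y) = κ ⟨y, hy⟩ := fun y hy => by
      change κ _ = κ _
      congr 1
      exact Subtype.ext (congrArg Subtype.val (hinj _ _ (hliftY _) hy (hlift _)) :)
    have hmem : φ.toZModLinearMap q ∈ Ω₀ := ⟨u, hu0, fun y hy => by rw [hu ⟨y, hy⟩, hκ, hφ y hy]⟩
    have h2 := hv _ (Submodule.subset_span hmem)
    rw [hφ x hx] at h2
    exact hχ (Units.ext (by rw [hκ, h2, hE0, Units.val_one]))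
  -- the image group
  haveI : Finite Δ := inferInstance
  set H2 := τ₀.toHomUnits.range
  set τ := imgRep τ₀
  set T2 := TΔ.map (img τ₀) with hT2
  haveI := Fintype.ofFinite T2
  set s2 := img τ₀ sΔ with hs2
  have hTcard : (Fintype.card TΔ : ℕ) = Nat.card T := by
    rw [← Nat.card_eq_fintype_card]
    exact Nat.card_congr (Subgroup.subgroupOfEquivOfLe hTΔ).toEquiv
  obtain ⟨hT2F, hT20⟩ := sum_map_eq_zero τ₀ TΔ (by rw [hTcard]; exact a.card_cast h.hq) hTdual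
  have hrq : (r : ZMod q) ≠ 0 := by
    rw [ne_eq, ZMod.natCast_eq_zero_iff]
    exact fun hd => h.hqr ((Nat.prime_dvd_prime_iff_eq h.hq h.hr).1 hd)
  have hT2dvd : Fintype.card T2 ∣ Nat.card T := by
    rw [← Nat.card_eq_fintype_card, ← Nat.card_congr (Subgroup.subgroupOfEquivOfLe hTΔ).toEquiv]
    exact Subgroup.card_map_dvd _ _
  have hrT2 : ¬ r ∣ Fintype.card T2 := fun hd => a.not_dvd_card h.hr (hd.trans hT2dvd)
  have hsT2 : ∀ t ∈ T2, s2 * t * s2⁻¹ ∈ T2 := map_conj_mem τ₀ TΔ fun t ht => a.sT _ ht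
  have hact : ∀ g : Δ, (∀ x ∈ X, ⁅(g : H), x⁆ ∈ Z) → τ₀ g = 1 := by
    intro g hg
    have h1 : S.π g⁻¹ = 1 := by
      rw [← inv_inj.2 (rfl : g = g)]
      refine (S.pi_eq_one_iff _).2 (inv_mem (mem_cgrp.2 fun x hx => Subgroup.mem_bot.2 (Subtype.ext ?_)))
      refine hYZ _ ?_ (hg _ (hYX hx))
      rw [commutatorElement_def]
      exact mul_mem ((inferInstance : (Y.subgroupOf Δ).Normal).conj_mem x hx g) (inv_mem hx)
    exact LinearMap.ext fun f => LinearMap.ext fun v => by rw [hτ, h1]; rfl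
  have himgcomm : ∀ g g' : Δ, (∀ x ∈ X, ⁅⁅(g : H), (g' : H)⁆, x⁆ ∈ Z) → Commute (img τ₀ g) (img τ₀ g') := by
    intro g g' hgg
    change img τ₀ g * img τ₀ g' = img τ₀ g' * img τ₀ g
    rw [← map_mul, ← map_mul, img_eq_iff, show g * g' = ⁅g, g'⁆ * (g' * g) by simp only [commutatorElement_def]; group,
      map_mul τ₀ ⁅g, g'⁆, hact _ hgg, one_mul]
  have hlift2 : ∀ c ∈ T2, Commute s2 c → ∃ c' : Δ, (c' : H) ∈ T ∧ Commute s (c' : H) ∧ img τ₀ c' = c := by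
    rintro _ ⟨c, hc, rfl⟩ hcs
    let K : Subgroup Δ := TΔ ⊓ (img τ₀).ker
    obtain ⟨u, hu, huc⟩ := exists_fixed_coset K (g := sΔ) (p := r) (n := 1) (Subtype.ext (by simpa using h.hs))
      (fun hd => a.not_dvd_card h.hr (hd.trans ((Subgroup.card_dvd_of_le inf_le_left).trans
        (dvd_of_eq (Nat.card_congr (Subgroup.subgroupOfEquivOfLe hTΔ).toEquiv)))))
      (fun u hu => ⟨a.sT _ hu.1, by
        change img τ₀ (sΔ * u * sΔ⁻¹) = 1
        rw [map_mul, map_mul, MonoidHom.mem_ker.1 hu.2, mul_one, ← map_mul, mul_inv_cancel, map_one]⟩) (l := c) ⟨by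
        change (c : H)⁻¹ * s * c * s⁻¹ ∈ T
        rw [mul_assoc, mul_assoc, ← mul_assoc s]
        exact mul_mem (inv_mem hc) (a.sT _ hc), by
        change img τ₀ (c⁻¹ * sΔ * c * sΔ⁻¹) = 1
        rw [map_mul, map_mul, map_mul, map_inv, map_inv, mul_assoc (img τ₀ c)⁻¹,
          ← hs2, hcs.eq, ← mul_assoc, inv_mul_cancel, one_mul, mul_inv_cancel]⟩
    exact ⟨c * u, mul_mem hc hu.1, congrArg Subtype.val huc.eq, by rw [map_mul, MonoidHom.mem_ker.1 hu.2, mul_one]⟩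
  have hgen2 : ∀ U : Subgroup H2, U ≤ T2 → (∀ l ∈ T2, l⁻¹ * s2 * l * s2⁻¹ ∈ U) → U = T2 := by
    refine fun U hU hl => le_antisymm hU ?_
    rintro _ ⟨t, ht, rfl⟩
    obtain ⟨t', ht', htt⟩ := a.gen ((U.comap (img τ₀)).map Δ.subtype) (fun l hlT => ⟨⟨l, hTΔ hlT⟩⁻¹ * sΔ * ⟨l, hTΔ hlT⟩ * sΔ⁻¹, by
      rw [SetLike.mem_coe, Subgroup.mem_comap, map_mul, map_mul, map_mul, map_inv, map_inv]
      exact hl _ (Subgroup.mem_map_of_mem _ (show (⟨l, hTΔ hlT⟩ : Δ) ∈ TΔ from hlT)), rfl⟩) ht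
    rwa [show t = t' from Subtype.ext htt.symm]
  have hC2 : ∀ c ∈ T2, Commute s2 c → ∀ t ∈ T2, Commute c t := by
    rintro c hc hcs _ ⟨t, ht, rfl⟩
    obtain ⟨c', hc', hc's, rfl⟩ := hlift2 c hc hcs
    exact himgcomm _ _ (a.fixC _ hc' hc's _ ht)
  have hs2r : s2 ^ r = 1 := by
    rw [hs2, ← map_pow, show sΔ ^ r = 1 from Subtype.ext (by simpa using h.hs), map_one]
  -- a fixed moved vector gives a fixed functional
  have hfixfun : ∀ v, S.π sΔ v = v → v ≠ 0 → ∃ f, τ₀ sΔ f = f ∧ f v ≠ 0 := by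
    intro v hv hv0
    obtain ⟨f, hf⟩ : ∃ f : Module.Dual (ZMod q) (Fin S.D → ZMod q), f v ≠ 0 := by
      by_contra hc
      push Not at hc
      exact hv0 ((Module.forall_dual_apply_eq_zero_iff (ZMod q) v).1 hc)
    refine ⟨orbSum τ₀ sΔ r f, rho_orbSum τ₀ h.hr (Subtype.ext (by simpa using h.hs)) f, ?_⟩
    rw [orbSum_apply, LinearMap.sum_apply, Finset.sum_congr rfl fun i _ => show τ₀ (sΔ ^ i) f v = f v by
      rw [hτ]
      congr 1
      have h1 : ∀ j : ℕ, S.π (sΔ ^ j) v = v := fun j => by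
        induction j with
        | zero => simp
        | succ j ih => rw [pow_succ', ← rho_rho, ih, hv]
      conv_lhs => rw [← h1 i]
      rw [rho_inv_apply], Finset.sum_const, Finset.card_range, ← Nat.cast_smul_eq_nsmul (ZMod q), smul_eq_mul]
    exact mul_ne_zero hrq hf
  have hfixY : ∀ x : Δ, (x : H) ∈ Y → Commute (x : H) s → S.π sΔ (S.ι x) = S.ι x := fun x hx hxs =>
    (S.fix_iff sΔ hx).2 (Subgroup.mem_bot.2 (commutatorElement_eq_one_iff_mul_comm.2 (Subtype.ext hxs.eq.symm)))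
  -- a moved weight gives a good element
  have hgood : ∀ w ∈ Ω₀, τ₀ sΔ w ≠ w → ∀ e : Δ, (e : H) ∈ Y → Commute s (e : H) → w (S.ι e) ≠ 0 →
      ¬ Bad ρ ⁅X, Subgroup.zpowers s⁆ s (e : H) := by
    intro w hw hws e he hes hwe hbad
    obtain ⟨v, hv0, hv⟩ := hw
    let f : H → F := fun g => if hg : g ∈ Δ then E (w (S.ι ⟨g, hg⟩)) else 0
    have hf : ∀ g : Δ, f g = E (w (S.ι g)) := fun g => dif_pos g.2
    obtain ⟨z, hz⟩ : ∃ z : Δ, (z : H) ∈ Y ∧ w (S.π sΔ (S.ι z)) ≠ w (S.ι z) := by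
      by_contra hc
      push Not at hc
      refine hws (LinearMap.ext fun u => ?_)
      obtain ⟨z, hz, rfl⟩ := S.surj u
      rw [hτ]
      have hz' : ((sΔ⁻¹ * z * sΔ : Δ) : H) ∈ Y := by
        have := (inferInstance : (Y.subgroupOf Δ).Normal).conj_mem z hz sΔ⁻¹
        rwa [inv_inv] at this
      have := hc _ hz'
      rw [S.act _ _ hz', show sΔ * (sΔ⁻¹ * z * sΔ) * sΔ⁻¹ = z by group] at this
      rw [S.act _ z hz, inv_inv, ← this]
    obtain ⟨hzY, hzne⟩ := hz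
    have hsz : ((sΔ * z * sΔ⁻¹ : Δ) : H) ∈ Y := (inferInstance : (Y.subgroupOf Δ).Normal).conj_mem z hzY sΔ
    obtain ⟨w1, w2, w3⟩ := orbSum_weight ρ h.hr h.hs Y (fun b hb => hYn s a.sT b hb) f hv0
      (fun b hb => by rw [show f b = E (w (S.ι ⟨b, hYΔ hb⟩)) from dif_pos _]; exact hv ⟨b, hYΔ hb⟩ hb)
      ⟨z, hzY, by
        rw [show s * (z : H) * s⁻¹ = ((sΔ * z * sΔ⁻¹ : Δ) : H) from rfl, hf, hf, ← S.act _ z hzY]
        exact fun e => hzne (hEinj e)⟩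
    have hbT : ((⁅sΔ, z⁆ : Δ) : H) ∈ ⁅X, Subgroup.zpowers s⁆ := by
      have := inv_mem (Subgroup.commutator_mem_commutator (hYX hzY) (Subgroup.mem_zpowers s))
      rwa [commutatorElement_inv] at this
    have hsum : tSum ρ ⁅X, Subgroup.zpowers s⁆ (orbSum ρ s r v) = 0 := by
      refine w3 _ (h.mv_nrm (Commute.refl s)) ⟨((⁅sΔ, z⁆ : Δ) : H), ?_, hbT, ?_⟩
      · exact mul_mem hsz (inv_mem hzY)
      · rw [hf, ← S.act_sub sΔ hzY, map_sub, ← hE0]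
        exact fun e => hzne (sub_eq_zero.1 (hEinj e))
    have := hbad _ hsum (rho_orbSum ρ h.hr h.hs v)
    rw [w2 (e : H) he hes, hf] at this
    refine hwe (hEinj ?_)
    rw [hE0]
    exact smul_left_injective F w1 (this.trans (one_smul F _).symm)
  -- evaluation of a fixed functional on a fixed element
  have heval : ∀ μ : Module.Dual (ZMod q) (Fin S.D → ZMod q), μ ≠ 0 → τ₀ sΔ μ = μ →
      ∃ y : Δ, (y : H) ∈ Y ∧ Commute s (y : H) ∧ μ (S.ι y) ≠ 0 := by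
    intro μ hμ0 hμs
    obtain ⟨v, hv⟩ : ∃ v, μ v ≠ 0 := by
      by_contra hc
      push Not at hc
      exact hμ0 (LinearMap.ext fun v => by rw [hc, LinearMap.zero_apply])
    have hsr : sΔ ^ r = 1 := Subtype.ext (by simpa using h.hs)
    obtain ⟨y, hy, hye⟩ := S.surj (orbSum S.π sΔ r v)
    refine ⟨y, hy, ?_, ?_⟩
    · have h1 := (S.fix_iff sΔ hy).1 (by rw [hye]; exact rho_orbSum S.π h.hr hsr v)
      rw [Subgroup.mem_bot, commutatorElement_eq_one_iff_commute] at h1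
      exact congrArg Subtype.val h1.eq
    · have hμi : ∀ i : ℕ, μ (S.π (sΔ ^ i) v) = μ v := fun i => by
        induction i with
        | zero => simp
        | succ i ih =>
          rw [pow_succ', ← rho_rho, ← ih]
          conv_lhs => rw [← hμs]
          rw [hτ, rho_inv_apply]
      rw [hye, orbSum_apply, map_sum, Finset.sum_congr rfl fun i _ => hμi i, Finset.sum_const, Finset.card_range,
        ← Nat.cast_smul_eq_nsmul (ZMod q), smul_eq_mul]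
      exact mul_ne_zero hrq hv
  have horb : orbSum τ s2 r = orbSum τ₀ sΔ r := orbSum_img τ₀ sΔ r
  have horbv : ∀ (f : Module.Dual (ZMod q) (Fin S.D → ZMod q)) (y : Δ), (y : H) ∈ Y → Commute s (y : H) →
      orbSum τ₀ sΔ r f (S.ι y) = (r : ZMod q) * f (S.ι y) := by
    intro f y hy hys
    rw [orbSum_apply, LinearMap.sum_apply, Finset.sum_congr rfl fun i _ => show τ₀ (sΔ ^ i) f (S.ι y) = f (S.ι y) by
      rw [hτ, S.act _ y hy]
      congr 2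
      refine Subtype.ext ?_
      change (s ^ i)⁻¹ * (y : H) * (s ^ i)⁻¹⁻¹ = y
      rw [inv_inv, mul_assoc, ← (hys.pow_left i).eq, inv_mul_cancel_left],
      Finset.sum_const, Finset.card_range, ← Nat.cast_smul_eq_nsmul (ZMod q), smul_eq_mul]
  have hΩ2 : ∀ g : Δ, ∀ f ∈ Ω₀, τ (img τ₀ g) f ∈ Ω₀ := hΩinv
  have hy₁1 : y₁ ≠ 1 := by
    rintro rfl
    rw [inv_one, one_mul] at hy₁Z
    obtain ⟨S'⟩ := exists_sectRep (q := q) X Z h.com h.pow
    obtain ⟨hy₀X, -⟩ := S'.tSum_moved T h.hZX hy₀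
    have h1 := (S'.ker _ (pow_mem hy₀X _)).2 hy₁Z
    rw [S'.map_pow hy₀X, ← Nat.cast_smul_eq_nsmul (ZMod q)] at h1
    exact hy₀Z ((S'.ker _ hy₀X).1 ((smul_eq_zero.1 h1).resolve_left (a.card_cast h.hq)))
  refine ⟨?_, ?_⟩
  · obtain ⟨f, hfs, hf0⟩ := hfixfun (S.ι ⟨y₁, hYΔ hy₁⟩) (hfixY ⟨y₁, hYΔ hy₁⟩ hy₁ hy₁s) (fun e =>
      hy₁1 (congrArg Subtype.val (Subgroup.mem_bot.1 ((S.ker (⟨y₁, hYΔ hy₁⟩ : Δ) hy₁).1 e))))
    obtain ⟨w, hw, hws, hwP⟩ := exists_moved₀ τ T2 h.hr hs2r hrq hrT2 hsT2 hgen2 hC2 hT2F hT20 Ω₀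
      (fun w hw => hΩ2 sΔ w hw) (fun t ht w hw => by obtain ⟨t', -, rfl⟩ := ht; exact hΩ2 t' w hw) hspan
      ⟨f, hfs, fun e => hf0 (by rw [e, LinearMap.zero_apply])⟩
    rw [horb] at hwP
    obtain ⟨y, hy, hys, hμy⟩ := heval _ hwP (rho_orbSum τ₀ h.hr (Subtype.ext (by simpa using h.hs)) w)
    refine ⟨y, hYX hy, hys.symm, hgood w hw hws y hy hys fun e => hμy ?_⟩
    rw [horbv w y hy hys, e, mul_zero]
  · intro d hds hdr hdT hdc halt hy₀d
    have hdΔ : d ∈ Δ := hnrm d hdT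
    set dΔ : Δ := ⟨d, hdΔ⟩ with hdΔdef
    set d2 := img τ₀ dΔ with hd2
    have hdy : ⁅d⁻¹, y₁⁆ ∉ Z := by
      intro hz
      obtain ⟨S'⟩ := exists_sectRep (q := q) X Z h.com h.pow
      obtain ⟨hy₀X, -⟩ := S'.tSum_moved T h.hZX hy₀
      have e1 : S'.ι y₁ = Nat.card T • S'.ι y₀ := by
        rw [← S'.map_pow hy₀X]
        exact (S'.eq_iff (hYX hy₁) (pow_mem hy₀X _)).2 hy₁Z
      have h2 := (S'.fix_iff d⁻¹ (hYX hy₁)).2 hz
      rw [e1, map_nsmul] at h2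
      have h3 : S'.π d⁻¹ (S'.ι y₀) = S'.ι y₀ := by
        rw [← Nat.cast_smul_eq_nsmul (ZMod q), ← Nat.cast_smul_eq_nsmul (ZMod q)] at h2
        exact smul_right_injective _ (a.card_cast h.hq) h2
      have h4 : S'.π d (S'.ι y₀) = S'.ι y₀ := by
        conv_lhs => rw [← h3]
        rw [rho_apply_inv]
      have h5 := (S'.fix_iff d hy₀X).1 h4
      exact hy₀d (comm_symm_mem h5)
    set v₁ := S.ι (⟨y₁, hYΔ hy₁⟩ : Δ) with hv₁
    set v₂ := S.π dΔ⁻¹ v₁ - v₁ with hv₂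
    have hv₂s : S.π sΔ v₂ = v₂ := by
      rw [hv₂, map_sub, hfixY ⟨y₁, hYΔ hy₁⟩ hy₁ hy₁s, rho_rho, show sΔ * dΔ⁻¹ = dΔ⁻¹ * sΔ from
        Subtype.ext (hds.inv_left.eq.symm), ← rho_rho, hfixY ⟨y₁, hYΔ hy₁⟩ hy₁ hy₁s]
    have hv₂0 : v₂ ≠ 0 := fun e => hdy (by
      have h1 := (S.fix_iff dΔ⁻¹ (x := ⟨y₁, hYΔ hy₁⟩) hy₁).1 (sub_eq_zero.1 e)
      rw [Subgroup.mem_bot] at h1
      rw [show ⁅d⁻¹, y₁⁆ = ((⁅dΔ⁻¹, ⟨y₁, hYΔ hy₁⟩⁆ : Δ) : H) from rfl, h1]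
      exact one_mem Z)
    obtain ⟨f, hfs, hf0⟩ := hfixfun v₂ hv₂s hv₂0
    have hdfne : τ₀ dΔ f ≠ f := fun e => hf0 (by
      rw [hv₂, map_sub, ← hτ dΔ f v₁, e, sub_self])
    have hds2 : Commute d2 s2 := (show Commute dΔ sΔ from Subtype.ext hds.eq).map _
    have hdT2 : ∀ t ∈ T2, d2 * t * d2⁻¹ ∈ T2 := map_conj_mem τ₀ TΔ fun t ht => hdT _ ht
    have halt2 : (∃ p j : ℕ, p.Prime ∧ ¬ p ∣ Fintype.card T2 ∧ d2 ^ p ^ j = 1) ∨
        ∀ b ∈ T2, ∀ t ∈ T2, Commute (b⁻¹ * d2 * b * d2⁻¹) t := by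
      rcases halt with ⟨p, j, hp, hpT, hdp⟩ | halt
      · haveI := Fact.mk a.hp
        obtain ⟨m, hm⟩ := IsPGroup.iff_card.1 a.pT
        refine Or.inl ⟨p, j, hp, fun hd => hpT ?_, by rw [hd2, ← map_pow, show dΔ ^ p ^ j = 1 from Subtype.ext (by simpa using hdp), map_one]⟩
        exact (Nat.prime_dvd_prime_iff_eq hp a.hp).1 (hp.dvd_of_dvd_pow (hm ▸ hd.trans hT2dvd))
      · refine Or.inr ?_
        rintro _ ⟨b, hb, rfl⟩ _ ⟨t, ht, rfl⟩
        rw [hd2, ← map_inv, ← map_inv, ← map_mul, ← map_mul, ← map_mul]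
        exact himgcomm _ _ (halt _ hb _ ht)
    obtain ⟨w, hw, hws, hwP⟩ := exists_moved τ T2 (d := d2) h.hr hs2r hrq hrT2 hsT2 hgen2 hC2 hT2F hT20 hds2 hdT2
      (fun c hc hcs => by
        obtain ⟨c', hc', hc's, rfl⟩ := hlift2 c hc hcs
        exact himgcomm _ _ (hdc _ hc' hc's))
      (fun hd => hdr (hd.trans ((orderOf_map_dvd _ dΔ).trans (dvd_of_eq (Subgroup.orderOf_mk d hdΔ)))))
      halt2 Ω₀ (fun w hw => hΩ2 sΔ w hw) (fun t ht w hw => by obtain ⟨t', -, rfl⟩ := ht; exact hΩ2 t' w hw)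
      (fun w hw => hΩ2 dΔ w hw) hspan ⟨f, hfs, hdfne⟩
    rw [horb] at hwP
    have hsr : sΔ ^ r = 1 := Subtype.ext (by simpa using h.hs)
    set μ := τ₀ dΔ (orbSum τ₀ sΔ r w) - orbSum τ₀ sΔ r w with hμ
    obtain ⟨y, hy, hys, hμy⟩ := heval μ (fun e => hwP (sub_eq_zero.1 e)) (by
      rw [hμ, map_sub, rho_orbSum τ₀ h.hr hsr, rho_rho, show sΔ * dΔ = dΔ * sΔ from Subtype.ext hds.eq.symm, ← rho_rho,
        rho_orbSum τ₀ h.hr hsr])
    have hy' : ((dΔ⁻¹ * y * dΔ : Δ) : H) ∈ Y := by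
      have := (inferInstance : (Y.subgroupOf Δ).Normal).conj_mem y hy dΔ⁻¹
      rw [inv_inv] at this
      exact this
    set e : Δ := dΔ⁻¹ * y * dΔ * y⁻¹ with he
    have heY : (e : H) ∈ Y := mul_mem hy' (inv_mem hy)
    have hys' : Commute s (d⁻¹ * (y : H) * d) := (hds.symm.inv_right.mul_right hys).mul_right hds.symm
    have hes : Commute s (e : H) := hys'.mul_right hys.inv_right
    refine ⟨d⁻¹ * (y : H) * d, hYX hy', hys'.symm, ?_⟩
    have he' : ⁅d⁻¹ * (y : H) * d, d⁆ = (e : H) := by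
      change _ = d⁻¹ * (y : H) * d * (y : H)⁻¹
      simp only [commutatorElement_def]; group
    rw [he']
    refine hgood w hw hws e heY hes fun e0 => hμy ?_
    rw [hμ, LinearMap.sub_apply, hτ dΔ, S.act _ y hy, inv_inv, horbv w (dΔ⁻¹ * y * dΔ) hy' hys', horbv w y hy hys,
      ← mul_sub, ← map_sub, sub_eq_add_neg, ← S.map_inv hy, ← S.add _ hy' _ (inv_mem hy), ← he, e0, mul_zero]

end Frame

end Cfsg.Lib.FitHeight
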