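import Cfsg.Agent.FitHeight.Bridge
import Cfsg.Agent.FitHeight.Nonrad
import Cfsg.Agent.FitHeight.RadCase

/-!
From a fixed element moved on one level to a fixed element seen on the next.
-/

set_option autoImplicit false
set_option linter.unusedSectionVars false
set_option linter.style.haveILetI false
set_option linter.unusedVariables false
set_option maxHeartbeats 1600000

namespace Cfsg.Lib.FitHeight

open scoped commutatorElement

universe u

variable {Γ : Type u} [Group Γ] [Finite Γ] {G : Subgroup Γ} {n : ℕ} {s : Γ} {r : ℕ}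

/-- An invariant Sylow subgroup of a level. -/
structure Tower.SylPart (T : Tower G n) (s : Γ) (j : ℕ) (P : Subgroup Γ) : Prop where
  le : P ≤ T.X j
  pgrp : IsPGroup (T.q j) P
  inv : s ∈ Subgroup.normalizer (P : Set Γ)
  cover : T.X j ≤ P ⊔ T.K j

theorem Tower.exists_sylPart [G.Normal] (T : Tower G n) (hS : Setting G s r n) {j : ℕ} (hj : j ≤ n)
    (U : Subgroup Γ) (hU : U ≤ T.X j) (hUp : IsPGroup (T.q j) U) (hUs : s ∈ Subgroup.normalizer (U : Set Γ)) :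
    ∃ P, T.SylPart s j P ∧ U ≤ P ∧ Cfsg.IsPiHallOf {p | p = T.q j} P (T.X j) := by
  obtain ⟨P, hP, hPq, hUP, hPs, hPc⟩ := T.exists_sylow hS hj U hU hUp hUs
  exact ⟨P, ⟨hP.1, hPq, hPs, hPc⟩, hUP, hP⟩

theorem commutator_zpowers_le {P : Subgroup Γ} (hs : s ∈ Subgroup.normalizer (P : Set Γ)) :
    ⁅P, Subgroup.zpowers s⁆ ≤ P := by
  refine Subgroup.commutator_le.2 fun x hx a ha => ?_
  rw [show ⁅x, a⁆ = x * (a * x⁻¹ * a⁻¹) by simp only [commutatorElement_def]; group]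
  exact mul_mem hx ((Subgroup.mem_normalizer_iff.1 (Subgroup.zpowers_le.2 hs ha) _).1 (inv_mem hx))

theorem conj_commutator_zpowers_mem {P : Subgroup Γ} {g : Γ} (hg : g ∈ Subgroup.normalizer (P : Set Γ))
    (hgs : Commute g s) {t : Γ} (ht : t ∈ ⁅P, Subgroup.zpowers s⁆) : g * t * g⁻¹ ∈ ⁅P, Subgroup.zpowers s⁆ := by
  have e : (⁅P, Subgroup.zpowers s⁆).map (MulAut.conj g).toMonoidHom = ⁅P, Subgroup.zpowers s⁆ := by
    rw [Subgroup.map_commutator, MonoidHom.map_zpowers]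
    congr 1
    · exact Cfsg.Lib.Coprime.conjMap_eq_self hg
    · congr 1
      change g * s * g⁻¹ = s
      rw [hgs.eq, mul_inv_cancel_right]
  rw [← e]
  exact ⟨t, ht, rfl⟩

namespace Tower

variable (T : Tower G n)

theorem SylPart.fixed_mem_L [G.Normal] {T : Tower G n} {j : ℕ} {P : Subgroup Γ} (hP : T.SylPart s j P)
    (hS : Setting G s r n) (hj : j ≤ n) {c : Γ} (hc : c ∈ ⁅P, Subgroup.zpowers s⁆) (hcs : Commute s c) :
    c ∈ T.L j := by
  haveI := T.nX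
  haveI := T.nL
  exact Cfsg.Lib.CommFixedGen.mem_of_fixed_of_mem_commutator (B := Subgroup.zpowers s) (D := T.X j) (V := T.L j)
    (by rw [Subgroup.normalizer_eq_top_iff.2 (T.nX j)]; exact le_top)
    (by rw [Subgroup.normalizer_eq_top_iff.2 (T.nL j)]; exact le_top) (T.hLX j hj) (T.com j hj)
    (by
      rw [Nat.card_zpowers]
      exact ((hS.hr.coprime_iff_not_dvd.2 (hS.not_dvd (T.le_G hj)))).coprime_dvd_left (orderOf_dvd_of_pow_eq_one hS.hs))
    (Subgroup.mem_sup_left (Subgroup.commutator_mono hP.le le_rfl hc))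
    (Subgroup.mem_centralizer_iff.2 fun y hy => by
      obtain ⟨i, rfl⟩ := Subgroup.mem_zpowers_iff.1 hy
      exact (hcs.zpow_left i).eq)

theorem comm_cgrp {j : ℕ} (hj : j < n) {a : Γ} (ha : a ∈ T.K j) {x : Γ} (hx : x ∈ T.X (j + 1)) :
    ⁅a, x⁆ ∈ T.L (j + 1) := by
  haveI := T.nL
  rw [T.kdef j hj] at ha
  exact mem_cgrp.1 ha.2 x hx

section
variable {j : ℕ} [Fact (T.q (j + 1 + 1)).Prime]
  (S : SectRep (T.X (j + 1 + 1)) (T.L (j + 1 + 1)) (T.q (j + 1 + 1)))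

theorem exists_T_lift [G.Normal] (hS : Setting G s r n) (hj : j + 1 < n) {P : Subgroup Γ} (hP : T.SylPart s j P)
    {c : (bcRep S).toHomUnits.range} (hc : c ∈ (⁅P, Subgroup.zpowers s⁆).map (img (bcRep S)))
    (hcs : Commute (img (bcRep S) s) c) :
    ∃ c' ∈ ⁅P, Subgroup.zpowers s⁆, c' ∈ T.L j ∧ img (bcRep S) c' = c := by
  haveI := Fact.mk hS.hr
  obtain ⟨t, ht, rfl⟩ := hc
  set φ := img (bcRep S)
  set T0 := ⁅P, Subgroup.zpowers s⁆
  have hT0s : ∀ x ∈ T0, s * x * s⁻¹ ∈ T0 := fun x hx => conj_commutator_zpowers_mem hP.inv (Commute.refl s) hx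
  obtain ⟨u, hu, huc⟩ := exists_fixed_coset (T0 ⊓ φ.ker) (g := s) (p := r) (n := 1) (by rw [pow_one]; exact hS.hs)
    (hS.not_dvd ((inf_le_left : T0 ⊓ φ.ker ≤ T0).trans ((commutator_zpowers_le hP.inv).trans (hP.le.trans (T.le_G (by omega))))))
    (fun u hu => ⟨hT0s u hu.1, by
      change φ (s * u * s⁻¹) = 1
      rw [map_mul, map_mul, MonoidHom.mem_ker.1 hu.2, mul_one, ← map_mul, mul_inv_cancel, map_one]⟩)
    (l := t) ⟨by
      rw [mul_assoc, mul_assoc, ← mul_assoc s]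
      exact T0.mul_mem (T0.inv_mem ht) (hT0s t ht), by
      change φ (t⁻¹ * s * t * s⁻¹) = 1
      rw [map_mul, map_mul, map_mul, map_inv, map_inv, mul_assoc (φ t)⁻¹, hcs.eq, ← mul_assoc, inv_mul_cancel,
        one_mul, mul_inv_cancel]⟩
  refine ⟨t * u, mul_mem ht hu.1, hP.fixed_mem_L hS (by omega) (mul_mem ht hu.1) huc, ?_⟩
  rw [map_mul, MonoidHom.mem_ker.1 hu.2, mul_one]

theorem img_comm_Z [G.Normal] (hj : j + 1 < n) {g : Γ} (hg : g ∈ T.K j) {x : (bcRep S).toHomUnits.range}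
    (hx : x ∈ (T.X (j + 1)).map (img (bcRep S))) :
    ⁅img (bcRep S) g, x⁆ ∈ (T.L (j + 1)).map (img (bcRep S)) := by
  obtain ⟨x, hx, rfl⟩ := hx
  rw [← map_commutatorElement]
  exact Subgroup.mem_map_of_mem _ (T.comm_cgrp (by omega) hg hx)

theorem acting [G.Normal] (hS : Setting G s r n) (hj : j + 1 < n) {P : Subgroup Γ} (hP : T.SylPart s j P) :
    Acting ((T.X (j + 1)).map (img (bcRep S))) ((T.L (j + 1)).map (img (bcRep S))) (img (bcRep S) s) r
      (T.q (j + 1)) ((⁅P, Subgroup.zpowers s⁆).map (img (bcRep S))) (T.q j) := by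
  haveI := T.nX
  set φ := img (bcRep S) with hφ
  set T0 := ⁅P, Subgroup.zpowers s⁆ with hT0
  have hT0P : T0 ≤ P := commutator_zpowers_le hP.inv
  have hT0s : ∀ x ∈ T0, s * x * s⁻¹ ∈ T0 := fun x hx => conj_commutator_zpowers_mem hP.inv (Commute.refl s) hx
  have hcenT : ∀ a ∈ T.L j, ∀ t ∈ T0, ⁅a, t⁆ ∈ T.K j := fun a ha t ht =>
    T.cen j (by omega) (Subgroup.commutator_mem_commutator ha (hP.le (hT0P ht)))
  refine ⟨T.prime j (by omega), (hP.pgrp.to_le hT0P).map φ, T.q_ne hS (by omega), T.ne j (by omega), ?_, ?_,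
    fun U hU => ?_, fun c hc hcs t ht x hx => ?_, fun a ha b hb t ht x hx => ?_⟩
  · rintro _ ⟨t, ht, rfl⟩ _ ⟨z, hz, rfl⟩
    obtain ⟨m, hm⟩ := hP.pgrp ⟨t, hT0P ht⟩
    have hm' : t ^ T.q j ^ m = 1 := congrArg Subtype.val hm
    refine T.commute_img S hj (T.Acen j (by omega) t (T.hXR j (by omega) (hP.le (hT0P ht))) ?_ z hz)
    exact (((Nat.coprime_primes (T.prime j (by omega)) (T.prime (j + 1) (by omega))).2 (T.ne j (by omega))).pow_left m
      ).coprime_dvd_left (orderOf_dvd_of_pow_eq_one hm')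
  · rintro _ ⟨t, ht, rfl⟩
    exact ⟨_, hT0s t ht, by rw [map_mul, map_mul, map_inv]⟩
  · refine le_of_twisted (t := φ s) ?_ ?_ hU
    · rw [← MonoidHom.map_zpowers, ← Subgroup.map_commutator]
      congr 1
      exact Cfsg.Lib.Coprime.commutator_commutator_eq (Subgroup.zpowers_le.2 hP.inv)
        (by
          rw [Nat.card_zpowers]
          exact ((hS.hr.coprime_iff_not_dvd.2 (hS.not_dvd (hP.le.trans (T.le_G (by omega)))))).coprime_dvd_left
            (orderOf_dvd_of_pow_eq_one hS.hs))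
        (Or.inl (Group.isSolvable_of_comm fun a b => mul_comm' a b))
    · rintro _ ⟨t, ht, rfl⟩
      exact ⟨_, hT0s t ht, by rw [map_mul, map_mul, map_inv]⟩
  · obtain ⟨c', hc', hcL, rfl⟩ := T.exists_T_lift S hS hj hP hc hcs
    obtain ⟨t, ht, rfl⟩ := ht
    rw [← map_commutatorElement]
    exact T.img_comm_Z S hj (hcenT c' hcL t ht) hx
  · obtain ⟨a, ha, rfl⟩ := ha
    obtain ⟨b, hb, rfl⟩ := hb
    obtain ⟨t, ht, rfl⟩ := ht
    rw [← map_commutatorElement, ← map_commutatorElement]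
    refine T.img_comm_Z S hj (hcenT _ ?_ t ht) hx
    exact T.com j (by omega) (Subgroup.commutator_mem_commutator (hP.le (hT0P ha)) (hP.le (hT0P hb)))

/-- A fixed element moved by the acting group is seen, or central and trivial. -/
theorem seen_or_central [G.Normal] (hS : Setting G s r n) (hj : j + 1 < n) {P : Subgroup Γ} (hP : T.SylPart s j P)
    {e : Γ} (he : e ∈ ⁅T.X (j + 1), ⁅P, Subgroup.zpowers s⁆⁆ ⊔ T.L (j + 1)) (hes : e ∈ cfix G s)
    (hns : ¬ T.Seen s (j + 1) e) :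
    ∀ x ∈ (T.X (j + 1)).map (img (bcRep S)), Commute (img (bcRep S) e) x := by
  haveI := T.nX
  set φ := img (bcRep S) with hφ
  have hF := T.frame S hS hj
  have heX : e ∈ T.X (j + 1) :=
    (sup_le (Subgroup.commutator_le_left _ _) (T.hLX _ (by omega)) : _ ≤ T.X (j + 1)) he
  have hbad := T.bad_of_forall S hS hj (e := e) fun w hw hwM => by
    by_contra hn
    exact hns ⟨w, hw, hwM, hn⟩
  have hcs : Commute (φ e) (φ s) := (mem_cfix.1 hes).2.symm.map φ
  have her : ¬ r ∣ orderOf (φ e) := fun h => Tower.not_dvd_orderOf hS (mem_cfix.1 hes).1 (h.trans (orderOf_map_dvd φ e))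
  have heT : φ e ∈ ⁅(T.X (j + 1)).map φ, (⁅P, Subgroup.zpowers s⁆).map φ⁆ ⊔ (T.L (j + 1)).map φ := by
    rw [← Subgroup.map_commutator, ← Subgroup.map_sup]
    exact Subgroup.mem_map_of_mem _ he
  refine hF.commute_of_rad (Subgroup.mem_map_of_mem _ heX) (hF.bad_moved hcs her hbad) fun x hx v hv => ?_
  by_contra hne
  exact hF.not_bad_nonrad (T.acting S hS hj hP) heT (Subgroup.mem_map_of_mem _ heX) hcs hx hv hne hbad

/-- An element with central image is in the bottom of a nonabelian level. -/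
theorem mem_L_of_central [G.Normal] (hj : j + 1 < n)
    (hnab : ¬ ∀ x ∈ (T.X (j + 1)).map (img (bcRep S)), ∀ y ∈ (T.X (j + 1)).map (img (bcRep S)), Commute x y)
    {e : Γ} (he : e ∈ T.X (j + 1))
    (hc : ∀ x ∈ (T.X (j + 1)).map (img (bcRep S)), Commute (img (bcRep S) e) x) : e ∈ T.L (j + 1) := by
  haveI := T.nX
  haveI := T.nL
  set φ := img (bcRep S) with hφ
  set XH := (T.X (j + 1)).map φ
  haveI : XH.Normal := Subgroup.Normal.map (T.nX _) _ (MonoidHom.rangeRestrict_surjective _)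
  let Y := T.X (j + 1) ⊓ (Subgroup.centralizer (XH : Set (bcRep S).toHomUnits.range)).comap φ
  have hmem : ∀ y, y ∈ Y ↔ y ∈ T.X (j + 1) ∧ ∀ x ∈ XH, Commute (φ y) x := fun y => by
    refine ⟨fun h => ⟨h.1, fun x hx => (Subgroup.mem_centralizer_iff.1 h.2 x hx).symm⟩,
      fun h => ⟨h.1, Subgroup.mem_centralizer_iff.2 fun x hx => (h.2 x hx).eq.symm⟩⟩
  rcases T.irr (j + 1) (by omega) Y inferInstance (fun l hl => (hmem l).2 ⟨T.hLX _ (by omega) hl, by
      rintro _ ⟨x, hx, rfl⟩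
      exact T.commute_img S hj (T.cen (j + 1) (by omega) (Subgroup.commutator_mem_commutator hl hx))⟩) inf_le_left with h | h
  · exact h.le ((hmem e).2 ⟨he, hc⟩)
  · refine absurd ?_ hnab
    rintro _ ⟨x, hx, rfl⟩ y hy
    exact ((hmem x).1 (h.ge hx)).2 y hy

end

/-- A fixed element moved by the acting group gives a seen fixed element. -/
theorem core_start [G.Normal] (hS : Setting G s r n) {j : ℕ} (hj : j + 1 < n) {P : Subgroup Γ} (hP : T.SylPart s j P)
    {u : Γ} (hu : u ∈ ⁅T.X (j + 1), ⁅P, Subgroup.zpowers s⁆⁆ ⊔ T.L (j + 1)) (hus : u ∈ cfix G s)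
    (huL : u ∉ T.L (j + 1)) : ∃ y ∈ cfix G s ⊓ T.X (j + 1), T.Seen s (j + 1) y := by
  haveI := Fact.mk (T.prime (j + 1 + 1) hj)
  haveI := T.nX
  haveI := T.nL
  obtain ⟨S⟩ := exists_sectRep (q := T.q (j + 1 + 1)) (T.X (j + 1 + 1)) (T.L (j + 1 + 1)) (T.com _ hj) (T.pow _ hj)
  set φ := img (bcRep S) with hφ
  have hF := T.frame S hS hj
  have huX : u ∈ T.X (j + 1) :=
    (sup_le (Subgroup.commutator_le_left _ _) (T.hLX _ (by omega)) : _ ≤ T.X (j + 1)) hu
  by_contra hno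
  push Not at hno
  have hc := T.seen_or_central S hS hj hP hu hus (hno u ⟨hus, huX⟩)
  have huT : φ u ∈ ⁅(T.X (j + 1)).map φ, (⁅P, Subgroup.zpowers s⁆).map φ⁆ ⊔ (T.L (j + 1)).map φ := by
    rw [← Subgroup.map_commutator, ← Subgroup.map_sup]
    exact Subgroup.mem_map_of_mem _ hu
  obtain ⟨⟨y, hy, hys, hyb⟩, -⟩ := hF.not_bad_rad (T.acting S hS hj hP) huT ((mem_cfix.1 hus).2.symm.map φ) hc
    (fun h => huL ((T.img_mem_Z S hj huX).1 h))
  obtain ⟨a, ha, rfl⟩ := T.exists_lift S hS hj hy hys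
  refine hyb (T.bad_of_forall S hS hj fun w hw hwM => ?_)
  by_contra hn
  exact hno a ha ⟨w, hw, hwM, hn⟩

/-- A fixed element moved by a second element gives a seen commutator. -/
theorem core_step [G.Normal] (hS : Setting G s r n) {j : ℕ} (hj : j + 1 < n) {P : Subgroup Γ} (hP : T.SylPart s j P)
    {d : Γ} (hd : d ∈ cfix G s) (hdP : d ∈ Subgroup.normalizer (P : Set Γ))
    (hdc : ∀ c ∈ T.L j, c ∈ ⁅P, Subgroup.zpowers s⁆ → ⁅d, c⁆ ∈ T.K j)
    (halt : (∃ p i : ℕ, p.Prime ∧ p ≠ T.q j ∧ d ^ p ^ i = 1) ∨ d ∈ T.X j)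
    {w₀ : Γ} (hw : w₀ ∈ ⁅T.X (j + 1), ⁅P, Subgroup.zpowers s⁆⁆ ⊔ T.L (j + 1)) (hws : w₀ ∈ cfix G s)
    (hwd : ⁅w₀, d⁆ ∉ T.L (j + 1)) : ∃ w ∈ cfix G s ⊓ T.X (j + 1), T.Seen s (j + 1) ⁅w, d⁆ := by
  haveI := Fact.mk (T.prime (j + 1 + 1) hj)
  haveI := T.nX
  haveI := T.nL
  obtain ⟨S⟩ := exists_sectRep (q := T.q (j + 1 + 1)) (T.X (j + 1 + 1)) (T.L (j + 1 + 1)) (T.com _ hj) (T.pow _ hj)
  set φ := img (bcRep S) with hφ
  have hF := T.frame S hS hj
  set T0 := ⁅P, Subgroup.zpowers s⁆ with hT0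
  set M := ⁅T.X (j + 1), T0⁆ ⊔ T.L (j + 1) with hM
  have hMX : M ≤ T.X (j + 1) := sup_le (Subgroup.commutator_le_left _ _) (T.hLX _ (by omega))
  have hds : Commute d s := (mem_cfix.1 hd).2.symm
  have hdT : ∀ t ∈ T0, d * t * d⁻¹ ∈ T0 := fun t ht => conj_commutator_zpowers_mem hdP hds ht
  have hconj : d * w₀⁻¹ * d⁻¹ ∈ M := by
    have e : M.map (MulAut.conj d).toMonoidHom ≤ M := by
      rw [hM, Subgroup.map_sup, Subgroup.map_commutator]
      refine sup_le_sup (Subgroup.commutator_mono ?_ ?_) ?_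
      · exact (Cfsg.Lib.Coprime.conjMap_eq_self (by rw [Subgroup.normalizer_eq_top_iff.2 (T.nX _)]; trivial)).le
      · rintro _ ⟨t, ht, rfl⟩
        exact hdT t ht
      · exact (Cfsg.Lib.Coprime.conjMap_eq_self (by rw [Subgroup.normalizer_eq_top_iff.2 (T.nL _)]; trivial)).le
    exact e ⟨w₀⁻¹, inv_mem hw, rfl⟩
  have heM : ⁅w₀, d⁆ ∈ M := by
    rw [show ⁅w₀, d⁆ = w₀ * (d * w₀⁻¹ * d⁻¹) by simp only [commutatorElement_def]; group]
    exact mul_mem hw hconj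
  have hes : ⁅w₀, d⁆ ∈ cfix G s := by
    rw [commutatorElement_def]
    exact mul_mem (mul_mem (mul_mem hws hd) (inv_mem hws)) (inv_mem hd)
  by_contra hno
  push Not at hno
  have hc := T.seen_or_central S hS hj hP heM hes (hno w₀ ⟨hws, hMX hw⟩)
  by_cases hab : ∀ x ∈ (T.X (j + 1)).map φ, ∀ y ∈ (T.X (j + 1)).map φ, Commute x y
  swap
  · exact hwd (T.mem_L_of_central S hj hab (hMX heM) hc)
  have hwT : φ w₀ ∈ ⁅(T.X (j + 1)).map φ, T0.map φ⁆ ⊔ (T.L (j + 1)).map φ := by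
    rw [← Subgroup.map_commutator, ← Subgroup.map_sup]
    exact Subgroup.mem_map_of_mem _ hw
  have hwL : φ w₀ ∉ (T.L (j + 1)).map φ := fun h => hwd (by
    rw [show ⁅w₀, d⁆ = w₀ * (d * w₀⁻¹ * d⁻¹) by simp only [commutatorElement_def]; group]
    have hwL' := (T.img_mem_Z S hj (hMX hw)).1 h
    exact mul_mem hwL' ((T.nL _).conj_mem _ (inv_mem hwL') d))
  obtain ⟨-, h2⟩ := hF.not_bad_rad (T.acting S hS hj hP) hwT ((mem_cfix.1 hws).2.symm.map φ)
    (hab _ (Subgroup.mem_map_of_mem _ (hMX hw))) hwL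
  obtain ⟨y, hy, hys, hyb⟩ := h2 (φ d) (hds.map φ)
    (fun h => Tower.not_dvd_orderOf hS (mem_cfix.1 hd).1 (h.trans (orderOf_map_dvd φ d)))
    (by rintro _ ⟨t, ht, rfl⟩; exact ⟨_, hdT t ht, by rw [map_mul, map_mul, map_inv]⟩)
    (fun c hc hcs x hx => by
      obtain ⟨c', hc', hcL, rfl⟩ := T.exists_T_lift S hS hj hP hc hcs
      rw [← map_commutatorElement]
      exact T.img_comm_Z S hj (hdc c' hcL hc') hx)
    (by
      rcases halt with ⟨p, i, hp, hpq, hdp⟩ | hdX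
      · exact Or.inl ⟨p, i, hp, hpq, by rw [← map_pow, hdp, map_one]⟩
      · refine Or.inr ?_
        rintro _ ⟨b, hb, rfl⟩ _ ⟨t, ht, rfl⟩ x hx
        rw [← map_inv, ← map_inv, ← map_mul, ← map_mul, ← map_mul, ← map_commutatorElement]
        have hbX : b ∈ T.X j := hP.le (commutator_zpowers_le hP.inv hb)
        refine T.img_comm_Z S hj (T.cen j (by omega) (Subgroup.commutator_mem_commutator ?_
          (hP.le (commutator_zpowers_le hP.inv ht)))) hx
        rw [show b⁻¹ * d * b * d⁻¹ = ⁅b⁻¹, d⁆ by simp only [commutatorElement_def]; group]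
        exact T.com j (by omega) (Subgroup.commutator_mem_commutator (inv_mem hbX) hdX))
    (fun h => hwd ((T.img_mem_Z S hj (hMX heM)).1 (by rwa [map_commutatorElement])))
  obtain ⟨a, ha, rfl⟩ := T.exists_lift S hS hj hy hys
  refine hyb ?_
  rw [← map_commutatorElement]
  refine T.bad_of_forall S hS hj fun v hv hvM => ?_
  by_contra hn
  exact hno a ha ⟨v, hv, hvM, hn⟩

end Tower

end Cfsg.Lib.FitHeight
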