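import Cfsg.Agent.FitHeight.Minimal
import Cfsg.Agent.PGroups.Basic

/-!
Subgroups covering the levels of a tower, and the levels centralised by the automorphism.
-/

set_option autoImplicit false
set_option linter.unusedSectionVars false
set_option linter.style.haveILetI false
set_option linter.unusedVariables false

namespace Cfsg.Lib.FitHeight

open scoped commutatorElement

universe u

variable {Γ : Type u} [Group Γ] [Finite Γ] {G : Subgroup Γ} {n : ℕ}

/-- The top of every level is its derived section. -/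
def Tower.Lder (T : Tower G n) : Prop := ∀ i ≤ n, T.L i ≤ ⁅T.X i, T.X i⁆ ⊔ T.K i

/-- A subgroup covering the top of a `q`-section covers the section. -/
theorem le_sup_of_le_commutator_sup {X K H : Subgroup Γ} [K.Normal] {q : ℕ} (hq : q.Prime)
    (hp : ∀ x ∈ X, ∃ m, x ^ q ^ m ∈ K) (hH : H ≤ X) (h : X ≤ H ⊔ ⁅X, X⁆ ⊔ K) : X ≤ H ⊔ K := by
  haveI := Fact.mk hq
  set π := QuotientGroup.mk' K
  set Q := X.map π
  have hQ : IsPGroup q Q := by
    rintro ⟨_, x, hx, rfl⟩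
    obtain ⟨m, hm⟩ := hp x hx
    exact ⟨m, Subtype.ext (by rw [Subgroup.coe_pow, ← map_pow]; exact (QuotientGroup.eq_one_iff _).2 hm)⟩
  have hHQ : H.map π ≤ Q := Subgroup.map_mono hH
  have h1 : Q ≤ H.map π ⊔ ⁅Q, Q⁆ := by
    have := Subgroup.map_mono (f := π) h
    rwa [Subgroup.map_sup, Subgroup.map_sup, Subgroup.map_commutator,
      show K.map π = ⊥ from QuotientGroup.map_mk'_self K, sup_bot_eq] at this
  have h2 : (H.map π).subgroupOf Q ⊔ ⁅(⊤ : Subgroup Q), ⊤⁆ = ⊤ := by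
    refine eq_top_iff.2 fun y _ => ?_
    have hy := h1 y.2
    rw [show H.map π ⊔ ⁅Q, Q⁆ = ((H.map π).subgroupOf Q ⊔ ⁅(⊤ : Subgroup Q), ⊤⁆).map Q.subtype by
      rw [Subgroup.map_sup, Subgroup.map_subgroupOf_eq_of_le hHQ, Subgroup.map_commutator,
        ← MonoidHom.range_eq_map, Q.range_subtype]] at hy
    obtain ⟨z, hz, hzy⟩ := hy
    rwa [show y = z from Subtype.ext hzy.symm]
  have h3 : (H.map π).subgroupOf Q = ⊤ := frattini_nongenerating (top_le_iff.1
    (h2.ge.trans (sup_le_sup_left (Cfsg.Lib.PGroups.commutator_le_frattini hQ) _)))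
  intro x hx
  have h4 : π x ∈ H.map π := Subgroup.mem_subgroupOf.1
    (h3 ▸ Subgroup.mem_top (⟨π x, Subgroup.mem_map_of_mem π hx⟩ : Q))
  obtain ⟨y, hy, hyx⟩ := h4
  have h5 : y⁻¹ * x ∈ K := QuotientGroup.eq.1 hyx
  have := Subgroup.mul_mem_sup hy h5
  rwa [mul_inv_cancel_left] at this

theorem Tower.le_sup_K (T : Tower G n) (hl : T.Lder) {i : ℕ} (hi : i ≤ n) {H : Subgroup Γ} (hH : H ≤ T.X i)
    (h : T.X i ≤ H ⊔ T.L i) : T.X i ≤ H ⊔ T.K i := by
  haveI := T.nK
  refine le_sup_of_le_commutator_sup (T.prime i hi) (T.pgrp i hi) hH ?_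
  rw [sup_assoc]
  exact h.trans (sup_le_sup_left (hl i hi) _)

/-- A covering subgroup has residuals covering the higher levels. -/
theorem Tower.cover_R [G.Normal] (T : Tower G n) (hl : T.Lder) (H : Subgroup Γ) (t : ℕ) (ht : t ≤ n)
    (h : ∀ l ≤ t, T.X l ≤ (H ⊓ T.X l) ⊔ T.L l) :
    ∀ i l, i ≤ l → l ≤ t → T.X l ≤ (R i H ⊓ T.X l) ⊔ T.L l := by
  intro i
  induction i with
  | zero => intro l _ hlt; exact h l hlt
  | succ i ih =>
    intro l hil hlt
    obtain ⟨j, rfl⟩ : ∃ j, l = j + 1 := ⟨l - 1, by omega⟩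
    haveI := T.nX
    haveI := T.nL
    haveI := T.nK
    have hj : j + 1 ≤ n := hlt.trans ht
    set L := T.L (j + 1) with hL
    set M := (R (i + 1) H ⊓ T.X (j + 1)) ⊔ L with hM
    have hXj := T.le_sup_K hl (show j ≤ n by omega) inf_le_right (ih j (by omega) (by omega))
    have hXl := ih (j + 1) (by omega) hlt
    have hle : ⁅T.X (j + 1), T.X j⁆ ≤ M := by
      refine Subgroup.commutator_le.2 fun x hx y hy => ?_
      obtain ⟨x', hx', l', hl', rfl⟩ := Subgroup.mem_sup_of_normal_right.1 (hXl hx)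
      obtain ⟨y', hy', k', hk', rfl⟩ := Subgroup.mem_sup_of_normal_right.1 (hXj hy)
      have hpj := T.prime j (by omega)
      have hpl := T.prime (j + 1) hj
      obtain ⟨x'', hx'', ⟨e₁, he₁⟩, hxc⟩ := exists_qpart (T.K (j + 1)) x' hpl (T.pgrp _ hj x' hx'.2)
      obtain ⟨y'', hy'', ⟨e₂, he₂⟩, hyc⟩ := exists_qpart (T.K j) y' hpj (T.pgrp _ (by omega) y' hy'.2)
      have hc : ⁅x'', y''⁆ ∈ R (i + 1) H ⊓ T.X (j + 1) := ⟨commutator_mem_R_succ
        (Subgroup.zpowers_le.2 hx'.1 hx'') (Subgroup.zpowers_le.2 hy'.1 hy'')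
        ⟨_, _, e₁, e₂, hpl, hpj, (T.ne j hj).symm, he₁, he₂⟩,
        comm_symm_mem (T.comm_mem_X (j + 1) y'' (Subgroup.zpowers_le.2 hx'.2 hx''))⟩
      set π := QuotientGroup.mk' L with hπ
      have hKc : ∀ k ∈ T.K j, ∀ z ∈ T.X (j + 1), Commute (π k) (π z) := fun k hk z hz => by
        rw [← commutatorElement_eq_one_iff_commute, ← map_commutatorElement]
        rw [T.kdef j hj] at hk
        exact (QuotientGroup.eq_one_iff _).2 (mem_cgrp.1 hk.2 z hz)
      have e1 : π (x' * l') = π x'' := by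
        rw [map_mul, show π l' = 1 from (QuotientGroup.eq_one_iff l').2 hl', mul_one]
        exact (QuotientGroup.eq.2 (T.hKL _ hj hxc) : (QuotientGroup.mk x' : Γ ⧸ L) = QuotientGroup.mk x'')
      obtain ⟨k₂, hk₂, hk₂e⟩ : ∃ k₂ ∈ T.K j, y' * k' = y'' * k₂ :=
        ⟨(y'⁻¹ * y'')⁻¹ * k', mul_mem (inv_mem hyc) hk', by group⟩
      have hx''X : x'' ∈ T.X (j + 1) := Subgroup.zpowers_le.2 hx'.2 hx''
      have e2 : π ⁅x' * l', y' * k'⁆ = π ⁅x'', y''⁆ := by
        rw [map_commutatorElement, e1, hk₂e, map_mul, map_commutatorElement]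
        have hc2 := (hKc k₂ hk₂ x'' hx''X).symm
        calc ⁅π x'', π y'' * π k₂⁆ = ⁅π x'', π y''⁆ * (π y'' * ⁅π x'', π k₂⁆ * (π y'')⁻¹) := by
              simp only [commutatorElement_def]; group
          _ = _ := by rw [commutatorElement_eq_one_iff_commute.2 hc2, mul_one, mul_inv_cancel, mul_one]
      have e3 : ⁅x'', y''⁆⁻¹ * ⁅x' * l', y' * k'⁆ ∈ L :=
        QuotientGroup.eq.1 (e2.symm : (QuotientGroup.mk _ : Γ ⧸ L) = QuotientGroup.mk _)
      have := Subgroup.mul_mem_sup hc e3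
      rwa [mul_inv_cancel_left] at this
    rcases T.irr (j + 1) hj (⁅T.X (j + 1), T.X j⁆ ⊔ L) inferInstance le_sup_right
      (sup_le (Subgroup.commutator_le_left _ _) (T.hLX _ hj)) with hY | hY
    · exfalso
      refine T.hne j (by omega) (le_trans ?_ (T.hKL j (by omega)))
      rw [T.kdef j hj]
      refine le_inf le_rfl fun y hy => mem_cgrp.2 fun x hx => comm_symm_mem ?_
      exact hY.le (Subgroup.mem_sup_left (Subgroup.commutator_mem_commutator hx hy))
    · exact hY.ge.trans (sup_le hle le_sup_right)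

theorem Tower.not_R_le_cgrp [G.Normal] (T : Tower G n) (hl : T.Lder) {H : Subgroup Γ} {j : ℕ} (hj : j < n)
    (h : ∀ l ≤ j, T.X l ≤ (H ⊓ T.X l) ⊔ T.L l) :
    ¬ R j H ≤ cgrp (h := T.nL (j + 1)) (T.X (j + 1)) (T.L (j + 1)) := by
  intro hle
  haveI := T.nX
  haveI := T.nL
  have h1 := T.cover_R hl H j hj.le h j j le_rfl le_rfl
  have h2 := T.le_sup_K hl hj.le inf_le_right h1
  refine T.hne j hj.le ((h2.trans (sup_le ?_ le_rfl)).trans (T.hKL j hj.le))
  rw [T.kdef j hj]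
  exact le_inf inf_le_right (inf_le_left.trans hle)

theorem Tower.R_ne_bot [G.Normal] (T : Tower G n) (hl : T.Lder) {H : Subgroup Γ} {j : ℕ} (hj : j ≤ n)
    (h : ∀ l ≤ j, T.X l ≤ (H ⊓ T.X l) ⊔ T.L l) : R j H ≠ ⊥ := fun hb => T.hne j hj (by
  have := T.cover_R hl H j hj h j j le_rfl le_rfl
  rwa [hb, bot_inf_eq, bot_sup_eq] at this)

/-- The fixed points. -/
def cfix (G : Subgroup Γ) (s : Γ) : Subgroup Γ := G ⊓ Subgroup.centralizer {s}

theorem mem_cfix {G : Subgroup Γ} {s g : Γ} : g ∈ cfix G s ↔ g ∈ G ∧ Commute s g := by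
  simp [cfix, Subgroup.mem_centralizer_iff, Commute, SemiconjBy]

/-- The standing hypotheses on the automorphism. -/
structure Setting (G : Subgroup Γ) (s : Γ) (r n : ℕ) : Prop where
  hr : r.Prime
  hs : s ^ r = 1
  hcop : ¬ r ∣ Nat.card G
  htop : G ⊔ Subgroup.zpowers s = ⊤
  hsol : Group.IsSolvable G
  hmin : MinHyp G s n

variable {s : Γ} {r : ℕ}

theorem Setting.lder [G.Normal] (hS : Setting G s r n) (T : Tower G n) : T.Lder :=
  T.lder hS.hsol hS.hr hS.hs hS.hcop hS.htop hS.hmin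

theorem Setting.not_dvd (hS : Setting G s r n) {U : Subgroup Γ} (hU : U ≤ G) : ¬ r ∣ Nat.card U :=
  fun h => hS.hcop (h.trans (Subgroup.card_dvd_of_le hU))

/-- A level centralised by `s`. -/
def Tower.FixedAt (T : Tower G n) (s : Γ) (l : ℕ) : Prop := ∀ x ∈ T.X l, ⁅s, x⁆ ∈ T.L l

theorem Tower.cover_of_fixedAt [G.Normal] (T : Tower G n) (hS : Setting G s r n) {l : ℕ} (hl : l ≤ n)
    (h : T.FixedAt s l) : T.X l ≤ (cfix G s ⊓ T.X l) ⊔ T.L l := by
  haveI := T.nL
  haveI := Fact.mk hS.hr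
  intro x hx
  have hLG : T.L l ≤ G := ((T.hLX l hl).trans (T.hXR l hl)).trans (R_le l G)
  have h3 : x⁻¹ * ⁅s, x⁆ * x⁻¹⁻¹ ∈ T.L l := (T.nL l).conj_mem _ (h x hx) x⁻¹
  have h4 : x⁻¹ * s * x * s⁻¹ ∈ T.L l := by
    convert h3 using 1
    simp only [commutatorElement_def]; group
  obtain ⟨u, hu, huc⟩ := exists_fixed_coset (T.L l) (g := s) (p := r) (n := 1) (by rw [pow_one]; exact hS.hs)
    (hS.not_dvd hLG) (fun u hu => (T.nL l).conj_mem u hu s) h4
  have hxu : x * u ∈ T.X l := mul_mem hx (T.hLX l hl hu)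
  have := Subgroup.mul_mem_sup (show x * u ∈ cfix G s ⊓ T.X l from
    ⟨mem_cfix.2 ⟨R_le l G (T.hXR l hl hxu), huc⟩, hxu⟩) (inv_mem hu)
  rwa [mul_inv_cancel_right] at this

/-- The levels from `k` upwards. -/
def Tower.upper (T : Tower G n) (k : ℕ) : Subgroup Γ := ⨆ l ∈ Finset.Icc k n, T.X l

theorem Tower.le_upper (T : Tower G n) {k l : ℕ} (h1 : k ≤ l) (h2 : l ≤ n) : T.X l ≤ T.upper k :=
  le_iSup₂_of_le l (Finset.mem_Icc.2 ⟨h1, h2⟩) le_rfl

theorem Tower.upper_le_cgrp [G.Normal] (T : Tower G n) {k : ℕ} (hk : k ≤ n) :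
    T.upper k ≤ cgrp (h := T.nL k) (T.X k) (T.L k) := by
  refine iSup₂_le fun l hl => ?_
  obtain ⟨h1, h2⟩ := Finset.mem_Icc.1 hl
  exact ((T.hXR l h2).trans (R_antitone G h1)).trans (T.Rcen k hk)

/-- In a minimal group the fixed points and the upper levels generate. -/
theorem Tower.generate [G.Normal] (T : Tower G n) (hS : Setting G s r n) {k : ℕ}
    (hfix : ∀ l < k, l ≤ n → T.FixedAt s l) : T.upper k ⊔ cfix G s = G := by
  haveI : (T.upper k).Normal := Subgroup.biSup_normal _ _ fun l _ => T.nX l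
  refine hS.hmin _ (sup_le (iSup₂_le fun l hl => (T.hXR l (Finset.mem_Icc.1 hl).2).trans (R_le l G)) inf_le_left) ?_ ?_
  · intro h hh
    obtain ⟨y, hy, z, hz, rfl⟩ := Subgroup.mem_sup_of_normal_left.1 hh
    rw [show s * (y * z) * s⁻¹ = (s * y * s⁻¹) * (s * z * s⁻¹) by group]
    refine Subgroup.mul_mem_sup ((inferInstance : (T.upper k).Normal).conj_mem y hy s) ?_
    rw [(mem_cfix.1 hz).2.eq, mul_inv_cancel_right]
    exact hz
  · refine T.R_ne_bot (hS.lder T) le_rfl fun l hl => ?_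
    by_cases hlk : l < k
    · exact (T.cover_of_fixedAt hS hl (hfix l hlk hl)).trans
        (sup_le_sup_right (inf_le_inf_right _ le_sup_right) _)
    · exact le_sup_of_le_left (le_inf (le_sup_of_le_left (T.le_upper (by omega) hl)) le_rfl)

/-- A subgroup normalised by the upper levels, the fixed points and `s` is normal. -/
theorem Tower.normal_of_invariant [G.Normal] (T : Tower G n) (hS : Setting G s r n) {k : ℕ}
    (hfix : ∀ l < k, l ≤ n → T.FixedAt s l) (Y : Subgroup Γ)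
    (h1 : T.upper k ≤ Subgroup.normalizer (Y : Set Γ)) (h2 : cfix G s ≤ Subgroup.normalizer (Y : Set Γ))
    (h3 : s ∈ Subgroup.normalizer (Y : Set Γ)) : Y.Normal := by
  rw [← Subgroup.normalizer_eq_top_iff, eq_top_iff, ← hS.htop]
  refine sup_le ?_ (Subgroup.zpowers_le.2 h3)
  rw [← T.generate hS hfix]
  exact sup_le h1 h2

end Cfsg.Lib.FitHeight
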