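import Cfsg.Agent.FitHeight.Exceptional

/-!
The counting dichotomy: an element fixing the fixed vectors acts on the classes as `±1`.
-/

set_option autoImplicit false
set_option linter.unusedSectionVars false
set_option linter.style.haveILetI false
set_option linter.unusedVariables false
set_option linter.unusedSimpArgs false

namespace Cfsg.Lib.FitHeight

open Module Cfsg.Lib.HallHigman

universe u v w

variable {F : Type u} [Field F] {V : Type v} [AddCommGroup V] [Module F V] {H : Type w} [Group H]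
  {ρ : H →* Module.End F V} {T : Subgroup H} [Finite H] {s : H} {r : ℕ}

theorem conjQ_pow {g : H} (hg : Nrm T g) : ∀ n : ℕ, conjQ ρ T hg ^ n = conjQ ρ T (nrm_pow hg n) := fun n =>
  (map_pow (conjHom ρ T) ⟨g, hg⟩ n).symm

theorem conjQ_mul {g h : H} (hg : Nrm T g) (hh : Nrm T h) :
    conjQ ρ T (nrm_mul hg hh) = conjQ ρ T hg * conjQ ρ T hh :=
  map_mul (conjHom ρ T) ⟨g, hg⟩ ⟨h, hh⟩

theorem conjQ_eq_one {g : H} (hg : Nrm T g) (h1 : g = 1) : conjQ ρ T hg = 1 := by
  subst h1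
  exact map_one (conjHom ρ T)

theorem conjQ_commute {g h : H} (hg : Nrm T g) (hh : Nrm T h) (hc : Commute g h) :
    Commute (conjQ ρ T hg) (conjQ ρ T hh) := by
  have : Commute (⟨g, hg⟩ : nrmSub T) ⟨h, hh⟩ := Subtype.ext hc.eq
  exact this.map (conjHom ρ T)

theorem fixQ_le {π : Equiv.Perm (T ⧸ zed ρ T)} (h : π ≠ 1) : fixQ ρ T π + 1 ≤ Nat.card (T ⧸ zed ρ T) := by
  classical
  haveI := Fintype.ofFinite (T ⧸ zed ρ T)
  obtain ⟨x, hx⟩ : ∃ x, π x ≠ x := by
    by_contra hc
    push Not at hc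
    exact h (Equiv.ext hc)
  rw [fixQ, Nat.card_eq_fintype_card, Nat.card_eq_fintype_card]
  exact Fintype.card_subtype_lt (x := x) hx

/-- An invariant set of classes containing the trivial one has size `1` modulo `r`. -/
theorem Triple.card_mod (h : Triple ρ T s r) (P : T ⧸ zed ρ T → Prop) (hP1 : P (QuotientGroup.mk 1))
    (hPs : ∀ x, P x → P (conjQ ρ T h.hsT x)) : Nat.card {x // P x} % r = 1 := by
  classical
  haveI : Fact r.Prime := ⟨h.hr⟩
  set π := conjQ ρ T h.hsT
  let σ : {x // P x} → {x // P x} := fun x => ⟨π x, hPs x x.2⟩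
  have hσ : Function.Bijective σ := Finite.injective_iff_bijective.1 fun a b hab =>
    Subtype.ext (π.injective (congrArg Subtype.val hab))
  let e : Equiv.Perm {x // P x} := Equiv.ofBijective σ hσ
  have he : ∀ (n : ℕ) x, ((e ^ n) x : T ⧸ zed ρ T) = (π ^ n) x := by
    intro n
    induction n with
    | zero => intro x; rfl
    | succ n ih => intro x; rw [pow_succ', Equiv.Perm.mul_apply, pow_succ', Equiv.Perm.mul_apply, ← ih]; rfl
  have her : e ^ r = 1 := by
    refine Equiv.ext fun x => Subtype.ext ?_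
    rw [he, conjQ_pow, conjQ_eq_one _ h.hs]
    rfl
  have hp : IsPGroup r (Subgroup.zpowers e) := isPGroup_zpowers (n := 1) (by rwa [pow_one])
  have h1 := hp.card_modEq_card_fixedPoints {x // P x}
  have h2 : Nat.card (MulAction.fixedPoints (Subgroup.zpowers e) {x // P x}) = 1 := by
    rw [Nat.card_eq_one_iff_unique]
    refine ⟨⟨fun a b => Subtype.ext (Subtype.ext ?_)⟩, ⟨⟨⟨_, hP1⟩, ?_⟩⟩⟩
    · have key : ∀ c : MulAction.fixedPoints (Subgroup.zpowers e) {x // P x},
          (c.1.1) = QuotientGroup.mk 1 := fun c => h.fix_s _ (congrArg Subtype.val (c.2 ⟨e, Subgroup.mem_zpowers e⟩))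
      rw [key a, key b]
    · rintro ⟨g, hg⟩
      obtain ⟨n, rfl⟩ := Subgroup.mem_zpowers_iff.1 hg
      exact Equiv.Perm.zpow_apply_eq_self_of_apply_eq_self (Subtype.ext (conjQ_one h.hsT)) n
  rw [Nat.ModEq, h2, Nat.one_mod_eq_one.2 h.hr.ne_one] at h1
  exact h1

theorem sq_mod_cases {r D : ℕ} (hr : r.Prime) (h : D * D % r = 1) : r ∣ D + 1 ∨ r ∣ D - 1 := by
  have hpos : 0 < D := Nat.pos_of_ne_zero fun h0 => by simp [h0] at h
  refine hr.dvd_mul.1 ?_
  have e : (D + 1) * (D - 1) = D * D - 1 := by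
    obtain ⟨D', rfl⟩ := Nat.exists_eq_add_of_le hpos
    simp only [Nat.succ_eq_add_one, Nat.zero_add, Nat.add_sub_cancel_left]
    ring_nf
    omega
  rw [e]
  refine ⟨D * D / r, ?_⟩
  have := Nat.mod_add_div (D * D) r
  omega

theorem nrm_one : Nrm T (1 : H) := fun t ht => by simpa using ht

variable [FiniteDimensional F V] [Nontrivial V] [IsAlgClosed F]
  (hirr : ∀ W : Submodule F V, (∀ t ∈ T, ∀ x ∈ W, ρ t x ∈ W) → W = ⊥ ∨ W = ⊤)
include hirr

/-- The orbit bound for `s d`. -/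
theorem Triple.orbit_bound (h : Triple ρ T s r) {d : H} (hd : Nrm T d) (hds : Commute d s) {k N₀ : ℕ}
    (hk : ¬ r ∣ k) (hdk : conjQ ρ T hd ^ k = 1)
    (hN₀ : ∀ j, ¬ k ∣ j → fixQ ρ T (conjQ ρ T hd ^ j) ≤ N₀) :
    r * k * finrank F (endCentralizer (ρ (s * d))) ≤
      finrank F V * finrank F V + (k - 1) * N₀ + (r - 1) * k := by
  classical
  obtain ⟨hN, hB⟩ := card_classes h.scal h.hTF hirr
  have hkpos : 0 < k := Nat.pos_of_ne_zero fun h0 => hk (h0 ▸ dvd_zero r)
  set a := conjQ ρ T h.hsT with ha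
  set b := conjQ ρ T hd with hb
  have hab : Commute a b := conjQ_commute h.hsT hd hds.symm
  have har : a ^ r = 1 := by rw [ha, conjQ_pow, conjQ_eq_one _ h.hs]
  have hgT := nrm_mul h.hsT hd
  have hπ : conjQ ρ T hgT = a * b := conjQ_mul h.hsT hd
  haveI : NeZero (r * k) := ⟨Nat.mul_ne_zero h.hr.ne_zero hkpos.ne'⟩
  have hM : (a * b) ^ (r * k) = 1 := by
    rw [hab.mul_pow, pow_mul, har, one_pow, one_mul, mul_comm r, pow_mul, hdk, one_pow]
  have hb1 := cent_le h.scal (zed_scalar hirr) h.hTF hgT (a * b)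
    (fun t => by rw [← hπ, conjQ_mk]) hM
  rw [hB, one_mul] at hb1
  refine hb1.trans ?_
  have hone : ∀ j : ℕ, ((a * b) ^ j) (QuotientGroup.mk 1) = QuotientGroup.mk 1 := fun j =>
    Equiv.Perm.pow_apply_eq_self_of_apply_eq_self (hπ ▸ conjQ_one hgT) j
  have hfix1 : ∀ j, ¬ r ∣ j → fixQ ρ T ((a * b) ^ j) = 1 := by
    intro j hj
    obtain ⟨e, -, he⟩ := Nat.exists_mul_mod_eq_one_of_coprime (n := j * k)
      ((h.hr.coprime_iff_not_dvd.2 fun hd' => (h.hr.dvd_mul.1 hd').elim hj hk).symm) h.hr.one_lt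
    refine fixQ_eq_one h _ (k * e) (hone j) ?_
    rw [← pow_mul, ← mul_assoc, hab.mul_pow, show j * k * e = j * e * k by ring, pow_mul b, pow_right_comm,
      hdk, one_pow, mul_one, show j * e * k = j * k * e by ring, ← Nat.mod_add_div (j * k * e) r, pow_add,
      pow_mul a r, har, one_pow, mul_one, he, pow_one]
  rw [← Finset.sum_filter_add_sum_filter_not (Finset.range (r * k)) (fun j => r ∣ j)]
  have e1 : (Finset.range (r * k)).filter (fun j => r ∣ j) = (Finset.range k).image (r * ·) := by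
    ext j
    simp only [Finset.mem_filter, Finset.mem_range, Finset.mem_image]
    constructor
    · rintro ⟨hj, i, rfl⟩
      exact ⟨i, Nat.lt_of_mul_lt_mul_left hj, rfl⟩
    · rintro ⟨i, hi, rfl⟩
      exact ⟨(Nat.mul_lt_mul_left h.hr.pos).2 hi, dvd_mul_right r i⟩
  have e2 : ∑ j ∈ (Finset.range (r * k)).filter (fun j => r ∣ j), fixQ ρ T ((a * b) ^ j) ≤
      finrank F V * finrank F V + (k - 1) * N₀ := by
    rw [e1, Finset.sum_image fun x _ y _ hxy => Nat.eq_of_mul_eq_mul_left h.hr.pos hxy,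
      ← Finset.sum_erase_add _ _ (Finset.mem_range.2 hkpos), add_comm]
    refine Nat.add_le_add ?_ ?_
    · rw [mul_zero, pow_zero, ← hN, fixQ]
      exact Nat.card_le_card_of_injective _ Subtype.val_injective
    · refine (Finset.sum_le_card_nsmul _ _ N₀ fun i hi => ?_).trans_eq (by simp [Finset.card_erase_of_mem, hkpos])
      obtain ⟨hi0, hik⟩ := Finset.mem_erase.1 hi
      have hik' := Finset.mem_range.1 hik
      rw [hab.mul_pow, pow_mul a, har, one_pow, one_mul]
      exact hN₀ _ fun hdvd => hi0 (Nat.eq_zero_of_dvd_of_lt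
        (((h.hr.coprime_iff_not_dvd.2 hk).symm).dvd_of_dvd_mul_left hdvd) hik')
  have e3 : ∑ j ∈ (Finset.range (r * k)).filter (fun j => ¬ r ∣ j), fixQ ρ T ((a * b) ^ j) = (r - 1) * k := by
    rw [Finset.sum_congr rfl fun j hj => hfix1 j (Finset.mem_filter.1 hj).2, ← Finset.card_eq_sum_ones]
    have := Finset.card_filter_add_card_filter_not (s := Finset.range (r * k)) (fun j => r ∣ j)
    rw [e1, Finset.card_image_of_injective _ fun x y hxy => Nat.eq_of_mul_eq_mul_left h.hr.pos hxy,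
      Finset.card_range, Finset.card_range] at this
    rw [Nat.sub_mul, one_mul]
    omega
  exact Nat.add_le_add e2 e3.le

/-- A normalising element trivial on the classes is scalar. -/
theorem Triple.scalar_of_trivial (h : Triple ρ T s r) {e : H} (he : Nrm T e) (hes : Commute e s)
    (h1 : conjQ ρ T he = 1) : ∃ k : F, ρ e = k • 1 := by
  classical
  have hex : ∀ t : T, ∃ c : Fˣ, ρ (e * t * e⁻¹) = (c : F) • ρ (t : H) := by
    intro t
    have h2 := conjQ_mk ρ T he t
    rw [h1, Equiv.Perm.one_apply, QuotientGroup.eq] at h2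
    obtain ⟨k, hk⟩ := zed_scalar hirr _ h2
    have hk0 : k ≠ 0 := fun h0 => rho_ne_zero (ρ := ρ) _ (by rw [hk, h0, zero_smul])
    refine ⟨Units.mk0 k hk0, ?_⟩
    rw [Units.val_mk0, show e * (t : H) * e⁻¹ = (t : H) * ((t : H)⁻¹ * (e * t * e⁻¹)) by group, map_mul]
    rw [show ρ ((t : H)⁻¹ * (e * t * e⁻¹)) = k • 1 from hk, mul_smul_one]
  choose χ0 hχ using hex
  let χ : T →* Fˣ := MonoidHom.mk' χ0 fun a b => smul_rho_inj (ρ := ρ) (x := (a : H) * b) (by
    have := hχ (a * b)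
    rw [Subgroup.coe_mul, show e * ((a : H) * b) * e⁻¹ = (e * a * e⁻¹) * (e * b * e⁻¹) by group, map_mul, hχ a,
      hχ b, smul_mul_smul, ← map_mul] at this
    rw [← this, Units.val_mul])
  obtain ⟨q, hq⟩ := card_char_le h.scal h.hTF χ fun z hz => smul_rho_inj (ρ := ρ) (x := (z : H)) (by
    obtain ⟨k, hk⟩ := zed_scalar hirr z hz
    rw [Units.val_one, one_smul]
    change (χ0 z : F) • _ = _
    rw [← hχ z, show e * (z : H) * e⁻¹ = e * ((z : H) * e⁻¹) by group, map_mul, map_mul ρ (z : H), hk,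
      smul_one_mul, mul_smul_comm, ← map_mul, mul_inv_cancel, map_one])
  obtain ⟨k, hk⟩ := schur hirr (f := ρ ((q : H) * e)) fun t => by
    rw [← map_mul, ← map_mul, show (q : H) * e * t = q * ((e * t * e⁻¹) * e) by group, map_mul, map_mul ρ _ e,
      hχ t, smul_mul_assoc, mul_smul_comm, ← map_mul, ← map_mul, ← mul_assoc (q : H), ← mul_assoc (t : H),
      map_mul ρ _ e, ← smul_mul_assoc, show χ0 t = beta h.scal t q from (hq t).symm, ← beta_spec, ← map_mul]
  have hk0 : k ≠ 0 := fun h0 => rho_ne_zero (ρ := ρ) _ (by rw [hk, h0, zero_smul])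
  have he2 : ρ e = k • ρ (q : H)⁻¹ := by
    rw [← mul_smul_one, ← hk, ← map_mul, inv_mul_cancel_left]
  have hqs : ρ (s * (q : H)⁻¹) = ρ ((q : H)⁻¹ * s) := by
    refine smul_right_injective (Module.End F V) hk0 ?_
    change k • ρ (s * (q : H)⁻¹) = k • ρ ((q : H)⁻¹ * s)
    rw [map_mul, map_mul, ← mul_smul_comm, ← smul_mul_assoc, ← he2, ← map_mul, ← map_mul, hes.eq]
  obtain ⟨c, hc⟩ := h.fix _ (inv_mem q.2) hqs
  exact ⟨k * c, by rw [he2, hc, smul_smul]⟩

/-- The main counting inequality. -/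
theorem Triple.main_ineq (h : Triple ρ T s r) {d : H} (hd : Nrm T d) (hds : Commute d s) {k N₀ : ℕ}
    (hk : ¬ r ∣ k) (hdk : conjQ ρ T hd ^ k = 1) (hdk' : ρ (d ^ k) = 1)
    (hN₀ : ∀ j, ¬ k ∣ j → fixQ ρ T (conjQ ρ T hd ^ j) ≤ N₀)
    (hfix : ∀ v : V, ρ s v = v → ρ d v = v) :
    ∃ C S : ℕ, C = finrank F (LinearMap.ker (ρ s - 1)) ∧ C + S = finrank F V ∧
      r * k * (r - 1) * (C * C) + r * (S * S) ≤
        (r - 1) * (finrank F V * finrank F V + (k - 1) * N₀ + (r - 1) * k) := by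
  obtain ⟨S, c, hCS, hSc, hc⟩ := cent_lower (ρ := ρ) h.hr h.hs h.hrF hds hk hdk' hfix
  refine ⟨_, S, rfl, hCS, ?_⟩
  have hb := h.orbit_bound hirr hd hds hk hdk hN₀
  set C := finrank F (LinearMap.ker (ρ s - 1))
  calc r * k * (r - 1) * (C * C) + r * (S * S) ≤ r * k * (r - 1) * (C * C) + r * (k * (r - 1) * c) :=
        Nat.add_le_add_left (Nat.mul_le_mul_left r hSc) _
    _ = (r - 1) * (r * k * (C * C + c)) := by ring
    _ ≤ _ := Nat.mul_le_mul_left _ ((Nat.mul_le_mul_left (r * k) hc).trans hb)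

/-- The basic facts on the dimension. -/
theorem Triple.dim_facts (h : Triple ρ T s r) {q : ℕ} [Fact q.Prime] (hq : IsPGroup q T) (hN : zed ρ T ≠ ⊤) :
    finrank F V * finrank F V % r = 1 ∧ (∃ m, finrank F V = q ^ m) ∧ 2 ≤ finrank F V := by
  obtain ⟨hN', -⟩ := card_classes h.scal h.hTF hirr
  refine ⟨?_, ?_, ?_⟩
  · rw [← hN', ← Nat.card_congr (Equiv.subtypeUnivEquiv (p := fun _ : T ⧸ zed ρ T => True) fun _ => trivial)]
    exact h.card_mod _ trivial fun _ _ => trivial
  · obtain ⟨n, hn⟩ := IsPGroup.iff_card.1 hq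
    have hdvd : finrank F V ∣ q ^ n := (dvd_mul_right _ _).trans (hN' ▸ hn ▸ Subgroup.card_quotient_dvd_card _)
    obtain ⟨m, -, hm⟩ := (Nat.dvd_prime_pow (Fact.out : q.Prime)).1 hdvd
    exact ⟨m, hm⟩
  · by_contra hlt
    have h1 : finrank F V = 1 := by have := Module.finrank_pos (R := F) (M := V); omega
    rw [h1] at hN'
    exact hN (Subgroup.index_eq_one.1 hN')

/-- Without fixed vectors the dimension is `r - 1` and normalising elements act trivially. -/
theorem Triple.no_fixed (h : Triple ρ T s r) {q : ℕ} [Fact q.Prime] (hq : IsPGroup q T) (hN : zed ρ T ≠ ⊤)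
    (hC : ∀ v : V, ρ s v = v → v = 0) :
    finrank F V + 1 = r ∧ ∀ (d : H) (hd : Nrm T d), Commute d s → ¬ r ∣ orderOf d → conjQ ρ T hd = 1 := by
  obtain ⟨hmod, -, hD2⟩ := h.dim_facts hirr hq hN
  have hC0 : finrank F (LinearMap.ker (ρ s - 1)) = 0 := by
    rw [Submodule.finrank_eq_zero, LinearMap.ker_eq_bot']
    intro v hv
    exact hC v (sub_eq_zero.1 hv)
  obtain ⟨C, S, hCdef, hCS, hineq⟩ := h.main_ineq hirr (d := 1) nrm_one
    (Commute.one_left s) (k := 1) (N₀ := 0) (by simpa using h.hr.ne_one)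
    (by rw [pow_one, conjQ_eq_one _ rfl]) (by simp) (fun j hj => absurd (one_dvd j) hj) (fun v _ => by simp)
  rw [hC0] at hCdef
  subst hCdef
  have hr2 := h.hr.two_le
  set D := finrank F V with hD
  have hD : D + 1 = r := by
    have hle : D ≤ r - 1 := by
      obtain ⟨R, rfl⟩ := Nat.exists_eq_add_of_le h.hr.one_le
      simp only [Nat.zero_add] at hCS
      subst hCS
      simp only [Nat.mul_zero, Nat.zero_mul, Nat.add_zero, Nat.zero_add, Nat.sub_self,
        Nat.add_sub_cancel_left, Nat.mul_one] at hineq ⊢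
      by_contra hlt
      push Not at hlt
      nlinarith
    rcases sq_mod_cases h.hr hmod with h1 | h1
    · have := Nat.le_of_dvd (by omega) h1; omega
    · have := Nat.le_of_dvd (by omega) h1; omega
  refine ⟨hD, fun d hd hds hdr => ?_⟩
  by_contra hne
  set π := conjQ ρ T hd
  set o := orderOf π
  have ho : 2 ≤ o := by
    have h0 : 0 < o := orderOf_pos π
    have h1 : o ≠ 1 := fun h1 => hne (orderOf_eq_one_iff.1 h1)
    omega
  have hro : ¬ r ∣ o := fun hdvd => hdr (hdvd.trans (orderOf_map_dvd (conjHom ρ T) ⟨d, hd⟩ |>.trans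
    (dvd_of_eq (Subgroup.orderOf_coe (⟨d, hd⟩ : nrmSub T)).symm)))
  obtain ⟨hN', -⟩ := card_classes h.scal h.hTF hirr
  have hb := h.orbit_bound hirr hd hds (k := o) (N₀ := D * D - 1) hro (pow_orderOf_eq_one π) fun j hj => by
    have := fixQ_le (π := π ^ j) fun h1 => hj (orderOf_dvd_of_pow_eq_one h1)
    rw [hN'] at this
    exact Nat.le_sub_one_of_lt this
  have hc := finrank_le_cent (ρ (s * d))
  have h2 : r * o * D ≤ D * D + (o - 1) * (D * D - 1) + (r - 1) * o :=
    (Nat.mul_le_mul_left _ hc).trans hb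
  obtain ⟨o', ho'⟩ := Nat.exists_eq_add_of_le ho
  have hDD : 1 ≤ D * D := Nat.mul_pos (by omega) (by omega)
  obtain ⟨E, hE⟩ := Nat.exists_eq_add_of_le hDD
  rw [← hD, ho', hE] at h2
  simp only [Nat.add_sub_cancel_left, Nat.add_sub_cancel, show 2 + o' - 1 = o' + 1 by omega] at h2
  nlinarith

end Cfsg.Lib.FitHeight
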