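import Cfsg.Agent.FitHeight.Fpf
import Cfsg.Agent.FitHeight.CentCount

/-!
Representations in which an automorphism of prime order fixes few vectors.
-/

set_option autoImplicit false
set_option linter.unusedSectionVars false
set_option linter.style.haveILetI false
set_option linter.unusedVariables false
set_option linter.unusedSimpArgs false

namespace Cfsg.Lib.FitHeight

open Module Cfsg.Lib.HallHigman

universe u v w

variable {F : Type u} [Field F] {V : Type v} [AddCommGroup V] [Module F V] {H : Type w} [Group H]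
  (ρ : H →* Module.End F V) (T : Subgroup H)

/-- `g` maps `T` into itself. -/
def Nrm (g : H) : Prop := ∀ t ∈ T, g * t * g⁻¹ ∈ T

theorem nrm_mul {T : Subgroup H} {g h : H} (hg : Nrm T g) (hh : Nrm T h) : Nrm T (g * h) := fun t ht => by
  have := hg _ (hh t ht)
  simpa [mul_assoc] using this

theorem nrm_pow {T : Subgroup H} {g : H} (hg : Nrm T g) : ∀ n : ℕ, Nrm T (g ^ n)
  | 0 => fun t ht => by simpa using ht
  | n + 1 => by rw [pow_succ]; exact nrm_mul (nrm_pow hg n) hg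

theorem nrm_inv [Finite H] {T : Subgroup H} {g : H} (hg : Nrm T g) : Nrm T g⁻¹ := by
  rw [← show g ^ (orderOf g - 1) = g⁻¹ by
    rw [eq_inv_iff_mul_eq_one, ← pow_succ, Nat.sub_add_cancel (orderOf_pos g), pow_orderOf_eq_one]]
  exact nrm_pow hg _

theorem conj_zed [Finite H] {g : H} (hg : Nrm T g) {z : T} (hz : z ∈ zed ρ T) :
    (⟨g * z * g⁻¹, hg z z.2⟩ : T) ∈ zed ρ T := fun a => by
  have h := hz ⟨g⁻¹ * a * g, by simpa using nrm_inv hg a a.2⟩
  have h2 := congrArg (fun f => ρ g * f * ρ g⁻¹) h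
  simp only [← map_mul] at h2
  simpa [mul_assoc] using h2

variable [Finite H]

/-- Conjugation on the classes. -/
noncomputable def conjQ {g : H} (hg : Nrm T g) : Equiv.Perm (T ⧸ zed ρ T) :=
  Equiv.ofBijective
    (Quotient.map' (fun t : T => (⟨g * t * g⁻¹, hg t t.2⟩ : T)) fun a b hab => by
      rw [QuotientGroup.leftRel_apply] at hab ⊢
      convert conj_zed ρ T hg hab using 1
      exact Subtype.ext (by simp [mul_assoc]))
    (Finite.surjective_iff_bijective.1 fun x => by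
      obtain ⟨b, rfl⟩ := QuotientGroup.mk_surjective x
      refine ⟨QuotientGroup.mk ⟨g⁻¹ * b * g, by simpa using nrm_inv hg b b.2⟩, ?_⟩
      exact congrArg QuotientGroup.mk (Subtype.ext (by simp [mul_assoc])))

theorem conjQ_mk {g : H} (hg : Nrm T g) (t : T) :
    conjQ ρ T hg (QuotientGroup.mk t) = QuotientGroup.mk (⟨g * t * g⁻¹, hg t t.2⟩ : T) := rfl

/-- The subgroup of elements normalising `T`. -/
def nrmSub : Subgroup H where
  carrier := {g | Nrm T g}
  one_mem' := fun t ht => by simpa using ht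
  mul_mem' := fun {a b} ha hb => nrm_mul ha hb
  inv_mem' := fun {a} ha => nrm_inv ha

/-- Conjugation on the classes as an action. -/
noncomputable def conjHom : nrmSub T →* Equiv.Perm (T ⧸ zed ρ T) where
  toFun g := conjQ ρ T g.2
  map_one' := Equiv.ext fun x => by
    obtain ⟨t, rfl⟩ := QuotientGroup.mk_surjective x
    change QuotientGroup.mk _ = QuotientGroup.mk t
    exact congrArg QuotientGroup.mk (Subtype.ext (by simp))
  map_mul' := fun a b => Equiv.ext fun x => by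
    obtain ⟨t, rfl⟩ := QuotientGroup.mk_surjective x
    change QuotientGroup.mk _ = QuotientGroup.mk _
    exact congrArg QuotientGroup.mk (Subtype.ext (by simp [mul_assoc]))

/-- The number of fixed classes. -/
noncomputable def fixQ (π : Equiv.Perm (T ⧸ zed ρ T)) : ℕ := Nat.card {x // π x = x}

/-- The action of `s` on `T` is exceptional only through scalars. -/
structure Triple (s : H) (r : ℕ) : Prop where
  hr : r.Prime
  hs : s ^ r = 1
  hrF : (r : F) ≠ 0
  hsT : Nrm T s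
  hTF : ((Nat.card T : ℕ) : F) ≠ 0
  hrT : ¬ r ∣ Nat.card T
  scal : ScalarComm ρ T
  fix : ∀ c ∈ T, ρ (s * c) = ρ (c * s) → ∃ k : F, ρ c = k • 1

variable {ρ T} {s : H} {r : ℕ}

theorem scalar_comm {x : H} {k : F} (h : ρ x = k • 1) (y : H) : ρ (x * y) = ρ (y * x) := by
  rw [map_mul, map_mul, h, smul_one_mul, mul_smul_one]

theorem scalar_mem_zed {t : T} {k : F} (h : ρ (t : H) = k • 1) : t ∈ zed ρ T := fun a => scalar_comm h _

/-- `s` fixes only the trivial class. -/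
theorem Triple.fix_s (h : Triple ρ T s r) (x : T ⧸ zed ρ T) (hx : conjQ ρ T h.hsT x = x) :
    x = QuotientGroup.mk 1 := by
  haveI : Fact r.Prime := ⟨h.hr⟩
  obtain ⟨t, rfl⟩ := QuotientGroup.mk_surjective x
  rw [conjQ_mk, eq_comm, QuotientGroup.eq] at hx
  obtain ⟨u, hu, huc⟩ := exists_fixed_coset ((zed ρ T).map T.subtype) (g := s) (p := r) (n := 1)
    (by rw [pow_one, h.hs]) (fun hd => h.hrT (hd.trans ((Subgroup.card_dvd_of_le (K := T) (by
      rintro _ ⟨z, -, rfl⟩; exact z.2)))))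
    (by rintro _ ⟨z, hz, rfl⟩; exact ⟨_, conj_zed ρ T h.hsT hz, rfl⟩) (l := (t : H))
    ⟨_, hx, by simp [mul_assoc]⟩
  obtain ⟨z, hz, rfl⟩ := hu
  obtain ⟨k, hk⟩ := h.fix ((t : H) * z) (mul_mem t.2 z.2) (congrArg ρ huc.eq)
  rw [QuotientGroup.eq]
  have h1 : t * z ∈ zed ρ T := scalar_mem_zed (t := t * z) hk
  rw [mul_one]
  exact inv_mem ((Subgroup.mul_mem_cancel_right _ hz).1 h1)

theorem fixQ_eq_one (h : Triple ρ T s r) (π : Equiv.Perm (T ⧸ zed ρ T)) (k : ℕ)
    (hone : π (QuotientGroup.mk 1) = QuotientGroup.mk 1)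
    (hπ : π ^ k = conjQ ρ T h.hsT) : fixQ ρ T π = 1 := by
  rw [fixQ, Nat.card_eq_one_iff_unique]
  refine ⟨⟨fun a b => Subtype.ext ?_⟩, ⟨⟨_, hone⟩⟩⟩
  have key : ∀ x, π x = x → x = QuotientGroup.mk 1 := fun x hx => h.fix_s x (by
    rw [← hπ]
    exact Equiv.Perm.pow_apply_eq_self_of_apply_eq_self hx k)
  rw [key a a.2, key b b.2]

theorem conjQ_one {g : H} (hg : Nrm T g) : conjQ ρ T hg (QuotientGroup.mk 1) = QuotientGroup.mk 1 := by
  rw [conjQ_mk]
  exact congrArg QuotientGroup.mk (Subtype.ext (by simp))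

variable [FiniteDimensional F V] [Nontrivial V]

/-- A non-scalar central element yields a fixed-point-free abelian subgroup. -/
theorem Triple.zed_scalar_or (h : Triple ρ T s r) {g : H} (hg : Nrm T g) (hgs : Commute g s)
    (hirr : ∀ W : Submodule F V, (∀ t ∈ T, ∀ x ∈ W, ρ t x ∈ W) → (∀ x ∈ W, ρ g x ∈ W) → W = ⊥ ∨ W = ⊤) :
    (∀ z ∈ zed ρ T, ∃ k : F, ρ (z : H) = k • 1) ∨
      ∃ A : Subgroup H, A ≤ T ∧ (∀ x, Nrm T x → Commute x s → Nrm A x) ∧
        (∀ a ∈ A, ∀ b ∈ A, ρ (a * b) = ρ (b * a)) ∧ (∀ a ∈ A, ρ (s * a) = ρ (a * s) → ρ a = 1) ∧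
        ∀ (_ : Fintype A) (v : V), ∑ a : A, ρ (a : H) v = 0 := by
  classical
  by_cases hall : ∀ z ∈ zed ρ T, ∃ k : F, ρ (z : H) = k • 1
  · exact Or.inl hall
  refine Or.inr ?_
  have hzc : ∀ z : T, z ∈ zed ρ T → ∀ a ∈ T, ρ ((z : H) * a) = ρ (a * z) := fun z hz a ha => hz ⟨a, ha⟩
  have hmem : ∀ z : T, z ∈ zed ρ T → (z : H)⁻¹ * (s * z * s⁻¹) ∈ T := fun z hz =>
    mul_mem (inv_mem z.2) (h.hsT z z.2)
  let A : Subgroup H :=
    { carrier := {a | a ∈ T ∧ ∃ z : T, z ∈ zed ρ T ∧ ρ a = ρ ((z : H)⁻¹ * (s * z * s⁻¹))}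
      one_mem' := ⟨one_mem T, 1, one_mem _, by simp⟩
      mul_mem' := fun {a b} ha hb => by
        obtain ⟨haT, z, hz, hza⟩ := ha
        obtain ⟨hbT, w, hw, hwb⟩ := hb
        refine ⟨mul_mem haT hbT, z * w, mul_mem hz hw, ?_⟩
        have hc := hzc w⁻¹ (inv_mem hw) _ (hmem z hz)
        rw [map_mul, hza, hwb, ← map_mul, Subgroup.coe_mul, mul_inv_rev,
          show ((w : H))⁻¹ * (z : H)⁻¹ * (s * ((z : H) * w) * s⁻¹) =
            ((w : H)⁻¹ * ((z : H)⁻¹ * (s * z * s⁻¹))) * (s * w * s⁻¹) by group,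
          show (z : H)⁻¹ * (s * z * s⁻¹) * ((w : H)⁻¹ * (s * w * s⁻¹)) =
            ((z : H)⁻¹ * (s * z * s⁻¹) * (w : H)⁻¹) * (s * w * s⁻¹) by group, map_mul]
        conv_rhs => rw [map_mul]
        rw [show ((w : H))⁻¹ = ((w⁻¹ : T) : H) from rfl, hc]
      inv_mem' := fun {a} ha => by
        obtain ⟨haT, z, hz, hza⟩ := ha
        refine ⟨inv_mem haT, z⁻¹, inv_mem hz, ?_⟩
        have hc := hzc z hz _ (inv_mem (h.hsT z z.2))
        have h1 : ρ a⁻¹ = ρ (((z : H)⁻¹ * (s * z * s⁻¹))⁻¹) := by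
          have h2 : ρ a⁻¹ * (ρ a * ρ (((z : H)⁻¹ * (s * z * s⁻¹))⁻¹)) = ρ (((z : H)⁻¹ * (s * z * s⁻¹))⁻¹) := by
            rw [← mul_assoc, ← map_mul, inv_mul_cancel, map_one, one_mul]
          rwa [hza, ← map_mul, mul_inv_cancel, map_one, mul_one] at h2
        rw [h1, mul_inv_rev, inv_inv, ← hc, Subgroup.coe_inv]
        congr 1
        group }
  have hAc : ∀ a ∈ A, ∀ b ∈ T, ρ (a * b) = ρ (b * a) := by
    rintro a ⟨-, z, hz, hza⟩ b hb
    rw [map_mul, hza, ← map_mul, map_mul ρ b a, hza, ← map_mul]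
    exact hzc ((z⁻¹ : T) * ⟨s * z * s⁻¹, h.hsT z z.2⟩) (mul_mem (inv_mem hz) (conj_zed ρ T h.hsT hz)) b hb
  refine ⟨A, fun a ha => ha.1, fun x hx hxs a ha => ?_, fun a ha b hb => hAc a ha b hb.1, ?_, ?_⟩
  · obtain ⟨haT, z, hz, hza⟩ := ha
    refine ⟨hx a haT, ⟨x * z * x⁻¹, hx z z.2⟩, conj_zed ρ T hx hz, ?_⟩
    rw [map_mul, map_mul, hza, ← map_mul, ← map_mul]
    congr 1
    have e : x⁻¹ * s * x = s := by rw [mul_assoc, ← hxs.eq, inv_mul_cancel_left]
    change x * ((z : H)⁻¹ * (s * z * s⁻¹)) * x⁻¹ = (x * z * x⁻¹)⁻¹ * (s * (x * z * x⁻¹) * s⁻¹)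
    calc x * ((z : H)⁻¹ * (s * z * s⁻¹)) * x⁻¹
        = x * (z : H)⁻¹ * (x⁻¹ * x) * s * z * (x⁻¹ * x) * s⁻¹ * x⁻¹ := by group
      _ = x * (z : H)⁻¹ * x⁻¹ * (x * (x⁻¹ * s * x) * z * (x⁻¹ * x) * (x⁻¹ * s * x)⁻¹ * x⁻¹) := by
          rw [e]; group
      _ = _ := by group
  · rintro a ⟨haT, z, hz, hza⟩ hc
    let a' := img ρ a
    let z' := img ρ (z : H)
    let s' := img ρ s
    have e1 : a' = z'⁻¹ * (s' * z' * s'⁻¹) := by
      simp only [a', z', s', ← map_mul, ← map_inv]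
      exact (img_eq_iff ρ).2 hza
    have e2 : Commute s' a' := by
      change img ρ s * img ρ a = img ρ a * img ρ s
      rw [← map_mul, ← map_mul, img_eq_iff]
      exact hc
    have e3 : ∀ i : ℕ, s' ^ i * z' * (s' ^ i)⁻¹ = z' * a' ^ i := by
      intro i
      induction i with
      | zero => simp
      | succ i ih =>
        calc s' ^ (i + 1) * z' * (s' ^ (i + 1))⁻¹ = s' * (s' ^ i * z' * (s' ^ i)⁻¹) * s'⁻¹ := by
              rw [pow_succ']; group
          _ = (s' * z' * s'⁻¹) * (s' * a' ^ i * s'⁻¹) := by rw [ih]; group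
          _ = z' * a' ^ (i + 1) := by
              rw [(e2.pow_right i).eq, mul_inv_cancel_right, show s' * z' * s'⁻¹ = z' * a' by rw [e1, mul_inv_cancel_left],
                pow_succ', mul_assoc]
    have e4 := e3 r
    rw [show s' ^ r = 1 by rw [show s' = img ρ s from rfl, ← map_pow, h.hs, map_one], one_mul, inv_one, mul_one,
      left_eq_mul] at e4
    have e5 : a' ^ Nat.card T = 1 := by
      rw [show a' = img ρ a from rfl, ← map_pow, show a ^ Nat.card T = 1 from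
        congrArg Subtype.val (pow_card_eq_one' (x := (⟨a, haT⟩ : T))), map_one]
    have e6 : a' = 1 := by
      have := Nat.dvd_gcd (orderOf_dvd_of_pow_eq_one e4) (orderOf_dvd_of_pow_eq_one e5)
      rw [(h.hr.coprime_iff_not_dvd.2 h.hrT).gcd_eq_one, Nat.dvd_one, orderOf_eq_one_iff] at this
      exact this
    rw [← imgRep_img ρ a]
    exact (congrArg (imgRep ρ) e6).trans (map_one _)
  · intro _ v
    let W : Submodule F V := ⨅ a : A, LinearMap.ker (ρ (a : H) - 1)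
    have hW : ∀ x, x ∈ W ↔ ∀ a ∈ A, ρ a x = x := fun x => by
      simp [W, Submodule.mem_iInf, sub_eq_zero]
    have hgA : ∀ a ∈ A, g⁻¹ * a * g ∈ A := fun a ha => by
      have : Nrm A g := by
        intro b hb
        obtain ⟨hbT, z, hz, hzb⟩ := hb
        refine ⟨hg b hbT, ⟨g * z * g⁻¹, hg z z.2⟩, conj_zed ρ T hg hz, ?_⟩
        rw [map_mul, map_mul, hzb, ← map_mul, ← map_mul]
        congr 1
        have e : g⁻¹ * s * g = s := by rw [mul_assoc, ← hgs.eq, inv_mul_cancel_left]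
        change g * ((z : H)⁻¹ * (s * z * s⁻¹)) * g⁻¹ = (g * z * g⁻¹)⁻¹ * (s * (g * z * g⁻¹) * s⁻¹)
        calc g * ((z : H)⁻¹ * (s * z * s⁻¹)) * g⁻¹
            = g * (z : H)⁻¹ * g⁻¹ * (g * (g⁻¹ * s * g) * z * (g⁻¹ * g) * (g⁻¹ * s * g)⁻¹ * g⁻¹) := by
              rw [e]; group
          _ = _ := by group
      simpa using nrm_inv this a ha
    rcases hirr W (fun t ht x hx => (hW _).2 fun a ha => by
        rw [rho_rho, hAc a ha t ht, ← rho_rho, (hW x).1 hx a ha])
      (fun x hx => (hW _).2 fun a ha => by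
        have := congrArg (ρ g) ((hW x).1 hx _ (hgA a ha))
        rw [rho_rho, show g * (g⁻¹ * a * g) = a * g by group, ← rho_rho] at this
        exact this) with hbot | htop
    · have : ∑ a : A, ρ (a : H) v ∈ W := (hW _).2 fun b hb => by
        rw [map_sum]
        simp only [rho_rho]
        exact Fintype.sum_equiv (Equiv.mulLeft (⟨b, hb⟩ : A)) _ _ fun a => rfl
      rw [hbot, Submodule.mem_bot] at this
      exact this
    · refine absurd (fun (z : T) hz => h.fix z z.2 ?_) hall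
      have h1 : ρ ((z : H)⁻¹ * (s * z * s⁻¹)) = 1 := LinearMap.ext fun x =>
        (hW x).1 (htop ▸ Submodule.mem_top) _ ⟨hmem z hz, z, hz, rfl⟩
      rw [show s * (z : H) = z * (((z : H))⁻¹ * (s * z * s⁻¹)) * s by group, map_mul, map_mul ρ (z : H), h1, mul_one,
        ← map_mul]

variable [IsAlgClosed F]

/-- Irreducible under `T` and an element normalising it means irreducible under `T`. -/
theorem Triple.irreducible_T (h : Triple ρ T s r) (hz : ∀ z ∈ zed ρ T, ∃ k : F, ρ (z : H) = k • 1)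
    {g : H} (hg : Nrm T g)
    (hirr : ∀ W : Submodule F V, (∀ t ∈ T, ∀ x ∈ W, ρ t x ∈ W) → (∀ x ∈ W, ρ g x ∈ W) → W = ⊥ ∨ W = ⊤)
    (W : Submodule F V) (hW : ∀ t ∈ T, ∀ x ∈ W, ρ t x ∈ W) : W = ⊥ ∨ W = ⊤ := by
  classical
  by_contra hne
  push Not at hne
  -- a minimal invariant subspace
  obtain ⟨W₀, ⟨hW₀T, hW₀0⟩, hmin⟩ := WellFounded.has_min (wellFounded_lt (α := Submodule F V))
    {U : Submodule F V | (∀ t ∈ T, ∀ x ∈ U, ρ t x ∈ U) ∧ U ≠ ⊥} ⟨W, hW, hne.1⟩
  have hsimple : ∀ U : Submodule F V, (∀ t ∈ T, ∀ x ∈ U, ρ t x ∈ U) → U ≤ W₀ → U = ⊥ ∨ U = W₀ := fun U hU hle => by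
    by_contra hc
    push Not at hc
    exact hmin U ⟨hU, hc.1⟩ (lt_of_le_of_ne hle hc.2)
  set W₁ := W₀.map (ρ g) with hW₁
  have hW₁T : ∀ t ∈ T, ∀ x ∈ W₁, ρ t x ∈ W₁ := by
    rintro t ht _ ⟨x, hx, rfl⟩
    refine ⟨ρ (g⁻¹ * t * g) x, hW₀T _ (by simpa using nrm_inv hg t ht) x hx, ?_⟩
    rw [rho_rho, rho_rho, ← mul_assoc, ← mul_assoc, mul_inv_cancel, one_mul]
  have hW₁0 : W₁ ≠ ⊥ := fun hb => hW₀0 (by
    rw [eq_bot_iff]
    intro x hx
    have : ρ g x ∈ W₁ := ⟨x, hx, rfl⟩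
    rw [hb, Submodule.mem_bot] at this
    exact (Submodule.mem_bot F).2 (rho_injective ρ g (this.trans (map_zero _).symm)))
  obtain ⟨ι, hι0, hιT⟩ := exists_link h.scal hz h.hTF W₁ W₀ hW₁T hW₀T hW₁0 hW₀0
  let f0 : W₀ →ₗ[F] W₁ := (ρ g).restrict fun x hx => ⟨x, hx, rfl⟩
  let e0 : W₀ →ₗ[F] W₀ := ι ∘ₗ f0
  have he0T : ∀ (t : T) (x : W₀), (e0 ⟨ρ (t : H) x, hW₀T t t.2 x x.2⟩ : V) = ρ (g * t * g⁻¹) (e0 x) := by
    intro t x
    have h1 := hιT ⟨_, hg t t.2⟩ (f0 x)
    refine Eq.trans ?_ h1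
    change (ι _ : V) = ι _
    congr 2
    refine Subtype.ext ?_
    change ρ g (ρ (t : H) x) = ρ (g * t * g⁻¹) (ρ g x)
    rw [rho_rho, rho_rho, inv_mul_cancel_right]
  have he0 : Function.Injective e0 := by
    refine (injective_iff_map_eq_zero e0).2 fun x hx => ?_
    let K : Submodule F V := (LinearMap.ker e0).map W₀.subtype
    have hKle : K ≤ W₀ := by rintro _ ⟨y, -, rfl⟩; exact y.2
    rcases hsimple K (fun t ht v hv => by
      obtain ⟨y, hy, rfl⟩ := hv
      refine ⟨⟨ρ t y, hW₀T t ht y y.2⟩, LinearMap.mem_ker.2 (Subtype.ext ?_), rfl⟩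
      rw [he0T ⟨t, ht⟩ y, LinearMap.mem_ker.1 hy, Submodule.coe_zero, map_zero]) hKle with hb | ht
    · have : (x : V) ∈ K := ⟨x, LinearMap.mem_ker.2 hx, rfl⟩
      rw [hb, Submodule.mem_bot] at this
      exact Subtype.ext this
    · refine absurd (LinearMap.ext fun y => ?_) hι0
      obtain ⟨z, hz', hzy⟩ := y.2
      have hzK : z ∈ K := ht.symm ▸ hz'
      obtain ⟨w, hw, hwz⟩ := hzK
      rw [show y = f0 w from Subtype.ext (by rw [← hzy, ← hwz]; rfl)]
      exact LinearMap.mem_ker.1 hw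
  let e : W₀ ≃ₗ[F] W₀ := LinearEquiv.ofBijective e0 ⟨he0, LinearMap.injective_iff_surjective.1 he0⟩
  -- the twisted operator on equivariant maps
  let E : Submodule F (W₀ →ₗ[F] V) :=
    { carrier := {f | ∀ (t : T) (x : W₀), f ⟨ρ (t : H) x, hW₀T t t.2 x x.2⟩ = ρ (t : H) (f x)}
      zero_mem' := fun t x => by simp
      add_mem' := fun {a b} ha hb t x => by simp [ha t x, hb t x]
      smul_mem' := fun k a ha t x => by simp [ha t x] }
  let Φ : (W₀ →ₗ[F] V) →ₗ[F] (W₀ →ₗ[F] V) :=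
    { toFun := fun f => ρ g ∘ₗ f ∘ₗ e.symm.toLinearMap
      map_add' := fun a b => by ext; simp
      map_smul' := fun k a => by ext; simp }
  have hΦE : ∀ f ∈ E, Φ f ∈ E := by
    intro f hf t x
    have hgt : g⁻¹ * t * g ∈ T := by simpa using nrm_inv hg t t.2
    have h1 : e.symm ⟨ρ (t : H) x, hW₀T t t.2 x x.2⟩ =
        ⟨ρ (g⁻¹ * t * g) (e.symm x), hW₀T _ hgt _ (e.symm x).2⟩ := by
      rw [LinearEquiv.symm_apply_eq]
      refine Subtype.ext ?_
      change ρ (t : H) x = (e0 _ : V)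
      rw [he0T ⟨_, hgt⟩ (e.symm x), show (e0 (e.symm x) : W₀) = x from e.apply_symm_apply x]
      congr 2
      group
    change ρ g (f (e.symm _)) = ρ (t : H) (ρ g (f (e.symm x)))
    rw [h1, hf ⟨_, hgt⟩ (e.symm x), rho_rho, rho_rho]
    congr 2
    group
  haveI : Nontrivial E := by
    refine ⟨⟨⟨W₀.subtype, fun t x => rfl⟩, 0, fun hh => hW₀0 ?_⟩⟩
    rw [eq_bot_iff]
    intro x hx
    have := LinearMap.congr_fun (congrArg Subtype.val hh) ⟨x, hx⟩
    exact (Submodule.mem_bot F).2 this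
  obtain ⟨μ, hμ⟩ := Module.End.exists_eigenvalue (Φ.restrict hΦE)
  obtain ⟨f, hf⟩ := hμ.exists_hasEigenvector
  have hfΦ : ∀ x, ρ g (f.1 (e.symm x)) = μ • f.1 x := fun x =>
    LinearMap.congr_fun (congrArg Subtype.val hf.apply_eq_smul) x
  rcases hirr (LinearMap.range f.1) (fun t ht v hv => by
      obtain ⟨x, rfl⟩ := hv
      exact ⟨_, f.2 ⟨t, ht⟩ x⟩)
    (fun v hv => by
      obtain ⟨x, rfl⟩ := hv
      refine ⟨μ • e x, ?_⟩
      rw [map_smul, ← hfΦ, LinearEquiv.symm_apply_apply]) with hb | ht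
  · exact hf.2 (Subtype.ext (LinearMap.ext fun x => by
      have : f.1 x ∈ LinearMap.range f.1 := ⟨x, rfl⟩
      rwa [hb, Submodule.mem_bot] at this))
  let K : Submodule F V := (W.comap f.1).map W₀.subtype
  have hKle : K ≤ W₀ := by rintro _ ⟨y, -, rfl⟩; exact y.2
  rcases hsimple K (fun t ht' v hv => by
    obtain ⟨y, hy, rfl⟩ := hv
    refine ⟨⟨ρ t y, hW₀T t ht' y y.2⟩, ?_, rfl⟩
    change f.1 _ ∈ W
    rw [f.2 ⟨t, ht'⟩ y]
    exact hW t ht' _ hy) hKle with hb | hk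
  · refine hne.1 ((eq_bot_iff).2 fun w hw => ?_)
    obtain ⟨y, rfl⟩ : w ∈ LinearMap.range f.1 := ht ▸ Submodule.mem_top
    have : (y : V) ∈ K := ⟨y, hw, rfl⟩
    rw [hb, Submodule.mem_bot] at this
    rw [show y = 0 from Subtype.ext this, map_zero]
    exact zero_mem _
  · refine hne.2 ((eq_top_iff).2 fun w _ => ?_)
    obtain ⟨y, rfl⟩ : w ∈ LinearMap.range f.1 := ht ▸ Submodule.mem_top
    obtain ⟨z, hz', hzy⟩ := (hk.symm ▸ y.2 : (y : V) ∈ K)
    rw [← show z = y from Subtype.ext hzy]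
    exact hz'

/-- Schur's lemma. -/
theorem schur (hirr : ∀ W : Submodule F V, (∀ t ∈ T, ∀ x ∈ W, ρ t x ∈ W) → W = ⊥ ∨ W = ⊤)
    {f : Module.End F V} (hf : f ∈ centT ρ T) : ∃ k : F, f = k • 1 := by
  obtain ⟨k, hk⟩ := Module.End.exists_eigenvalue f
  refine ⟨k, ?_⟩
  rcases hirr (Module.End.eigenspace f k) (fun t ht x hx => by
    rw [Module.End.mem_eigenspace_iff] at hx ⊢
    rw [← Module.End.mul_apply, hf ⟨t, ht⟩, Module.End.mul_apply, hx, map_smul]) with hb | ht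
  · exact absurd hb (Module.End.hasEigenvalue_iff.1 hk)
  · exact LinearMap.ext fun x => Module.End.mem_eigenspace_iff.1 (ht ▸ Submodule.mem_top)

theorem zed_scalar (hirr : ∀ W : Submodule F V, (∀ t ∈ T, ∀ x ∈ W, ρ t x ∈ W) → W = ⊥ ∨ W = ⊤) :
    ∀ z ∈ zed ρ T, ∃ k : F, ρ (z : H) = k • 1 := fun z hz =>
  schur hirr (f := ρ (z : H)) fun t => by rw [← map_mul, ← map_mul]; exact hz t

theorem card_classes (hs : ScalarComm ρ T) (hT : ((Nat.card T : ℕ) : F) ≠ 0)
    (hirr : ∀ W : Submodule F V, (∀ t ∈ T, ∀ x ∈ W, ρ t x ∈ W) → W = ⊥ ∨ W = ⊤) :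
    Nat.card (T ⧸ zed ρ T) = finrank F V * finrank F V ∧ finrank F (centT ρ T) = 1 := by
  have h1 : finrank F (centT ρ T) = 1 := by
    refine finrank_eq_one (⟨1, fun t => by simp⟩ : centT ρ T) (fun h => ?_) fun f => ?_
    · exact one_ne_zero (congrArg Subtype.val h : (1 : Module.End F V) = 0)
    · obtain ⟨k, hk⟩ := schur hirr f.2
      exact ⟨k, Subtype.ext hk.symm⟩
  refine ⟨?_, h1⟩
  rw [finrank_sq hs (zed_scalar hirr) hT, h1, mul_one]

/-- The centralizer of `g = s d` is large when `d` fixes the fixed vectors. -/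
theorem cent_lower (hr : r.Prime) (hs : s ^ r = 1) (hrF : (r : F) ≠ 0) {d : H} (hds : Commute d s) {k : ℕ}
    (hk : ¬ r ∣ k) (hdk : ρ (d ^ k) = 1) (hfix : ∀ v : V, ρ s v = v → ρ d v = v) :
    ∃ S c : ℕ, finrank F (LinearMap.ker (ρ s - 1)) + S = finrank F V ∧ S * S ≤ k * (r - 1) * c ∧
      finrank F (LinearMap.ker (ρ s - 1)) * finrank F (LinearMap.ker (ρ s - 1)) + c ≤
        finrank F (endCentralizer (ρ (s * d))) := by
  classical
  set A := LinearMap.ker (ρ s - 1) with hA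
  set B := LinearMap.ker (orbSum ρ s r) with hB
  have hmemA : ∀ x, x ∈ A ↔ ρ s x = x := fun x => by simp [A, sub_eq_zero]
  have hAB : IsCompl A B := by
    constructor
    · rw [disjoint_iff, eq_bot_iff]
      rintro x ⟨hx1, hx2⟩
      rw [SetLike.mem_coe, LinearMap.mem_ker, orbSum_fixed ρ ((hmemA x).1 hx1)] at hx2
      exact (Submodule.mem_bot F).2 ((smul_eq_zero.1 hx2).resolve_left hrF)
    · rw [codisjoint_iff, eq_top_iff]
      intro x _
      have h1 : (r : F)⁻¹ • orbSum ρ s r x ∈ A := by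
        rw [hmemA, map_smul, rho_orbSum ρ hr hs]
      rw [show x = (r : F)⁻¹ • orbSum ρ s r x + (x - (r : F)⁻¹ • orbSum ρ s r x) by abel]
      refine Submodule.add_mem_sup h1 ?_
      rw [hB, LinearMap.mem_ker, map_sub, orbSum_fixed ρ ((hmemA _).1 h1), smul_smul, mul_inv_cancel₀ hrF,
        one_smul, sub_self]
  have hcg : Commute (s * d) s := (Commute.refl s).mul_left hds
  have hgA : ∀ x ∈ A, ρ (s * d) x ∈ A := fun x hx => by
    rw [hmemA, rho_rho, ← hcg.eq, ← rho_rho, (hmemA x).1 hx]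
  have hgB : ∀ x ∈ B, ρ (s * d) x ∈ B := fun x hx => by
    rw [hB, LinearMap.mem_ker, ← rho_comm_orbSum ρ hcg, LinearMap.mem_ker.1 hx, map_zero]
  have hone : (ρ (s * d)).restrict hgA = 1 := LinearMap.ext fun x => Subtype.ext (by
    change ρ (s * d) x = x
    rw [← rho_rho, hfix _ ((hmemA _).1 x.2), (hmemA _).1 x.2])
  have hc1 : finrank F (endCentralizer ((ρ (s * d)).restrict hgA)) = finrank F A * finrank F A := by
    rw [hone, show endCentralizer (1 : Module.End F A) = ⊤ from eq_top_iff.2 fun f _ =>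
      mem_endCentralizer.2 (by simp), finrank_top, Module.finrank_linearMap]
  have hsum := Submodule.finrank_add_eq_of_isCompl hAB
  refine ⟨finrank F B, finrank F (endCentralizer ((ρ (s * d)).restrict hgB)), hsum, ?_, ?_⟩
  · set u := (ρ (s * d)).restrict hgB
    let p : Polynomial F := ∑ i ∈ Finset.range r, Polynomial.X ^ (k * i)
    have hkpos : 0 < k := Nat.pos_of_ne_zero fun h0 => hk (h0 ▸ dvd_zero r)
    have hcoeff : p.coeff 0 = 1 := by
      simp only [p, Polynomial.finset_sum_coeff, Polynomial.coeff_X_pow]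
      rw [Finset.sum_eq_single 0]
      · simp
      · intro i _ hi
        rw [if_neg]
        intro h0
        rcases Nat.mul_eq_zero.1 h0.symm with h | h <;> omega
      · intro h0; exact absurd (Finset.mem_range.2 hr.pos) h0
    have hp0 : p ≠ 0 := fun h => by simp [h] at hcoeff
    have hdeg : p.natDegree ≤ k * (r - 1) := Polynomial.natDegree_sum_le_of_forall_le _ _ fun i hi => by
      rw [Polynomial.natDegree_X_pow]
      exact Nat.mul_le_mul_left k (by have := Finset.mem_range.1 hi; omega)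
    have hu : ∀ (n : ℕ) (x : B), ((u ^ n) x : V) = ρ ((s * d) ^ n) x := by
      intro n
      induction n with
      | zero => intro x; simp
      | succ n ih =>
        intro x
        rw [pow_succ' u, Module.End.mul_apply, pow_succ', ← rho_rho, ← ih]
        rfl
    have hzero : Polynomial.aeval u p = 0 := by
      refine LinearMap.ext fun x => Subtype.ext ?_
      simp only [p, map_sum, map_pow, Polynomial.aeval_X, LinearMap.coe_sum, Finset.sum_apply,
        Submodule.coe_sum, LinearMap.zero_apply, Submodule.coe_zero, hu]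
      have hbij : ∑ i ∈ Finset.range r, ρ ((s * d) ^ (k * i)) (x : V) = ∑ i ∈ Finset.range r, ρ (s ^ i) (x : V) := by
        have hd' : ∀ i : ℕ, ρ ((d ^ k) ^ i) = 1 := fun i => by rw [map_pow, hdk, one_pow]
        have hterm : ∀ i : ℕ, ρ ((s * d) ^ (k * i)) (x : V) = ρ (s ^ (k * i % r)) x := fun i => by
          rw [hds.symm.mul_pow, map_mul, pow_mul d, hd', mul_one]
          congr 2
          conv_lhs => rw [← Nat.mod_add_div (k * i) r, pow_add, pow_mul, hs, one_pow, mul_one]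
        rw [Finset.sum_congr rfl fun i _ => hterm i]
        refine Finset.sum_nbij (fun i => k * i % r) (fun i _ => Finset.mem_range.2 (Nat.mod_lt _ hr.pos)) ?_ ?_
          fun i _ => rfl
        · intro i hi j hj hij
          have := Nat.ModEq.cancel_left_of_coprime (Nat.Coprime.symm ((hr.coprime_iff_not_dvd.2 hk).symm))
            (show k * i ≡ k * j [MOD r] from hij)
          exact Nat.ModEq.eq_of_lt_of_lt this (Finset.mem_range.1 hi) (Finset.mem_range.1 hj)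
        · intro j hj
          obtain ⟨i, -, hi⟩ := Nat.exists_mul_mod_eq_one_of_coprime (hr.coprime_iff_not_dvd.2 hk).symm hr.one_lt
          refine ⟨i * j % r, Finset.mem_range.2 (Nat.mod_lt _ hr.pos), ?_⟩
          show k * (i * j % r) % r = j
          rw [Nat.mul_mod, Nat.mod_mod, ← Nat.mul_mod, ← mul_assoc, Nat.mul_mod, hi, one_mul, Nat.mod_mod,
            Nat.mod_eq_of_lt (Finset.mem_range.1 hj)]
      simp only [← map_pow]
      rw [hbij, ← orbSum_apply]
      exact x.2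
    calc _ ≤ p.natDegree * _ := sq_le_natDegree_mul _ B u p le_rfl hp0 hzero
      _ ≤ _ := Nat.mul_le_mul_right _ hdeg
  · have := finrank_cent_add (ρ (s * d)) hAB hgA hgB
    omega

end Cfsg.Lib.FitHeight
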