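import Cfsg.Agent.FitHeight.Orbit
import Cfsg.Agent.HallHigman.Critical

/-!
Unfaithful forms of the orbit lemmas, restriction to invariant subspaces, and the dimension of
fixed points for a fixed-point-free abelian group.
-/

set_option autoImplicit false
set_option linter.unusedSectionVars false
set_option linter.style.haveILetI false
set_option linter.unusedVariables false

namespace Cfsg.Lib.FitHeight

open Module

universe u v w

variable {F : Type u} [Field F] {V : Type v} [AddCommGroup V] [Module F V] {H : Type w} [Group H]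
  (ρ : H →* Module.End F V)

theorem rho_inv_apply (x : H) (v : V) : ρ x⁻¹ (ρ x v) = v := by
  rw [rho_rho, inv_mul_cancel, map_one, Module.End.one_apply]

theorem rho_apply_inv (x : H) (v : V) : ρ x (ρ x⁻¹ v) = v := by
  rw [rho_rho, mul_inv_cancel, map_one, Module.End.one_apply]

theorem rho_injective (x : H) : Function.Injective (ρ x) :=
  Function.LeftInverse.injective (g := ρ x⁻¹) (rho_inv_apply ρ x)

/-- The elements keeping a subspace. -/
def stab (U : Submodule F V) : Subgroup H where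
  carrier := {h | (∀ x ∈ U, ρ h x ∈ U) ∧ ∀ x ∈ U, ρ h⁻¹ x ∈ U}
  one_mem' := ⟨fun x hx => by simpa using hx, fun x hx => by simpa using hx⟩
  mul_mem' := fun {a b} ha hb => ⟨fun x hx => by rw [← rho_rho]; exact ha.1 _ (hb.1 x hx),
    fun x hx => by rw [mul_inv_rev, ← rho_rho]; exact hb.2 _ (ha.2 x hx)⟩
  inv_mem' := fun {a} ha => ⟨ha.2, by rw [inv_inv]; exact ha.1⟩

theorem mem_stab_of_forall [FiniteDimensional F V] {U : Submodule F V} {h : H} (hh : ∀ x ∈ U, ρ h x ∈ U) :
    h ∈ stab ρ U := by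
  refine ⟨hh, fun x hx => ?_⟩
  have hi : Function.Injective ((ρ h).restrict hh) := fun a b hab =>
    Subtype.ext (rho_injective ρ h (congrArg Subtype.val hab))
  obtain ⟨y, hy⟩ := (LinearMap.injective_iff_surjective.1 hi) ⟨x, hx⟩
  have hy' : ρ h y = x := congrArg Subtype.val hy
  rw [← hy', rho_inv_apply]
  exact y.2

/-- The representation on an invariant subspace. -/
def subRep (U : Submodule F V) : stab ρ U →* Module.End F U where
  toFun h := (ρ h).restrict h.2.1
  map_one' := LinearMap.ext fun x => Subtype.ext (by simp)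
  map_mul' := fun a b => LinearMap.ext fun x => Subtype.ext (by
    rw [Module.End.mul_apply]
    change ρ ((a : H) * b) x = ρ (a : H) (ρ (b : H) x)
    rw [rho_rho])

theorem subRep_apply (U : Submodule F V) (h : stab ρ U) (x : U) : (subRep ρ U h x : V) = ρ (h : H) x := rfl

/-- The image of the representation. -/
noncomputable abbrev img : H →* ρ.toHomUnits.range := ρ.toHomUnits.rangeRestrict

/-- The tautological representation of the image. -/
def imgRep : ρ.toHomUnits.range →* Module.End F V := (Units.coeHom _).comp (Subgroup.subtype _)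

instance finite_img [Finite H] : Finite ρ.toHomUnits.range :=
  Finite.of_surjective (img ρ) ρ.toHomUnits.rangeRestrict_surjective

theorem imgRep_img (x : H) : imgRep ρ (img ρ x) = ρ x := rfl

theorem imgRep_injective : Function.Injective (imgRep ρ) := fun a b h => Subtype.ext (Units.ext h)

theorem img_eq_iff {x y : H} : img ρ x = img ρ y ↔ ρ x = ρ y :=
  ⟨fun h => congrArg (imgRep ρ) h, fun h => imgRep_injective ρ h⟩

theorem orbSum_img (s : H) (r : ℕ) : orbSum (imgRep ρ) (img ρ s) r = orbSum ρ s r :=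
  Finset.sum_congr rfl fun i _ => by rw [← map_pow, imgRep_img]

variable {s : H} {r : ℕ} (T : Subgroup H)

/-- The sum over a subgroup vanishes with that over its image. -/
theorem sum_map_eq_zero [Fintype T] [Fintype (T.map (img ρ))] (hTF : ((Fintype.card T : ℕ) : F) ≠ 0)
    (hT0 : ∀ v : V, ∑ t : T, ρ (t : H) v = 0) :
    ((Fintype.card (T.map (img ρ)) : ℕ) : F) ≠ 0 ∧ ∀ v : V, ∑ t : T.map (img ρ), imgRep ρ t v = 0 := by
  classical
  let f : T →* T.map (img ρ) := (img ρ).subgroupMap T
  have hf : Function.Surjective f := MonoidHom.subgroupMap_surjective _ T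
  have hdvd : Fintype.card (T.map (img ρ)) ∣ Fintype.card T := by
    rw [← Nat.card_eq_fintype_card, ← Nat.card_eq_fintype_card]
    exact Subgroup.card_dvd_of_surjective f hf
  have hne : ((Fintype.card (T.map (img ρ)) : ℕ) : F) ≠ 0 := fun h => hTF (by
    obtain ⟨k, hk⟩ := hdvd
    rw [hk, Nat.cast_mul, h, zero_mul])
  refine ⟨hne, fun v => ?_⟩
  have h1 : ∀ y : T.map (img ρ), (Finset.univ.filter fun t : T => f t = y).card =
      (Finset.univ.filter fun t : T => f t = 1).card := by
    intro y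
    obtain ⟨t₀, rfl⟩ := hf y
    refine Finset.card_bij' (fun t _ => t₀⁻¹ * t) (fun t _ => t₀ * t) ?_ ?_ ?_ ?_ <;>
      intro t ht <;> simp_all [Finset.mem_filter, map_mul]
  set c := (Finset.univ.filter fun t : T => f t = 1).card
  have h2 : ∑ t : T, ρ (t : H) v = (c : F) • ∑ y : T.map (img ρ), imgRep ρ y v := by
    rw [← Finset.sum_fiberwise Finset.univ f, Finset.smul_sum]
    refine Finset.sum_congr rfl fun y _ => ?_
    rw [Finset.sum_congr rfl (g := fun _ => imgRep ρ (y : ρ.toHomUnits.range) v), Finset.sum_const, h1,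
      ← Nat.cast_smul_eq_nsmul F]
    intro t ht
    rw [← (Finset.mem_filter.1 ht).2]
    rfl
  have hc : (c : F) ≠ 0 := by
    intro h
    apply hTF
    have h3 : Fintype.card T = Fintype.card (T.map (img ρ)) * c := by
      rw [← Finset.card_univ, Finset.card_eq_sum_card_fiberwise (t := Finset.univ) (f := f)
        (fun _ _ => Finset.mem_univ _)]
      simp [h1, c]
    rw [h3, Nat.cast_mul, h, mul_zero]
  rw [hT0] at h2
  exact (smul_eq_zero.1 h2.symm).resolve_left hc

variable [Finite H] [Fintype T]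

theorem map_conj_mem {g : H} (hg : ∀ t ∈ T, g * t * g⁻¹ ∈ T) :
    ∀ t ∈ T.map (img ρ), img ρ g * t * (img ρ g)⁻¹ ∈ T.map (img ρ) := by
  rintro _ ⟨t, ht, rfl⟩
  exact ⟨_, hg t ht, by simp⟩

/-- `eq_zero_of_orbSum` for the image. -/
theorem eq_zero_of_orbSum' (hr : r.Prime) (hs : s ^ r = 1) (hsT : ∀ t ∈ T, s * t * s⁻¹ ∈ T)
    (hfpf : ∀ t ∈ T, ρ (s * t) = ρ (t * s) → ρ t = 1) (hTF : ((Fintype.card T : ℕ) : F) ≠ 0)
    (hT0 : ∀ v : V, ∑ t : T, ρ (t : H) v = 0) {v : V}
    (h : ∀ l ∈ T, orbSum ρ s r (ρ l v) = 0) : v = 0 := by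
  haveI : Finite (T.map (img ρ)) := inferInstance
  haveI := Fintype.ofFinite (T.map (img ρ))
  obtain ⟨h1, h2⟩ := sum_map_eq_zero ρ T hTF hT0
  refine eq_zero_of_orbSum (imgRep ρ) (T.map (img ρ)) (s := img ρ s) hr (by rw [← map_pow, hs, map_one])
    (map_conj_mem ρ T hsT) ?_ h1 h2 ?_
  · rintro _ ⟨t, ht, rfl⟩ hc
    have : img ρ (s * t) = img ρ (t * s) := by rw [map_mul, map_mul]; exact hc
    rw [show (1 : ρ.toHomUnits.range) = img ρ 1 from (map_one _).symm, img_eq_iff, map_one]
    exact hfpf t ht ((img_eq_iff ρ).1 this)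
  · rintro _ ⟨t, ht, rfl⟩
    rw [imgRep_img, orbSum_img]
    exact h t ht

/-- `eq_one_of_fixes` for the image. -/
theorem eq_one_of_fixes' [FiniteDimensional F V] (hr : r.Prime) (hs : s ^ r = 1)
    (hsT : ∀ t ∈ T, s * t * s⁻¹ ∈ T) (hfpf : ∀ t ∈ T, ρ (s * t) = ρ (t * s) → ρ t = 1)
    (hcomm : ∀ a ∈ T, ∀ b ∈ T, ρ (a * b) = ρ (b * a)) (hTF : ((Fintype.card T : ℕ) : F) ≠ 0)
    (hT0 : ∀ v : V, ∑ t : T, ρ (t : H) v = 0) {d : H} (hds : Commute d s) (hdT : ∀ t ∈ T, d * t * d⁻¹ ∈ T)
    (hdr : ¬ r ∣ orderOf d) (hfix : ∀ v : V, ρ s v = v → ρ d v = v) : ρ d = 1 := by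
  haveI : Finite (T.map (img ρ)) := inferInstance
  haveI := Fintype.ofFinite (T.map (img ρ))
  obtain ⟨h1, h2⟩ := sum_map_eq_zero ρ T hTF hT0
  refine LinearMap.ext fun v => ?_
  rw [← imgRep_img, Module.End.one_apply]
  refine eq_one_of_fixes (imgRep ρ) (T.map (img ρ)) (s := img ρ s) hr (by rw [← map_pow, hs, map_one])
    (map_conj_mem ρ T hsT) ?_ ?_ h1 h2 (hds.map _) (map_conj_mem ρ T hdT)
    (fun h => hdr (h.trans (orderOf_map_dvd _ d))) (fun w hw => hfix w hw) v
  · rintro _ ⟨t, ht, rfl⟩ hc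
    have : img ρ (s * t) = img ρ (t * s) := by rw [map_mul, map_mul]; exact hc
    rw [show (1 : ρ.toHomUnits.range) = img ρ 1 from (map_one _).symm, img_eq_iff, map_one]
    exact hfpf t ht ((img_eq_iff ρ).1 this)
  · rintro _ ⟨a, ha, rfl⟩ _ ⟨b, hb, rfl⟩
    change img ρ a * img ρ b = img ρ b * img ρ a
    rw [← map_mul, ← map_mul, img_eq_iff]
    exact hcomm a ha b hb

/-- Some non-zero fixed vector. -/
theorem exists_fixed_vector [Nontrivial V] (hr : r.Prime) (hs : s ^ r = 1) (hsT : ∀ t ∈ T, s * t * s⁻¹ ∈ T)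
    (hfpf : ∀ t ∈ T, ρ (s * t) = ρ (t * s) → ρ t = 1) (hTF : ((Fintype.card T : ℕ) : F) ≠ 0)
    (hT0 : ∀ v : V, ∑ t : T, ρ (t : H) v = 0) : ∃ v : V, v ≠ 0 ∧ ρ s v = v := by
  obtain ⟨v, hv⟩ := exists_ne (0 : V)
  by_contra h
  push Not at h
  refine hv (eq_zero_of_orbSum' ρ T hr hs hsT hfpf hTF hT0 fun l _ => ?_)
  by_contra h0
  exact h _ h0 (rho_orbSum ρ hr hs _)

set_option maxHeartbeats 1000000 in
/-- `r * dim C_V(s) ≤ dim V` for a fixed-point-free abelian group. -/
theorem mul_fixed_le_finrank [IsAlgClosed F] [FiniteDimensional F V] (hr : r.Prime) (hs : s ^ r = 1)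
    (hsT : ∀ t ∈ T, s * t * s⁻¹ ∈ T) (hfpf : ∀ t ∈ T, ρ (s * t) = ρ (t * s) → ρ t = 1)
    (hcomm : ∀ a ∈ T, ∀ b ∈ T, ρ (a * b) = ρ (b * a)) (hTF : ((Fintype.card T : ℕ) : F) ≠ 0)
    (hT0 : ∀ v : V, ∑ t : T, ρ (t : H) v = 0) :
    r * finrank F (LinearMap.ker (ρ s - 1)) ≤ finrank F V := by
  classical
  haveI : Fact r.Prime := ⟨hr⟩
  set σ := img ρ s with hσdef
  set A := T.map (img ρ) with hA
  haveI : Finite A := inferInstance
  haveI := Fintype.ofFinite A
  obtain ⟨hAF, hA0⟩ := sum_map_eq_zero ρ T hTF hT0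
  have hσr : σ ^ r = 1 := by rw [hσdef, ← map_pow, hs, map_one]
  have hσA := map_conj_mem ρ T hsT
  have hA1 : ∀ a ∈ A, Commute σ a → a = 1 := by
    rintro _ ⟨t, ht, rfl⟩ hc
    have : img ρ (s * t) = img ρ (t * s) := by rw [map_mul, map_mul]; exact hc
    rw [show (1 : ρ.toHomUnits.range) = img ρ 1 from (map_one _).symm, img_eq_iff, map_one]
    exact hfpf t ht ((img_eq_iff ρ).1 this)
  have hAcomm : ∀ x y : A, x * y = y * x := by
    rintro ⟨_, a, ha, rfl⟩ ⟨_, b, hb, rfl⟩
    refine Subtype.ext ?_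
    change img ρ a * img ρ b = img ρ b * img ρ a
    rw [← map_mul, ← map_mul, img_eq_iff]
    exact hcomm a ha b hb
  letI : CommGroup A := { mul_comm := hAcomm }
  have hexp : ((Monoid.exponent A : ℕ) : F) ≠ 0 := fun h => hAF (by
    obtain ⟨k, hk⟩ := Group.exponent_dvd_card (G := A)
    rw [hk, Nat.cast_mul, h, zero_mul])
  haveI : NeZero ((Monoid.exponent A : ℕ) : F) := ⟨hexp⟩
  obtain ⟨E⟩ := CommGroup.monoidHom_mulEquiv_of_hasEnoughRootsOfUnity A F
  haveI : Finite (A →* Fˣ) := Finite.of_equiv _ E.symm.toEquiv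
  haveI := Fintype.ofFinite (A →* Fˣ)
  set ι := imgRep ρ
  let e : (A →* Fˣ) → Module.End F V := fun χ =>
    (Fintype.card A : F)⁻¹ • ∑ a : A, (((χ a)⁻¹ : Fˣ) : F) • ι a
  have hsum : ∑ χ, e χ = 1 := by
    simp only [e, ← Finset.smul_sum]
    rw [Finset.sum_comm]
    simp only [← Finset.sum_smul]
    have horth : ∀ a : A, ∑ χ : A →* Fˣ, (((χ a)⁻¹ : Fˣ) : F) = if a = 1 then (Fintype.card A : F) else 0 := by
      intro a
      let η : (A →* Fˣ) →* F := (Units.coeHom F).comp
        (MonoidHom.mk' (fun χ => (χ a)⁻¹) fun χ χ' => by simp [mul_comm])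
      change ∑ χ, η χ = _
      rw [sum_hom_units η]
      by_cases ha : a = 1
      · rw [if_pos ha, if_pos, ← Nat.card_eq_fintype_card, ← Nat.card_eq_fintype_card, Nat.card_congr E.toEquiv]
        exact MonoidHom.ext fun χ => by simp [η, ha]
      · rw [if_neg ha, if_neg, Nat.cast_zero]
        intro hη
        obtain ⟨χ, hχ⟩ := CommGroup.exists_apply_ne_one_of_hasEnoughRootsOfUnity A F ha
        exact hχ (inv_eq_one.1 (Units.ext (DFunLike.congr_fun hη χ)))
    simp only [horth, ite_smul, zero_smul]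
    rw [Finset.sum_ite_eq', if_pos (Finset.mem_univ _), smul_smul, inv_mul_cancel₀ hAF, one_smul]
    exact map_one ι
  have hmulA : ∀ (χ : A →* Fˣ) (b : A), ι b * e χ = (χ b : F) • e χ := by
    intro χ b
    simp only [e, mul_smul_comm, Finset.mul_sum, Finset.smul_sum, smul_smul]
    refine Fintype.sum_equiv (Equiv.mulLeft b) _ _ fun a => ?_
    rw [Equiv.coe_mulLeft, Subgroup.coe_mul, map_mul ι, map_mul, mul_inv_rev, Units.val_mul]
    congr 1
    rw [mul_left_comm (χ b : F)]
    congr 1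
    rw [mul_left_comm, Units.mul_inv, mul_one]
  have horth2 : ∀ χ χ' : A →* Fˣ, e χ * e χ' = if χ = χ' then e χ' else 0 := by
    intro χ χ'
    conv_lhs => simp only [e, smul_mul_assoc, Finset.sum_mul]
    change (Fintype.card A : F)⁻¹ • ∑ a : A, (((χ a)⁻¹ : Fˣ) : F) • (ι a * e χ') = _
    simp only [hmulA, smul_smul, ← Finset.sum_smul]
    rw [smul_smul]
    let η : A →* F := (Units.coeHom F).comp (χ⁻¹ * χ')
    have he : ∀ a, η a = (((χ a)⁻¹ : Fˣ) : F) * (χ' a : F) := fun a => Units.val_mul _ _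
    rw [← Finset.sum_congr rfl fun a _ => he a, sum_hom_units η]
    by_cases h : χ = χ'
    · rw [if_pos h, if_pos, inv_mul_cancel₀ hAF, one_mul]
      exact MonoidHom.ext fun a => by rw [he, h, Units.inv_mul]; rfl
    · rw [if_neg h, if_neg, Nat.cast_zero, mul_zero, zero_mul, zero_smul]
      intro hη
      refine h (MonoidHom.ext fun a => ?_)
      have h1 : (χ a)⁻¹ * χ' a = 1 := Units.ext (DFunLike.congr_fun hη a)
      exact inv_mul_eq_one.1 h1
  have he1 : e 1 = 0 := by
    refine LinearMap.ext fun v => ?_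
    simp only [e, MonoidHom.one_apply, inv_one, Units.val_one, one_smul, LinearMap.smul_apply,
      LinearMap.coe_sum, Finset.sum_apply]
    rw [hA0 v, smul_zero, LinearMap.zero_apply]
  -- conjugation by `s` on characters
  let cA : A →* A := MonoidHom.mk' (fun a => ⟨σ * a * σ⁻¹, hσA a a.2⟩) fun a b => Subtype.ext (by
    simp only [Subgroup.coe_mul]; group)
  have hcpow : ∀ (i : ℕ) (a : A), (((cA : A → A)^[i]) a : ρ.toHomUnits.range) = σ ^ i * a * (σ ^ i)⁻¹ := by
    intro i
    induction i with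
    | zero => intro a; simp
    | succ i ih =>
      intro a
      rw [Function.iterate_succ_apply']
      change σ * _ * σ⁻¹ = _
      rw [ih, pow_succ']; group
  let mv : (A →* Fˣ) → (A →* Fˣ) := fun χ => χ.comp cA
  have hmvi : ∀ (i : ℕ) (χ : A →* Fˣ) (a : A), (mv^[i] χ) a = χ ((cA : A → A)^[i] a) := by
    intro i
    induction i with
    | zero => intro χ a; rfl
    | succ i ih =>
      intro χ a
      rw [Function.iterate_succ_apply, ih, Function.iterate_succ_apply']
      rfl
  have hmvr : ∀ χ, mv^[r] χ = χ := fun χ => MonoidHom.ext fun a => by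
    rw [hmvi]; congr 1; exact Subtype.ext (by rw [hcpow, hσr]; simp)
  have hfree : ∀ χ, χ ≠ 1 → ∀ i ∈ Finset.range r, i ≠ 0 → mv^[i] χ ≠ χ := by
    intro χ hχ i hi hi0 hfix
    refine hχ ?_
    have hbij : Function.Bijective fun a : A => ((cA : A → A)^[i] a) * a⁻¹ := by
      refine Finite.injective_iff_bijective.1 fun a b hab => ?_
      have h1 : (cA : A → A)^[i] (a * b⁻¹) = a * b⁻¹ := by
        have h2 : (cA : A → A)^[i] (a * b⁻¹) = (cA : A → A)^[i] a * ((cA : A → A)^[i] b)⁻¹ :=
          Subtype.ext (by simp only [hcpow, Subgroup.coe_mul, Subgroup.coe_inv]; group)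
        rw [h2, mul_inv_eq_iff_eq_mul.1 hab, mul_assoc _ _ a, mul_comm _ (b⁻¹ * a), mul_inv_cancel_right,
          mul_comm]
      have h3 : σ ^ i * (a * b⁻¹ : A) * (σ ^ i)⁻¹ = (a * b⁻¹ : A) := by
        rw [← hcpow]; exact congrArg Subtype.val h1
      exact mul_inv_eq_one.1 (Subtype.ext (hA1 _ (a * b⁻¹ : A).2 (commute_of_pow hr hσr
        (not_dvd_of_range hr hi hi0) (mul_inv_eq_iff_eq_mul.1 h3))))
    refine MonoidHom.ext fun a => ?_
    obtain ⟨b, hb⟩ := hbij.2 a
    rw [← hb, map_mul, map_inv, ← hmvi, hfix, mul_inv_cancel]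
    rfl
  have hconj : ∀ χ, ι σ * e (mv χ) = e χ * ι σ := by
    intro χ
    simp only [e, mul_smul_comm, smul_mul_assoc, Finset.mul_sum, Finset.sum_mul]
    congr 1
    have hb : Function.Bijective cA := Finite.injective_iff_bijective.1 fun a b h =>
      Subtype.ext (mul_left_cancel (mul_right_cancel (congrArg Subtype.val h)))
    refine Fintype.sum_equiv (Equiv.ofBijective cA hb) _ _ fun a => ?_
    change (((χ (cA a))⁻¹ : Fˣ) : F) • (ι σ * ι a) = (((χ (cA a))⁻¹ : Fˣ) : F) • (ι (σ * a * σ⁻¹) * ι σ)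
    rw [← map_mul, ← map_mul, inv_mul_cancel_right]
  have hconji : ∀ (i : ℕ) χ, ι (σ ^ i) * e (mv^[i] χ) = e χ * ι (σ ^ i) := by
    intro i
    induction i with
    | zero => intro χ; simp
    | succ i ih =>
      intro χ
      rw [Function.iterate_succ_apply', pow_succ, map_mul, mul_assoc, hconj, ← mul_assoc, ih, mul_assoc]
  -- representatives of the cycles
  let P : Equiv.Perm (A →* Fˣ) :=
    { toFun := mv, invFun := mv^[r - 1]
      left_inv := fun χ => by
        rw [← Function.iterate_succ_apply, Nat.succ_eq_add_one, Nat.sub_add_cancel hr.one_le, hmvr]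
      right_inv := fun χ => by
        rw [← Function.iterate_succ_apply' mv, Nat.succ_eq_add_one, Nat.sub_add_cancel hr.one_le, hmvr] }
  let rep : (A →* Fˣ) → (A →* Fˣ) := fun χ => (Quotient.mk'' χ : MulAction.orbitRel.Quotient (Subgroup.zpowers P) _).out
  have hrep : ∀ χ, ∃ i ∈ Finset.range r, mv^[i] (rep χ) = χ := by
    intro χ
    obtain ⟨k, hk⟩ : χ ∈ MulAction.orbit (Subgroup.zpowers P) (rep χ) :=
      MulAction.orbitRel_apply.1 (Quotient.exact' (Quotient.out_eq' _).symm)
    obtain ⟨n, hn⟩ := ((isOfFinOrder_of_finite P).mem_powers_iff_mem_zpowers.2 k.2)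
    have hP : ∀ n χ, (P ^ n) χ = mv^[n] χ := fun n χ => by
      induction n with
      | zero => rfl
      | succ n ih => rw [pow_succ', Equiv.Perm.mul_apply, ih, Function.iterate_succ_apply']; rfl
    refine ⟨n % r, Finset.mem_range.2 (Nat.mod_lt _ hr.pos), ?_⟩
    have h1 : mv^[r * (n / r)] (rep χ) = rep χ := by
      rw [Function.iterate_mul]; exact Function.iterate_fixed (hmvr _) _
    have h2 : mv^[n] (rep χ) = χ := by
      rw [← hP, show (P ^ n : Equiv.Perm _) = k from hn]; exact hk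
    rw [← Nat.mod_add_div n r, Function.iterate_add_apply, h1] at h2
    exact h2
  have hrep2 : ∀ χ, rep (mv χ) = rep χ := by
    intro χ
    change Quotient.out _ = Quotient.out _
    congr 1
    exact Quotient.sound' (MulAction.orbitRel_apply.2 ⟨⟨P, Subgroup.mem_zpowers P⟩, rfl⟩)
  have hrepi : ∀ (i : ℕ) χ, rep (mv^[i] χ) = rep χ := by
    intro i
    induction i with
    | zero => intro χ; rfl
    | succ i ih => intro χ; rw [Function.iterate_succ_apply', hrep2, ih]
  let O := Finset.univ.filter fun χ : A →* Fˣ => rep χ = χ ∧ χ ≠ 1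
  set K := LinearMap.ker (ρ s - 1) with hK
  have hfixK : ∀ (i : ℕ) (c : K), ι (σ ^ i) (c : V) = c := by
    intro i c
    induction i with
    | zero => simp
    | succ i ih =>
      rw [pow_succ, map_mul, Module.End.mul_apply, show ι σ = ρ s from rfl,
        show ρ s (c : V) = c from sub_eq_zero.1 (LinearMap.mem_ker.1 c.2), ih]
  let L : (Fin r → K) →ₗ[F] V :=
    ∑ i : Fin r, (ι (σ ^ (i : ℕ)) * ∑ χ ∈ O, e χ) ∘ₗ K.subtype ∘ₗ LinearMap.proj i
  have hL : Function.Injective L := by
    refine (injective_iff_map_eq_zero L).2 fun c hc => funext fun j => ?_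
    have hkey : ∀ χ ∈ O, e χ (c j : V) = 0 := by
      intro χ₀ hχ₀
      obtain ⟨hrep0, hne0⟩ := (Finset.mem_filter.1 hχ₀).2
      -- the component at the `j`-th translate
      obtain ⟨m, hm⟩ : ∃ m, m = (r - (j : ℕ)) % r := ⟨_, rfl⟩
      have hjm : σ ^ (j : ℕ) * σ ^ m = 1 := by
        rw [← pow_add, hm, ← Nat.mod_add_div ((j : ℕ) + (r - j) % r) r, pow_add, pow_mul, hσr, one_pow, mul_one,
          Nat.add_mod_mod, Nat.add_sub_cancel' j.2.le, Nat.mod_self, pow_zero]
      have h1 : ι (σ ^ (j : ℕ)) (e χ₀ (ι (σ ^ m) (L c))) = 0 := by rw [hc, map_zero, map_zero, map_zero]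
      simp only [L, LinearMap.coe_sum, Finset.sum_apply, LinearMap.comp_apply, LinearMap.proj_apply,
        Submodule.subtype_apply, Module.End.mul_apply, map_sum] at h1
      rw [Finset.sum_eq_single j] at h1
      · rw [Finset.sum_eq_single χ₀] at h1
        · rw [← Module.End.mul_apply (ι (σ ^ m)), ← map_mul, ← pow_add, Nat.add_comm, pow_add, hjm, map_one,
            Module.End.one_apply, ← Module.End.mul_apply (e χ₀), horth2, if_pos rfl] at h1
          exact (LinearMap.map_eq_zero_iff _ (rho_injective (imgRep ρ) _)).1 h1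
        · intro χ _ hne
          rw [← Module.End.mul_apply (ι (σ ^ m)), ← map_mul, ← pow_add, Nat.add_comm, pow_add, hjm, map_one,
            Module.End.one_apply, ← Module.End.mul_apply (e χ₀), horth2, if_neg (Ne.symm hne),
            LinearMap.zero_apply, map_zero]
        · exact fun h => absurd hχ₀ h
      · intro i _ hij
        refine Finset.sum_eq_zero fun χ hχ => ?_
        obtain ⟨hrepχ, hneχ⟩ := (Finset.mem_filter.1 hχ).2
        rw [← Module.End.mul_apply (ι (σ ^ m)), ← map_mul, ← pow_add, ← Module.End.mul_apply (e χ₀), ← hconji,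
          Module.End.mul_apply, ← Module.End.mul_apply (e _), horth2, if_neg, LinearMap.zero_apply, map_zero, map_zero]
        intro heq
        have h2 := congrArg rep heq
        rw [hrepi, hrep0, hrepχ] at h2
        subst h2
        refine hfree χ₀ hne0 ((m + i) % r) (Finset.mem_range.2 (Nat.mod_lt _ hr.pos)) ?_ ?_
        · intro h0
          refine hij (Fin.ext ?_)
          rw [hm, Nat.mod_add_mod] at h0
          have := j.2
          have := i.2
          obtain ⟨k, hk⟩ := Nat.dvd_of_mod_eq_zero h0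
          rcases Nat.lt_trichotomy k 1 with hk1 | hk1 | hk1
          · have : k = 0 := by omega
            subst this; omega
          · subst hk1; omega
          · have : r * 2 ≤ r * k := Nat.mul_le_mul_left r hk1
            omega
        · rw [← Nat.mod_add_div (m + i) r, Function.iterate_add_apply, Function.iterate_mul,
            Function.iterate_fixed (hmvr _)] at heq
          exact heq
      · exact fun h => absurd (Finset.mem_univ j) h
    refine Subtype.ext ?_
    calc (c j : V) = (∑ χ, e χ) (c j : V) := by rw [hsum, Module.End.one_apply]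
      _ = 0 := by
        rw [LinearMap.coe_sum, Finset.sum_apply]
        refine Finset.sum_eq_zero fun χ _ => ?_
        by_cases h1 : χ = 1
        · rw [h1, he1, LinearMap.zero_apply]
        obtain ⟨i, hi, hiχ⟩ := hrep χ
        have hrO : rep χ ∈ O := by
          refine Finset.mem_filter.2 ⟨Finset.mem_univ _, ?_, fun h => h1 ?_⟩
          · conv_rhs => rw [← hiχ, hrepi]
          · rw [← hiχ, h]
            exact Function.iterate_fixed (MonoidHom.ext fun a => rfl) i
        have h2 : ι (σ ^ i) (e χ (c j : V)) = 0 := by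
          rw [← hiχ, ← Module.End.mul_apply, hconji, Module.End.mul_apply, hfixK, hkey _ hrO]
        exact (LinearMap.map_eq_zero_iff _ (rho_injective (imgRep ρ) _)).1 h2
  have h1 := LinearMap.finrank_le_finrank_of_injective hL
  haveI := Module.Free.of_divisionRing F K
  rwa [Module.finrank_pi_fintype, Finset.sum_const, Finset.card_univ, Fintype.card_fin, smul_eq_mul] at h1

end Cfsg.Lib.FitHeight
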