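import Cfsg.Agent.FitHeight.Eigen
import Cfsg.Agent.Coprime.CommutatorFixedGeneration

/-!
A `q`-group of class two in a faithful linear group, with an automorphism of prime order.
-/

set_option autoImplicit false
set_option linter.unusedSectionVars false
set_option linter.style.haveILetI false
set_option linter.unusedVariables false

namespace Cfsg.Lib.FitHeight

open scoped commutatorElement

universe u v w

variable {F : Type u} [Field F] {V : Type v} [AddCommGroup V] [Module F V] {H : Type w} [Group H] [Finite H]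
  (ρ : H →* Module.End F V)

/-- The sum over a subgroup. -/
noncomputable def tSum (A : Subgroup H) : Module.End F V :=
  letI := Fintype.ofFinite A
  ∑ t : A, ρ (t : H)

theorem tSum_apply (A : Subgroup H) [Fintype A] (v : V) : tSum ρ A v = ∑ t : A, ρ (t : H) v := by
  rw [tSum, LinearMap.sum_apply]
  convert rfl

theorem tSum_rho_right {A : Subgroup H} {a : H} (ha : a ∈ A) (v : V) : tSum ρ A (ρ a v) = tSum ρ A v := by
  haveI := Fintype.ofFinite A
  rw [tSum_apply, tSum_apply]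
  exact Fintype.sum_equiv (Equiv.mulRight (⟨a, ha⟩ : A)) _ _ fun t => by rw [rho_rho]; rfl

theorem rho_tSum {A : Subgroup H} {a : H} (ha : a ∈ A) (v : V) : ρ a (tSum ρ A v) = tSum ρ A v := by
  haveI := Fintype.ofFinite A
  rw [tSum_apply, map_sum]
  exact Fintype.sum_equiv (Equiv.mulLeft (⟨a, ha⟩ : A)) _ _ fun t => by rw [rho_rho]; rfl

theorem tSum_conj {A : Subgroup H} {g : H} (hg : ∀ t ∈ A, g * t * g⁻¹ ∈ A) (v : V) :
    tSum ρ A (ρ g v) = ρ g (tSum ρ A v) := by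
  haveI := Fintype.ofFinite A
  rw [tSum_apply, tSum_apply, map_sum]
  let f : A → A := fun t => ⟨g * t * g⁻¹, hg t t.2⟩
  have hf : Function.Bijective f := Finite.injective_iff_bijective.1 fun a b h =>
    Subtype.ext (mul_left_cancel (mul_right_cancel (congrArg Subtype.val h)))
  refine (Fintype.sum_bijective f hf _ _ fun t => ?_).symm
  rw [rho_rho, rho_rho]
  congr 2
  change g * (t : H) = g * (t : H) * g⁻¹ * g
  group

theorem tSum_of_fixed {A : Subgroup H} {v : V} (h : ∀ t ∈ A, ρ t v = v) :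
    tSum ρ A v = ((Nat.card A : ℕ) : F) • v := by
  haveI := Fintype.ofFinite A
  rw [tSum_apply, Finset.sum_congr rfl fun (t : A) _ => h t t.2, Finset.sum_const, Finset.card_univ,
    Nat.card_eq_fintype_card, Nat.cast_smul_eq_nsmul]

theorem tSum_eq_zero_of_le {A B : Subgroup H} (hAB : A ≤ B) (hA : ((Nat.card A : ℕ) : F) ≠ 0) {v : V}
    (h : tSum ρ A v = 0) : tSum ρ B v = 0 := by
  haveI := Fintype.ofFinite A
  have h1 : ((Nat.card A : ℕ) : F) • tSum ρ B v = tSum ρ B (tSum ρ A v) := by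
    rw [tSum_apply ρ A, map_sum, Finset.sum_congr rfl fun (t : A) _ => tSum_rho_right ρ (hAB t.2) v,
      Finset.sum_const, Finset.card_univ, Nat.card_eq_fintype_card, Nat.cast_smul_eq_nsmul]
  rw [h, map_zero] at h1
  exact (smul_eq_zero.1 h1).resolve_left hA

theorem tSum_eq_zero_of_eigen {A : Subgroup H} {t : H} (ht : t ∈ A) {c : F} (hc : c ≠ 1) {v : V}
    (h : ρ t v = c • v) : tSum ρ A v = 0 := by
  have h1 := tSum_rho_right ρ ht v
  rw [h, map_smul] at h1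
  refine (smul_eq_zero.1 ?_).resolve_left (sub_ne_zero.2 hc)
  rw [sub_smul, one_smul, h1, sub_self]

/-- The standing hypotheses on a section with its module. -/
structure Frame (X Z : Subgroup H) (s : H) (r q : ℕ) : Prop where
  inj : Function.Injective ρ
  hr : r.Prime
  hs : s ^ r = 1
  hrF : (r : F) ≠ 0
  hq : q.Prime
  hqF : (q : F) ≠ 0
  hqr : q ≠ r
  nX : X.Normal
  nZ : Z.Normal
  pX : IsPGroup q X
  hZX : Z ≤ X
  com : ⁅X, X⁆ ≤ Z
  gen : Z ≤ ⁅X, X⁆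
  cen : ∀ z ∈ Z, ∀ x ∈ X, Commute z x
  pow : ∀ x ∈ X, x ^ q ∈ Z
  hT0 : ∀ v : V, (∀ x ∈ X, ρ x v = v) → v = 0

/-- An element trivial on the fixed vectors moved by a group. -/
def Bad (T : Subgroup H) (s e : H) : Prop := ∀ v : V, tSum ρ T v = 0 → ρ s v = v → ρ e v = v

variable {ρ} {X Z : Subgroup H} {s : H} {r q : ℕ}

namespace Frame

variable (h : Frame ρ X Z s r q)
include h

theorem fact_q : Fact q.Prime := ⟨h.hq⟩

theorem card_cast {A : Subgroup H} (hA : A ≤ X) : ((Nat.card A : ℕ) : F) ≠ 0 := by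
  haveI := h.fact_q
  obtain ⟨m, hm⟩ := IsPGroup.iff_card.1 (h.pX.to_le hA)
  rw [hm, Nat.cast_pow]
  exact pow_ne_zero _ h.hqF

theorem not_dvd_card {A : Subgroup H} (hA : A ≤ X) : ¬ r ∣ Nat.card A := by
  haveI := h.fact_q
  obtain ⟨m, hm⟩ := IsPGroup.iff_card.1 (h.pX.to_le hA)
  rw [hm]
  exact fun hd => h.hqr ((Nat.prime_dvd_prime_iff_eq h.hr h.hq).1 (h.hr.dvd_of_dvd_pow hd)).symm

theorem cop_card {A : Subgroup H} (hA : A ≤ X) :
    (Nat.card (Subgroup.zpowers s)).Coprime (Nat.card A) := by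
  rw [Nat.card_zpowers]
  exact (h.hr.coprime_iff_not_dvd.2 (h.not_dvd_card hA)).coprime_dvd_left (orderOf_dvd_of_pow_eq_one h.hs)

/-- The moved part. -/
theorem mv_le : ⁅X, Subgroup.zpowers s⁆ ≤ X := by
  haveI := h.nX
  exact Subgroup.commutator_le_left _ _

theorem zm_le_Z : ⁅Z, Subgroup.zpowers s⁆ ≤ Z := by
  haveI := h.nZ
  exact Subgroup.commutator_le_left _ _

theorem zm_le_mv : ⁅Z, Subgroup.zpowers s⁆ ≤ ⁅X, Subgroup.zpowers s⁆ := Subgroup.commutator_mono h.hZX le_rfl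

theorem comm_Z {a b : H} (ha : a ∈ Z) (hb : b ∈ Z) : Commute a b := h.cen a ha b (h.hZX hb)

theorem mv_fixed {c : H} (hc : c ∈ ⁅X, Subgroup.zpowers s⁆) (hcs : Commute s c) : c ∈ Z := by
  haveI := h.nX
  haveI := h.nZ
  exact Cfsg.Lib.CommFixedGen.mem_of_fixed_of_mem_commutator (B := Subgroup.zpowers s) (D := X) (V := Z)
    (by rw [Subgroup.normalizer_eq_top_iff.2 h.nX]; exact le_top)
    (by rw [Subgroup.normalizer_eq_top_iff.2 h.nZ]; exact le_top) h.hZX h.com (h.cop_card le_rfl)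
    (Subgroup.mem_sup_left hc) (Subgroup.mem_centralizer_iff.2 fun y hy => by
      obtain ⟨i, rfl⟩ := Subgroup.mem_zpowers_iff.1 hy
      exact (hcs.zpow_left i).eq)

theorem zm_fixed {z : H} (hz : z ∈ ⁅Z, Subgroup.zpowers s⁆) (hzs : Commute s z) : z = 1 := by
  haveI := h.nZ
  refine Subgroup.mem_bot.1 (Cfsg.Lib.CommFixedGen.mem_of_fixed_of_mem_commutator (B := Subgroup.zpowers s) (D := Z) (V := ⊥)
    (by rw [Subgroup.normalizer_eq_top_iff.2 h.nZ]; exact le_top)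
    (by rw [Subgroup.normalizer_eq_top_iff.2 (inferInstance : (⊥ : Subgroup H).Normal)]; exact le_top) bot_le
    (Subgroup.commutator_le.2 fun a ha b hb => by
      rw [Subgroup.mem_bot, commutatorElement_eq_one_iff_commute]; exact h.comm_Z ha hb) (h.cop_card h.hZX)
    (Subgroup.mem_sup_left hz) (Subgroup.mem_centralizer_iff.2 fun y hy => by
      obtain ⟨i, rfl⟩ := Subgroup.mem_zpowers_iff.1 hy
      exact (hzs.zpow_left i).eq))

theorem nrm_of_commute {A : Subgroup H} [A.Normal] {g : H} (hg : Commute g s) {t : H}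
    (ht : t ∈ ⁅A, Subgroup.zpowers s⁆) : g * t * g⁻¹ ∈ ⁅A, Subgroup.zpowers s⁆ := by
  have e : (⁅A, Subgroup.zpowers s⁆).map (MulAut.conj g).toMonoidHom = ⁅A, Subgroup.zpowers s⁆ := by
    rw [Subgroup.map_commutator, MonoidHom.map_zpowers]
    congr 1
    · exact Cfsg.Lib.Coprime.conjMap_eq_self (by rw [Subgroup.normalizer_eq_top_iff.2 inferInstance]; trivial)
    · congr 1
      simp [MulAut.conj_apply, hg.eq]
  rw [← e]
  exact ⟨t, ht, rfl⟩

theorem mv_nrm {g : H} (hg : Commute g s) : ∀ t ∈ ⁅X, Subgroup.zpowers s⁆, g * t * g⁻¹ ∈ ⁅X, Subgroup.zpowers s⁆ := by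
  haveI := h.nX
  exact fun t ht => h.nrm_of_commute hg ht

theorem zm_nrm {g : H} (hg : Commute g s) : ∀ t ∈ ⁅Z, Subgroup.zpowers s⁆, g * t * g⁻¹ ∈ ⁅Z, Subgroup.zpowers s⁆ := by
  haveI := h.nZ
  exact fun t ht => h.nrm_of_commute hg ht

/-- On the vectors fixed by the moved centre, `s` commutes with the centre. -/
theorem s_comm_Z {v : V} (hv : ∀ z ∈ ⁅Z, Subgroup.zpowers s⁆, ρ z v = v) {z : H} (hz : z ∈ Z) :
    ρ (s * z) v = ρ (z * s) v := by
  have h1 : ⁅z, s⁆⁻¹ ∈ ⁅Z, Subgroup.zpowers s⁆ :=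
    inv_mem (Subgroup.commutator_mem_commutator hz (Subgroup.mem_zpowers s))
  rw [show s * z = z * s * (s⁻¹ * z⁻¹ * s * z) by group, ← rho_rho ρ (z * s)]
  congr 1
  refine hv _ ?_
  have h2 : s⁻¹ * z⁻¹ * ⁅z, s⁆⁻¹ * (s⁻¹ * z⁻¹)⁻¹ ∈ ⁅Z, Subgroup.zpowers s⁆ := by
    haveI := h.nZ
    have h3 : s⁻¹ * ⁅z, s⁆⁻¹ * s⁻¹⁻¹ ∈ ⁅Z, Subgroup.zpowers s⁆ :=
      h.nrm_of_commute (Commute.refl s).inv_left h1
    have h4 : ⁅z, s⁆⁻¹ ∈ Z := h.zm_le_Z h1
    rwa [show s⁻¹ * z⁻¹ * ⁅z, s⁆⁻¹ * (s⁻¹ * z⁻¹)⁻¹ = s⁻¹ * ⁅z, s⁆⁻¹ * s⁻¹⁻¹ by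
      rw [mul_inv_rev, inv_inv, inv_inv, show s⁻¹ * z⁻¹ * ⁅z, s⁆⁻¹ * (z * s) = s⁻¹ * (z⁻¹ * ⁅z, s⁆⁻¹ * z) * s by group,
        (h.comm_Z (inv_mem hz) h4).eq]
      group]
  convert h2 using 1
  simp only [commutatorElement_def]; group

variable [FiniteDimensional F V]

/-- Elements trivial on the moved fixed vectors are trivial on the whole moved part. -/
theorem eq_on_moved {g : H} (hg : Commute g s) (hgr : ¬ r ∣ orderOf g)
    (hfix : ∀ v, tSum ρ ⁅Z, Subgroup.zpowers s⁆ v = 0 → ρ s v = v → ρ g v = v) :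
    ∀ v, tSum ρ ⁅Z, Subgroup.zpowers s⁆ v = 0 → ρ g v = v := by
  classical
  haveI := h.nZ
  set A := ⁅Z, Subgroup.zpowers s⁆ with hA
  set U := LinearMap.ker (tSum ρ A) with hU
  have hmem : ∀ g : H, (∀ t ∈ A, g * t * g⁻¹ ∈ A) → g ∈ stab ρ U := fun g hgA => mem_stab_of_forall ρ fun x hx => by
    rw [hU, LinearMap.mem_ker, tSum_conj ρ hgA, LinearMap.mem_ker.1 hx, map_zero]
  have hAU : A ≤ stab ρ U := fun a ha => hmem a fun t ht => mul_mem (mul_mem ha ht) (inv_mem ha)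
  have hsA := h.zm_nrm (Commute.refl s)
  haveI := Fintype.ofFinite (A.subgroupOf (stab ρ U))
  haveI := Fintype.ofFinite A
  have key := eq_one_of_fixes' (subRep ρ U) (A.subgroupOf (stab ρ U)) (s := ⟨s, hmem s hsA⟩) (d := ⟨g, hmem g (h.zm_nrm hg)⟩)
    h.hr (Subtype.ext h.hs) (fun t ht => hsA _ ht) (fun t ht htc => ?_) (fun a ha b hb => ?_) ?_ ?_
    (Subtype.ext hg.eq) (fun t ht => h.zm_nrm hg _ ht) (by rwa [Subgroup.orderOf_mk])
    (fun v hv => Subtype.ext (hfix v (LinearMap.mem_ker.1 v.2) (congrArg Subtype.val hv)))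
  · exact fun v hv => congrArg Subtype.val (LinearMap.congr_fun key ⟨v, LinearMap.mem_ker.2 hv⟩)
  · -- fixed elements of the image
    let K : Subgroup (stab ρ U) := A.subgroupOf (stab ρ U) ⊓ (subRep ρ U).toHomUnits.ker
    have hKmem : ∀ x, x ∈ K ↔ (x : H) ∈ A ∧ subRep ρ U x = 1 := fun x => by
      rw [Subgroup.mem_inf, Subgroup.mem_subgroupOf, MonoidHom.mem_ker, Units.ext_iff]
      rfl
    haveI := Fact.mk h.hr
    have h1 : t⁻¹ * ⟨s, hmem s hsA⟩ * t * (⟨s, hmem s hsA⟩ : stab ρ U)⁻¹ ∈ K := by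
      refine (hKmem _).2 ⟨?_, ?_⟩
      · change (t : H)⁻¹ * s * t * s⁻¹ ∈ A
        rw [mul_assoc, mul_assoc, ← mul_assoc s]
        exact mul_mem (inv_mem ht) (hsA _ ht)
      · rw [mul_assoc (t⁻¹), map_mul, map_mul _ t⁻¹, htc, map_mul _ t, ← mul_assoc, ← map_mul, inv_mul_cancel, map_one,
          one_mul, ← map_mul, mul_inv_cancel, map_one]
    obtain ⟨u, hu, huc⟩ := exists_fixed_coset K (g := ⟨s, hmem s hsA⟩) (p := r) (n := 1)
      (Subtype.ext (by simpa using h.hs))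
      (fun hd => h.not_dvd_card (h.zm_le_Z.trans h.hZX) (hd.trans ((Subgroup.card_dvd_of_le inf_le_left).trans
        (dvd_of_eq (Nat.card_congr (Subgroup.subgroupOfEquivOfLe hAU).toEquiv)))))
      (fun u hu => by
        obtain ⟨hu1, hu2⟩ := (hKmem u).1 hu
        refine (hKmem _).2 ⟨hsA _ hu1, ?_⟩
        rw [map_mul, map_mul, hu2, mul_one, ← map_mul, mul_inv_cancel, map_one]) h1
    have h2 : t * u = 1 := Subtype.ext (h.zm_fixed (mul_mem (show (t : H) ∈ A from ht) ((hKmem u).1 hu).1)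
      (congrArg Subtype.val huc.eq))
    rw [eq_inv_of_mul_eq_one_left h2]
    exact ((hKmem _).1 (inv_mem hu)).2
  · congr 1
    exact Subtype.ext (h.comm_Z (h.zm_le_Z ha) (h.zm_le_Z hb)).eq
  · rw [← Nat.card_eq_fintype_card, Nat.card_congr (Subgroup.subgroupOfEquivOfLe hAU).toEquiv]
    exact h.card_cast (h.zm_le_Z.trans h.hZX)
  · intro v
    refine Subtype.ext ?_
    rw [Submodule.coe_sum, Submodule.coe_zero]
    have h1 := LinearMap.mem_ker.1 v.2
    rw [tSum_apply] at h1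
    exact (Fintype.sum_equiv (Subgroup.subgroupOfEquivOfLe hAU).toEquiv _ _ fun t => rfl).trans h1

theorem bad_moved {e : H} (he : Commute e s) (her : ¬ r ∣ orderOf e)
    (hb : Bad ρ ⁅X, Subgroup.zpowers s⁆ s e) :
    ∀ v, tSum ρ ⁅Z, Subgroup.zpowers s⁆ v = 0 → ρ e v = v :=
  h.eq_on_moved he her fun v hv hvs => hb v
    (tSum_eq_zero_of_le ρ h.zm_le_mv (h.card_cast (h.zm_le_Z.trans h.hZX)) hv) hvs

/-- An element trivial on both parts is trivial. -/
theorem eq_one_of_parts {g : H} (h1 : ∀ v, tSum ρ ⁅Z, Subgroup.zpowers s⁆ v = 0 → ρ g v = v)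
    (h2 : ∀ v, (∀ z ∈ ⁅Z, Subgroup.zpowers s⁆, ρ z v = v) → ρ g v = v) : g = 1 := by
  refine h.inj (LinearMap.ext fun v => ?_)
  set A := ⁅Z, Subgroup.zpowers s⁆
  set c : F := ((Nat.card A : ℕ) : F)
  have hc : c ≠ 0 := h.card_cast (h.zm_le_Z.trans h.hZX)
  have h3 := h2 (tSum ρ A v) fun z hz => rho_tSum ρ hz v
  have h4 := h1 (c • v - tSum ρ A v) (by
    rw [map_sub, map_smul, tSum_of_fixed ρ (fun t ht => rho_tSum ρ ht v), sub_self])
  rw [map_sub, map_smul, h3, sub_left_inj] at h4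
  rw [map_one, Module.End.one_apply]
  exact smul_right_injective V hc h4

end Frame

end Cfsg.Lib.FitHeight
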