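import Cfsg.Agent.FitHeight.Cover

/-!
The first level moved by the automorphism, invariant Sylow subgroups of levels, and commutators with
fixed elements.
-/

set_option autoImplicit false
set_option linter.unusedSectionVars false
set_option linter.style.haveILetI false
set_option linter.unusedVariables false

namespace Cfsg.Lib.FitHeight

open scoped commutatorElement

universe u

variable {Γ : Type u} [Group Γ] [Finite Γ] {G : Subgroup Γ} {n : ℕ} {s : Γ} {r : ℕ}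

/-- `s` commutes with the action of `G` on the first moved level. -/
theorem Tower.comm_mem_cgrp [G.Normal] (T : Tower G n) (hS : Setting G s r n) {k : ℕ} (hk : k ≤ n)
    (hfix : ∀ l < k, l ≤ n → T.FixedAt s l) {g : Γ} (hg : g ∈ G) :
    ⁅s, g⁆ ∈ cgrp (h := T.nL k) (T.X k) (T.L k) := by
  haveI := T.nX
  haveI := T.nL
  set C := cgrp (T.X k) (T.L k)
  let S : Subgroup Γ := (Subgroup.centralizer {QuotientGroup.mk' C s}).comap (QuotientGroup.mk' C)
  have hmem : ∀ g, g ∈ S ↔ ⁅s, g⁆ ∈ C := fun g => by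
    rw [Subgroup.mem_comap, Subgroup.mem_centralizer_iff, ← QuotientGroup.eq_one_iff, ← QuotientGroup.mk'_apply,
      map_commutatorElement, commutatorElement_eq_one_iff_mul_comm]
    exact ⟨fun h => h _ rfl, fun h x hx => by rw [Set.mem_singleton_iff.1 hx]; exact h⟩
  suffices h : G ≤ S from (hmem g).1 (h hg)
  rw [← T.generate hS hfix]
  refine sup_le (fun u hu => (hmem u).2 ?_) fun c hc => (hmem c).2 ?_
  · have huC : u ∈ C := T.upper_le_cgrp hk hu
    rw [show ⁅s, u⁆ = (s * u * s⁻¹) * u⁻¹ from rfl]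
    exact mul_mem ((inferInstance : C.Normal).conj_mem u huC s) (inv_mem huC)
  · rw [commutatorElement_eq_one_iff_mul_comm.2 (mem_cfix.1 hc).2.eq]
    exact one_mem C

/-- `s` has no fixed points on the first moved level. -/
theorem Tower.no_fix [G.Normal] (T : Tower G n) (hS : Setting G s r n) {k : ℕ} (hk : k ≤ n)
    (hfix : ∀ l < k, l ≤ n → T.FixedAt s l) (hmov : ¬ T.FixedAt s k) {x : Γ} (hx : x ∈ T.X k)
    (hxs : ⁅s, x⁆ ∈ T.L k) : x ∈ T.L k := by
  haveI := T.nX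
  haveI := T.nL
  set π := QuotientGroup.mk' (T.L k) with hπ
  have hc : ∀ g, ⁅s, g⁆ ∈ T.L k ↔ Commute (π s) (π g) := fun g => by
    rw [← commutatorElement_eq_one_iff_commute, ← map_commutatorElement, hπ, QuotientGroup.mk'_apply,
      QuotientGroup.eq_one_iff]
  let Y : Subgroup Γ := T.X k ⊓ (Subgroup.centralizer {π s}).comap π
  have hmem : ∀ g, g ∈ Y ↔ g ∈ T.X k ∧ ⁅s, g⁆ ∈ T.L k := fun g => by
    simp [Y, hc, Subgroup.mem_centralizer_iff, Commute, SemiconjBy]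
  have hinv : ∀ g : Γ, ⁅s, g⁆ ∈ cgrp (T.X k) (T.L k) → ∀ y ∈ Y, g * y * g⁻¹ ∈ Y := by
    intro g hg y hy
    obtain ⟨hyX, hys⟩ := (hmem y).1 hy
    have hgy : g * y * g⁻¹ ∈ T.X k := (T.nX k).conj_mem y hyX g
    refine (hmem _).2 ⟨hgy, (hc _).2 ?_⟩
    have h1 : Commute (π ⁅s, g⁆) (π (g * y * g⁻¹)) := by
      rw [← commutatorElement_eq_one_iff_commute, ← map_commutatorElement]
      exact (QuotientGroup.eq_one_iff _).2 (mem_cgrp.1 hg _ hgy)
    have h2 := (hc y).1 hys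
    simp only [map_mul, map_inv, commutatorElement_def] at h1 ⊢
    calc π s * (π g * π y * (π g)⁻¹)
        = π s * π g * (π s)⁻¹ * (π g)⁻¹ * (π g * (π s * π y) * (π g)⁻¹) := by group
      _ = π s * π g * (π s)⁻¹ * (π g)⁻¹ * (π g * π y * (π g)⁻¹) * (π g * π s * (π g)⁻¹) := by rw [h2.eq]; group
      _ = (π g * π y * (π g)⁻¹) * (π s * π g * (π s)⁻¹ * (π g)⁻¹) * (π g * π s * (π g)⁻¹) := by rw [h1.eq]
      _ = (π g * π y * (π g)⁻¹) * π s := by group
  haveI : Y.Normal := ⟨fun y hy g => by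
    have hall : ∀ g ∈ G, ∀ y ∈ Y, g * y * g⁻¹ ∈ Y := fun g hg => hinv g (T.comm_mem_cgrp hS hk hfix hg)
    have hle : (⊤ : Subgroup Γ) ≤ Subgroup.normalizer (Y : Set Γ) := by
      rw [← hS.htop]
      refine sup_le (fun g hg => ?_) (Subgroup.zpowers_le.2 ?_)
      · exact Cfsg.Lib.Coprime.mem_normalizer_of_conj_mem (hall g hg)
          fun y hy => by simpa using hall g⁻¹ (inv_mem hg) y hy
      · refine Cfsg.Lib.Coprime.mem_normalizer_of_conj_mem (hinv s ?_) fun y hy => ?_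
        · rw [commutatorElement_self]; exact one_mem _
        · have h3 := hinv s⁻¹ (by
            rw [commutatorElement_eq_one_iff_mul_comm.2 (Commute.refl s).inv_right.eq]; exact one_mem _) y hy
          simpa using h3
    exact (Subgroup.mem_normalizer_iff.1 (hle (Subgroup.mem_top g)) y).1 hy⟩
  rcases T.irr k hk Y inferInstance (fun l hl => (hmem l).2 ⟨T.hLX k hk hl, by
      rw [show ⁅s, l⁆ = (s * l * s⁻¹) * l⁻¹ from rfl]
      exact mul_mem ((T.nL k).conj_mem l hl s) (inv_mem hl)⟩) inf_le_left with h | h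
  · exact h.le ((hmem x).2 ⟨hx, hxs⟩)
  · exact absurd (fun y hy => ((hmem y).1 (h.ge hy)).2) hmov

/-- A nontrivially acting invariant subgroup moves the whole first moved level. -/
theorem Tower.le_commutator [G.Normal] (T : Tower G n) (hS : Setting G s r n) {k : ℕ} (hk : k ≤ n)
    (hfix : ∀ l < k, l ≤ n → T.FixedAt s l) (A : Subgroup Γ)
    (hA1 : cfix G s ≤ Subgroup.normalizer (A : Set Γ)) (hA2 : s ∈ Subgroup.normalizer (A : Set Γ))
    (hA : ¬ A ≤ cgrp (h := T.nL k) (T.X k) (T.L k)) : T.X k ≤ ⁅T.X k, A⁆ ⊔ T.L k := by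
  haveI := T.nX
  haveI := T.nL
  set Y := ⁅T.X k, A⁆ ⊔ T.L k with hY
  have hYX : Y ≤ T.X k := sup_le (Subgroup.commutator_le_left _ _) (T.hLX k hk)
  have hnorm : ∀ g : Γ, g ∈ Subgroup.normalizer (A : Set Γ) → g ∈ Subgroup.normalizer (Y : Set Γ) := by
    intro g hg
    have e : ∀ g : Γ, g ∈ Subgroup.normalizer (A : Set Γ) → ∀ y ∈ Y, g * y * g⁻¹ ∈ Y := by
      intro g hg y hy
      have h1 : Cfsg.Lib.Coprime.conjMap g Y = Y := by
        rw [hY, Cfsg.Lib.Coprime.conjMap_sup, Cfsg.Lib.Coprime.conjMap, Subgroup.map_commutator]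
        congr 1
        · congr 1
          · exact Cfsg.Lib.Coprime.conjMap_eq_self (by rw [Subgroup.normalizer_eq_top_iff.2 (T.nX k)]; trivial)
          · exact Cfsg.Lib.Coprime.conjMap_eq_self hg
        · exact Cfsg.Lib.Coprime.conjMap_eq_self (by rw [Subgroup.normalizer_eq_top_iff.2 (T.nL k)]; trivial)
      rw [← h1, Cfsg.Lib.Coprime.mem_conjMap]
      simpa [mul_assoc] using hy
    exact Cfsg.Lib.Coprime.mem_normalizer_of_conj_mem (e g hg) fun y hy => by simpa using e g⁻¹ (inv_mem hg) y hy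
  haveI : Y.Normal := T.normal_of_invariant hS hfix Y (fun u hu => by
    have huc := mem_cgrp.1 (T.upper_le_cgrp hk hu)
    have e : ∀ v : Γ, (∀ x ∈ T.X k, ⁅v, x⁆ ∈ T.L k) → ∀ y ∈ Y, v * y * v⁻¹ ∈ Y := fun v hv y hy => by
      rw [show v * y * v⁻¹ = ⁅v, y⁆ * y by simp only [commutatorElement_def]; group]
      exact mul_mem (Subgroup.mem_sup_right (hv y (hYX hy))) hy
    exact Cfsg.Lib.Coprime.mem_normalizer_of_conj_mem (e u huc) fun y hy => by
      simpa using e u⁻¹ (mem_cgrp.1 (inv_mem (T.upper_le_cgrp hk hu))) y hy)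
    (fun c hc => hnorm c (hA1 hc)) (hnorm s hA2)
  rcases T.irr k hk Y inferInstance le_sup_right hYX with h | h
  · exact absurd (fun a ha => mem_cgrp.2 fun x hx => comm_symm_mem
      (h.le (Subgroup.mem_sup_left (Subgroup.commutator_mem_commutator hx ha)))) hA
  · exact h.ge

/-- Invariant Sylow subgroups of a level. -/
theorem Tower.exists_sylow [G.Normal] (T : Tower G n) (hS : Setting G s r n) {j : ℕ} (hj : j ≤ n)
    (U : Subgroup Γ) (hU : U ≤ T.X j) (hUp : IsPGroup (T.q j) U) (hUs : s ∈ Subgroup.normalizer (U : Set Γ)) :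
    ∃ P : Subgroup Γ, Cfsg.IsPiHallOf {p | p = T.q j} P (T.X j) ∧ IsPGroup (T.q j) P ∧ U ≤ P ∧
      s ∈ Subgroup.normalizer (P : Set Γ) ∧ T.X j ≤ P ⊔ T.K j := by
  haveI := T.nX
  haveI := T.nK
  haveI := Fact.mk (T.prime j hj)
  set q := T.q j with hq
  have hXG : T.X j ≤ G := (T.hXR j hj).trans (R_le j G)
  obtain ⟨P, hP, hPs, hUP⟩ := Cfsg.Lib.Coprime.exists_invariantHall_ge (A := Subgroup.zpowers s) (K := T.X j)
    (U := U) (π := {p | p = q})
    (by rw [Subgroup.normalizer_eq_top_iff.2 (T.nX j)]; exact le_top)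
    (by
      rw [Nat.card_zpowers]
      exact ((hS.hr.coprime_iff_not_dvd.2 (hS.not_dvd hXG))).coprime_dvd_left (orderOf_dvd_of_pow_eq_one hS.hs))
    (Cfsg.Lib.Coprime.isSolvable_of_le hXG hS.hsol) hU (Subgroup.zpowers_le.2 hUs)
    (fun p hp hd => by
      obtain ⟨m, hm⟩ := IsPGroup.iff_card.1 hUp
      exact (Nat.prime_dvd_prime_iff_eq hp (T.prime j hj)).1 (hp.dvd_of_dvd_pow (hm ▸ hd)))
  have hPq : IsPGroup q P := IsPGroup.iff_card.2 ⟨_, Nat.eq_prime_pow_of_unique_prime_dvd Nat.card_pos.ne'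
    fun {p} hp hd => hP.2.1 p hp hd⟩
  refine ⟨P, hP, hPq, hUP, Subgroup.zpowers_le.1 hPs, ?_⟩
  rw [← Subgroup.relIndex_eq_one]
  by_contra hne
  obtain ⟨p, hp, hpd⟩ := Nat.exists_prime_and_dvd hne
  have h1 : p ∣ P.relIndex (T.X j) := hpd.trans (Subgroup.relIndex_dvd_of_le_left _ le_sup_left)
  have hpq : p ≠ q := fun h => hP.2.2 p hp h h1
  haveI := Fact.mk hp
  haveI : ((T.K j).subgroupOf (T.X j)).Normal := Subgroup.Normal.subgroupOf (T.nK j) _
  have h2 : IsPGroup q (T.X j ⧸ (T.K j).subgroupOf (T.X j)) := by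
    intro y
    obtain ⟨⟨x, hx⟩, rfl⟩ := QuotientGroup.mk_surjective y
    obtain ⟨m, hm⟩ := T.pgrp j hj x hx
    exact ⟨m, (QuotientGroup.eq_one_iff _).2 hm⟩
  obtain ⟨m, hm⟩ := IsPGroup.iff_card.1 h2
  have h3 : p ∣ (T.K j).relIndex (T.X j) := hpd.trans (Subgroup.relIndex_dvd_of_le_left _ le_sup_right)
  have h4 : p ∣ q ^ m := hm ▸ h3
  exact hpq ((Nat.prime_dvd_prime_iff_eq hp (T.prime j hj)).1 (hp.dvd_of_dvd_pow h4))

/-- Fixed points factor through the normaliser of an invariant Sylow subgroup. -/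
theorem Tower.exists_cfix_normalizer [G.Normal] (T : Tower G n) (hS : Setting G s r n) {j : ℕ} (hj : j ≤ n)
    {P : Subgroup Γ} (hP : Cfsg.IsPiHallOf {p | p = T.q j} P (T.X j))
    (hPs : s ∈ Subgroup.normalizer (P : Set Γ)) {c : Γ} (hc : c ∈ cfix G s) :
    ∃ x ∈ cfix G s ⊓ T.X j, x⁻¹ * c ∈ cfix G s ⊓ Subgroup.normalizer (P : Set Γ) := by
  haveI := T.nX
  have hXG : T.X j ≤ G := (T.hXR j hj).trans (R_le j G)
  have hXn : ∀ g : Γ, g ∈ Subgroup.normalizer (T.X j : Set Γ) := fun g => by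
    rw [Subgroup.normalizer_eq_top_iff.2 (T.nX j)]; trivial
  obtain ⟨x, hx, hxP⟩ := Cfsg.Lib.Coprime.invariantHall_conj (A := Subgroup.zpowers s) (K := T.X j)
    (fun g _ => hXn g) (by
      rw [Nat.card_zpowers]
      exact ((hS.hr.coprime_iff_not_dvd.2 (hS.not_dvd hXG))).coprime_dvd_left (orderOf_dvd_of_pow_eq_one hS.hs))
    (Cfsg.Lib.Coprime.isSolvable_of_le hXG hS.hsol) hP (Subgroup.zpowers_le.2 hPs)
    (Q := Cfsg.Lib.Coprime.conjMap c P) (by
      refine ⟨?_, fun p hp hd => hP.2.1 p hp (by rwa [Cfsg.Lib.Coprime.card_conjMap] at hd), fun p hp hpm hd => hP.2.2 p hp hpm ?_⟩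
      · conv_rhs => rw [← Cfsg.Lib.Coprime.conjMap_eq_self (hXn c)]
        exact Cfsg.Lib.Coprime.conjMap_mono hP.1
      · have e : (Cfsg.Lib.Coprime.conjMap c P).relIndex (T.X j) = P.relIndex (T.X j) := by
          conv_lhs => rw [← Cfsg.Lib.Coprime.conjMap_eq_self (hXn c)]
          exact Subgroup.relIndex_map_map_of_injective P (T.X j) (MulEquiv.injective _)
        rwa [e] at hd) (by
      rw [Subgroup.zpowers_le, ← Cfsg.Lib.Coprime.conjMap_eq_self_iff, Cfsg.Lib.Coprime.conjMap_mul,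
        (mem_cfix.1 hc).2.eq, ← Cfsg.Lib.Coprime.conjMap_mul, Cfsg.Lib.Coprime.conjMap_eq_self hPs])
  have hxC : x ∈ cfix G s := mem_cfix.2 ⟨hXG hx.1, (Subgroup.mem_centralizer_iff.1 hx.2 s (Subgroup.mem_zpowers s))⟩
  refine ⟨x, ⟨hxC, hx.1⟩, (cfix G s).mul_mem ((cfix G s).inv_mem hxC) hc, ?_⟩
  change x⁻¹ * c ∈ Subgroup.normalizer (P : Set Γ)
  rw [← Cfsg.Lib.Coprime.conjMap_eq_self_iff, ← Cfsg.Lib.Coprime.conjMap_mul, hxP,
    Cfsg.Lib.Coprime.conjMap_inv_conjMap]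

/-- The moved part of a level is carried by an invariant Sylow subgroup. -/
theorem Tower.commutator_le_sup (T : Tower G n) {j : ℕ} (P : Subgroup Γ)
    (hPs : s ∈ Subgroup.normalizer (P : Set Γ)) (hXP : T.X j ≤ P ⊔ T.K j) :
    ⁅T.X j, Subgroup.zpowers s⁆ ≤ ⁅P, Subgroup.zpowers s⁆ ⊔ T.K j := by
  haveI := T.nK
  refine Subgroup.commutator_le.2 fun x hx a ha => ?_
  obtain ⟨p, hp, k, hk, rfl⟩ := Subgroup.mem_sup_of_normal_right.1 (hXP hx)
  rw [show ⁅p * k, a⁆ = ⁅p, a⁆ * (⁅p, a⁆⁻¹ * (p * ⁅k, a⁆ * p⁻¹) * ⁅p, a⁆) by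
    simp only [commutatorElement_def]; group]
  refine Subgroup.mul_mem_sup (Subgroup.commutator_mem_commutator hp ha) ?_
  have h1 : ⁅k, a⁆ ∈ T.K j := by
    rw [show ⁅k, a⁆ = k * (a * k⁻¹ * a⁻¹) by simp only [commutatorElement_def]; group]
    exact mul_mem hk ((T.nK j).conj_mem _ (inv_mem hk) a)
  have h2 := (T.nK j).conj_mem _ ((T.nK j).conj_mem _ h1 p) ⁅p, a⁆⁻¹
  rwa [inv_inv] at h2

/-- A subgroup containing all the twisted commutators is the whole of a moved group. -/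
theorem le_of_twisted {H : Type u} [Group H] [Finite H] {T : Subgroup H} {t : H}
    (hT : ⁅T, Subgroup.zpowers t⁆ = T) (hnorm : ∀ x ∈ T, t * x * t⁻¹ ∈ T) {U : Subgroup H}
    (hU : ∀ l ∈ T, l⁻¹ * t * l * t⁻¹ ∈ U) : T ≤ U := by
  rw [← hT]
  refine Subgroup.commutator_le.2 fun l hl a ha => ?_
  obtain ⟨i, rfl⟩ := (isOfFinOrder_of_finite t).mem_powers_iff_mem_zpowers.2 ha
  clear ha
  change ⁅l, t ^ i⁆ ∈ U
  induction i generalizing l with
  | zero => simp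
  | succ i ih =>
    have h1 := hU l⁻¹ (inv_mem hl)
    have h2 := ih _ (hnorm l hl)
    rw [show ⁅l, t ^ (i + 1)⁆ = ⁅l, t⁆ * ⁅t * l * t⁻¹, t ^ i⁆ by
      rw [pow_succ']
      simp only [commutatorElement_def]
      have e : t * (t ^ i) = t ^ i * t := (Commute.refl t).pow_right i
      calc l * (t * t ^ i) * l⁻¹ * (t * t ^ i)⁻¹
          = l * t * l⁻¹ * t⁻¹ * (t * l * t⁻¹ * (t * t ^ i) * l⁻¹ * (t * t ^ i)⁻¹) := by group
        _ = l * t * l⁻¹ * t⁻¹ * (t * l * t⁻¹ * (t * t ^ i) * l⁻¹ * (t ^ i * t)⁻¹) := by rw [← e]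
        _ = _ := by conv_lhs => arg 2; arg 1; arg 1; arg 2; rw [e]
                    group]
    refine mul_mem ?_ h2
    rw [inv_inv] at h1
    rwa [commutatorElement_def]

/-- Commutators of fixed elements lie in the next residual of the fixed points, up to the kernel. -/
theorem Tower.comm_fix_mem [G.Normal] (T : Tower G n) {j m : ℕ} (hj : j < n) {w d : Γ}
    (hw : w ∈ cfix G s ⊓ T.X (j + 1)) (hd : d ∈ R m (cfix G s)) (hdq : ∃ e, d ^ T.q j ^ e = 1) :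
    ⁅w, d⁆ ∈ (R (m + 1) (cfix G s) ⊓ T.X (j + 1)) ⊔ T.K (j + 1) := by
  haveI := T.nX
  haveI := T.nK
  set C := cfix G s with hC
  set X := T.X (j + 1)
  set K := T.K (j + 1)
  set M := (R (m + 1) C ⊓ X) ⊔ K with hM
  have hp := T.prime (j + 1) hj
  obtain ⟨e, he⟩ := hdq
  have hdC : d ∈ C := R_le m C hd
  have hcX : ⁅w, d⁆ ∈ X := comm_symm_mem (T.comm_mem_X (j + 1) d hw.2)
  obtain ⟨u, hu, ⟨e', he'⟩, huc⟩ := exists_qpart K ⁅w, d⁆ hp (T.pgrp _ hj _ hcX)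
  have huR : u ∈ R m C := Subgroup.zpowers_le.2 (comm_mem_R_of_mem hw.1 hd) hu
  have hud : ⁅u, d⁆ ∈ M := Subgroup.mem_sup_left ⟨commutator_mem_R_succ huR hd
    ⟨_, _, e', e, hp, T.prime j hj.le, (T.ne j hj).symm, he', he⟩,
    comm_symm_mem (T.comm_mem_X (j + 1) d (Subgroup.zpowers_le.2 hcX hu))⟩
  have hMn : ∀ c ∈ C, ∀ y ∈ M, c * y * c⁻¹ ∈ M := by
    intro c hc y hy
    obtain ⟨a, ha, k, hk, rfl⟩ := Subgroup.mem_sup_of_normal_right.1 hy
    rw [show c * (a * k) * c⁻¹ = (c * a * c⁻¹) * (c * k * c⁻¹) by group]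
    refine Subgroup.mul_mem_sup ⟨?_, (T.nX _).conj_mem a ha.2 c⟩ ((T.nK _).conj_mem k hk c)
    rw [show c * a * c⁻¹ = ⁅c, a⁆ * a by simp only [commutatorElement_def]; group]
    exact mul_mem (comm_mem_R_of_mem hc ha.1) ha.1
  haveI : (M.subgroupOf C).Normal := ⟨fun y hy c => hMn c c.2 y hy⟩
  by_contra hnot
  have hcc : ⁅(⟨w, hw.1⟩ : C), ⟨d, hdC⟩⁆ ∉ M.subgroupOf C := hnot
  refine comm_comm_not_mem (L := M.subgroupOf C) hp ?_ ?_ hcc ?_
  · rw [Subgroup.orderOf_mk]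
    exact (((Nat.coprime_primes (T.prime j hj.le) hp).2 (T.ne j hj)).pow_left e).coprime_dvd_left
      (orderOf_dvd_of_pow_eq_one he)
  · obtain ⟨a, ha⟩ := T.pgrp _ hj _ hcX
    exact ⟨a, Subgroup.mem_subgroupOf.2 (Subgroup.mem_sup_right ha)⟩
  · refine Subgroup.mem_subgroupOf.2 ?_
    change ⁅⁅w, d⁆, d⁆ ∈ M
    obtain ⟨k, hk, hke⟩ : ∃ k ∈ K, ⁅w, d⁆ = u * k := ⟨(⁅w, d⁆⁻¹ * u)⁻¹, inv_mem huc, by group⟩
    rw [hke, show ⁅u * k, d⁆ = (u * ⁅k, d⁆ * u⁻¹) * ⁅u, d⁆ by simp only [commutatorElement_def]; group]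
    refine mul_mem (Subgroup.mem_sup_right ((T.nK _).conj_mem _ ?_ u)) hud
    rw [show ⁅k, d⁆ = k * (d * k⁻¹ * d⁻¹) by simp only [commutatorElement_def]; group]
    exact mul_mem hk ((T.nK _).conj_mem _ (inv_mem hk) d)

end Cfsg.Lib.FitHeight
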