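import Cfsg.Agent.FitHeight.Cases

/-!
The Fitting height of a solvable group against that of the fixed points of a coprime automorphism of prime order.
-/

set_option autoImplicit false
set_option linter.unusedSectionVars false
set_option linter.style.haveILetI false

namespace Cfsg.Lib.FitHeight

open scoped commutatorElement

universe u

theorem R_le_derivedSeries {G : Type u} [Group G] : ∀ k, R k (⊤ : Subgroup G) ≤ derivedSeries G k
  | 0 => le_top
  | k + 1 => by
    rw [R_succ, derivedSeries_succ]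
    refine (iInf_le _ 1).trans ?_
    rw [Subgroup.lowerCentralSeries_succ, Subgroup.lowerCentralSeries_zero]
    exact Subgroup.commutator_mono (R_le_derivedSeries k) (R_le_derivedSeries k)

theorem exists_R_eq_bot {Γ : Type u} [Group Γ] (G : Subgroup Γ) (h : Group.IsSolvable G) : ∃ k, R k G = ⊥ := by
  obtain ⟨k, hk⟩ := h.solvable
  refine ⟨k, ?_⟩
  have h1 : R k (⊤ : Subgroup G) = ⊥ := le_bot_iff.1 ((R_le_derivedSeries k).trans hk.le)
  have h2 := map_R G.subtype G.subtype_injective ⊤ k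
  rw [h1, Subgroup.map_bot, ← MonoidHom.range_eq_map, Subgroup.range_subtype] at h2
  exact h2.symm

theorem cfix_mono {Γ : Type u} [Group Γ] {H G : Subgroup Γ} (h : H ≤ G) (s : Γ) : cfix H s ≤ cfix G s :=
  inf_le_inf_right _ h

/-- The bound inside a group generated by the automorphism and the normal subgroup. -/
def TopCase (N : ℕ) : Prop :=
  ∀ (Γ : Type u) [Group Γ] [Finite Γ] (G : Subgroup Γ) (s : Γ) (r m : ℕ),
    G.Normal → r.Prime → s ^ r = 1 → ¬ r ∣ Nat.card G → G ⊔ Subgroup.zpowers s = ⊤ → Group.IsSolvable G →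
      Nat.card G ≤ N → R m (cfix G s) = ⊥ → R (m + 2) G = ⊥

theorem of_topCase {N : ℕ} (hN : TopCase.{u} N) {Γ : Type u} [Group Γ] [Finite Γ] (G : Subgroup Γ) (s : Γ) (r m : ℕ)
    (hinv : ∀ g ∈ G, s * g * s⁻¹ ∈ G) (hr : r.Prime) (hs : s ^ r = 1) (hcop : ¬ r ∣ Nat.card G)
    (hsol : Group.IsSolvable G) (hcard : Nat.card G ≤ N) (h : R m (cfix G s) = ⊥) : R (m + 2) G = ⊥ := by
  set Δ := G ⊔ Subgroup.zpowers s with hΔ
  have hpow : ∀ k : ℕ, ∀ g ∈ G, s ^ k * g * (s ^ k)⁻¹ ∈ G := by
    intro k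
    induction k with
    | zero => intro g hg; simpa using hg
    | succ k ih =>
      intro g hg
      rw [show s ^ (k + 1) * g * (s ^ (k + 1))⁻¹ = s ^ k * (s * g * s⁻¹) * (s ^ k)⁻¹ by rw [pow_succ]; group]
      exact ih _ (hinv g hg)
  have hnorm : Δ ≤ Subgroup.normalizer (G : Set Γ) := by
    refine sup_le Subgroup.le_normalizer (Subgroup.zpowers_le.2 (Cfsg.Lib.Coprime.mem_normalizer_of_conj_mem hinv fun y hy => ?_))
    have h1 := hpow (r - 1) y hy
    have h2 : s ^ (r - 1) = s⁻¹ := eq_inv_of_mul_eq_one_left (by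
      rw [← pow_succ, Nat.sub_add_cancel hr.one_le, hs])
    rwa [h2, inv_inv] at h1
  have hGΔ : G ≤ Δ := le_sup_left
  have hsΔ : s ∈ Δ := Subgroup.mem_sup_right (Subgroup.mem_zpowers s)
  set G' := G.subgroupOf Δ with hG'
  have hn : G'.Normal := Subgroup.normal_subgroupOf_of_le_normalizer hnorm
  have hmap : G'.map Δ.subtype = G := by rw [hG', Subgroup.subgroupOf_map_subtype, inf_eq_left.2 hGΔ]
  have hcard' : Nat.card G' = Nat.card G := Nat.card_congr (Subgroup.subgroupOfEquivOfLe hGΔ).toEquiv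
  have htop : G' ⊔ Subgroup.zpowers (⟨s, hsΔ⟩ : Δ) = ⊤ := by
    apply Subgroup.map_injective Δ.subtype_injective
    rw [Subgroup.map_sup, hmap, MonoidHom.map_zpowers, ← MonoidHom.range_eq_map, Subgroup.range_subtype]
    rfl
  have hC : (cfix G' (⟨s, hsΔ⟩ : Δ)).map Δ.subtype = cfix G s := by
    ext g
    constructor
    · rintro ⟨y, hy, rfl⟩
      exact mem_cfix.2 ⟨(mem_cfix.1 hy).1, congrArg Subtype.val (mem_cfix.1 hy).2⟩
    · intro hg
      exact ⟨⟨g, hGΔ (mem_cfix.1 hg).1⟩, mem_cfix.2 ⟨(mem_cfix.1 hg).1, Subtype.ext (mem_cfix.1 hg).2⟩, rfl⟩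
  haveI : Group.IsSolvable G := hsol
  have hsol' : Group.IsSolvable G' :=
    Group.isSolvable_of_surjective (f := (Subgroup.subgroupOfEquivOfLe hGΔ).symm.toMonoidHom)
      (Subgroup.subgroupOfEquivOfLe hGΔ).symm.surjective
  have h' : R m (cfix G' (⟨s, hsΔ⟩ : Δ)) = ⊥ := by
    apply Subgroup.map_injective Δ.subtype_injective
    rw [map_R _ Δ.subtype_injective, hC, h, Subgroup.map_bot]
  have h2 := congrArg (Subgroup.map Δ.subtype)
    (hN Δ G' ⟨s, hsΔ⟩ r m hn hr (Subtype.ext hs) (by rwa [hcard']) htop hsol' (by rwa [hcard']) h')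
  rwa [map_R _ Δ.subtype_injective, hmap, Subgroup.map_bot] at h2

theorem topCase : ∀ N, TopCase.{u} N
  | 0 => by
    intro Γ _ _ G s r m _ _ _ _ _ _ hcard _
    exact absurd hcard (not_le.2 Nat.card_pos)
  | N + 1 => by
    intro Γ _ _ G s r m hn hr hs hcop htop hsol hcard h
    classical
    haveI := hn
    by_contra hne
    obtain ⟨K, hK⟩ := exists_R_eq_bot G hsol
    have hex : ∃ k, R k G = ⊥ := ⟨K, hK⟩
    set l := Nat.find hex with hl
    have hml : m + 2 < l := by
      by_contra hle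
      exact hne (le_bot_iff.1 ((R_antitone G (Nat.le_of_not_lt hle)).trans (Nat.find_spec hex).le))
    obtain ⟨n, hn'⟩ : ∃ n, l = n + 1 := ⟨l - 1, by omega⟩
    have hnne : R n G ≠ ⊥ := Nat.find_min hex (show n < Nat.find hex by omega)
    have hnb : R (n + 1) G = ⊥ := by rw [← hn']; exact Nat.find_spec hex
    by_cases hmin : MinHyp G s n
    · obtain ⟨T⟩ := exists_tower G n hnne hnb
      exact T.conclusion ⟨hr, hs, hcop, htop, hsol, hmin⟩ (by omega)
        (le_bot_iff.1 ((R_antitone _ (show m ≤ n - 2 by omega)).trans h.le))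
    unfold MinHyp at hmin
    push Not at hmin
    obtain ⟨H, hHG, hHs, hHn, hHne⟩ := hmin
    have hlt : Nat.card H < Nat.card G := by
      by_contra hle
      exact hHne (Subgroup.eq_of_le_of_card_ge hHG (Nat.le_of_not_lt hle))
    haveI : Group.IsSolvable G := hsol
    have hsolH : Group.IsSolvable H := Group.isSolvable_of_isSolvable_injective (Subgroup.inclusion_injective hHG)
    have h1 := of_topCase (topCase N) H s r m hHs hr hs
      (fun hd => hcop (hd.trans (Subgroup.card_dvd_of_le hHG))) hsolH (by omega)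
      (le_bot_iff.1 ((R_mono (cfix_mono hHG s) m).trans h.le))
    exact hHn (le_bot_iff.1 ((R_antitone H (show m + 2 ≤ n by omega)).trans h1.le))

/-- The fixed points of a coprime automorphism of prime order have height at most two less. -/
theorem R_add_two_eq_bot {Γ : Type u} [Group Γ] [Finite Γ] (G : Subgroup Γ) (s : Γ) (r m : ℕ)
    (hinv : ∀ g ∈ G, s * g * s⁻¹ ∈ G) (hr : r.Prime) (hs : s ^ r = 1) (hcop : ¬ r ∣ Nat.card G)
    (hsol : Group.IsSolvable G) (h : R m (cfix G s) = ⊥) : R (m + 2) G = ⊥ :=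
  of_topCase (topCase _) G s r m hinv hr hs hcop hsol le_rfl h

/-- The automorphism form. -/
theorem chain_add_two {G : Type u} [Group G] [Finite G] (hG : Group.IsSolvable G) (σ : MulAut G) (r : ℕ)
    (hr : r.Prime) (hσ : orderOf σ = r) (hcop : ¬ r ∣ Nat.card G) (C : Subgroup G) (hC : ∀ g : G, g ∈ C ↔ σ g = g)
    (n : ℕ) (hn : Chain C n) : Chain G (n + 2) := by
  let φ : Subgroup.zpowers σ →* MulAut G := (Subgroup.zpowers σ).subtype
  haveI : Finite (Subgroup.zpowers σ) := Nat.finite_of_card_ne_zero (by rw [Nat.card_zpowers, hσ]; exact hr.ne_zero)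
  haveI : Finite (G ⋊[φ] Subgroup.zpowers σ) := Finite.of_equiv _ SemidirectProduct.equivProd.symm
  let ι : G →* G ⋊[φ] Subgroup.zpowers σ := SemidirectProduct.inl
  have hι : Function.Injective ι := SemidirectProduct.inl_injective
  let t : Subgroup.zpowers σ := ⟨σ, Subgroup.mem_zpowers σ⟩
  let s : G ⋊[φ] Subgroup.zpowers σ := SemidirectProduct.inr t
  have hst : ∀ g, s * ι g * s⁻¹ = ι (σ g) := fun g => by
    change SemidirectProduct.inr t * SemidirectProduct.inl g * (SemidirectProduct.inr t)⁻¹ = SemidirectProduct.inl (σ g)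
    rw [← map_inv]
    exact (SemidirectProduct.inl_aut t g).symm
  have hCf : C.map ι = cfix ι.range s := by
    ext y
    constructor
    · rintro ⟨g, hg, rfl⟩
      refine mem_cfix.2 ⟨⟨g, rfl⟩, ?_⟩
      have h1 := hst g
      rw [(hC g).1 hg, mul_inv_eq_iff_eq_mul] at h1
      exact h1
    · intro hy
      obtain ⟨⟨g, rfl⟩, hc⟩ := mem_cfix.1 hy
      refine ⟨g, (hC g).2 (hι ?_), rfl⟩
      rw [← hst g, hc.eq, mul_inv_cancel_right]
  have hCn : R n (cfix ι.range s) = ⊥ := by
    rw [← hCf, ← map_R ι hι, show R n C = ⊥ by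
      rw [← C.range_subtype, MonoidHom.range_eq_map, ← map_R _ C.subtype_injective, R_eq_bot_of_chain hn,
        Subgroup.map_bot], Subgroup.map_bot]
  haveI := hG
  have hs : s ^ r = 1 := by
    rw [← map_pow, show t ^ r = 1 from Subtype.ext (by rw [Subgroup.coe_pow]; change σ ^ r = 1; rw [← hσ, pow_orderOf_eq_one]),
      map_one]
  have hcard : Nat.card ι.range = Nat.card G := (Nat.card_congr (MonoidHom.ofInjective hι).toEquiv).symm
  have h := R_add_two_eq_bot ι.range s r n (by rintro _ ⟨g, rfl⟩; exact ⟨σ g, (hst g).symm⟩) hr hs (by rwa [hcard])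
    (Group.isSolvable_of_surjective ι.rangeRestrict_surjective) hCn
  apply chain_of_R_eq_bot
  apply Subgroup.map_injective hι
  rw [map_R ι hι, ← MonoidHom.range_eq_map, h, Subgroup.map_bot]

end Cfsg.Lib.FitHeight
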