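import Cfsg.Agent.FitHeight.TowerExist
import Cfsg.Agent.Coprime.InvariantHall

/-!
Propagation along a tower, and the top of each level for a minimal group.
-/

set_option autoImplicit false
set_option linter.unusedSectionVars false
set_option linter.style.haveILetI false
set_option linter.unusedVariables false

namespace Cfsg.Lib.FitHeight

open scoped commutatorElement

universe u v

variable {Γ : Type u} [Group Γ] [Finite Γ]

theorem map_R_of_finite {Δ : Type v} [Group Δ] [Finite Δ] (f : Γ →* Δ) (X : Subgroup Γ) :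
    ∀ j, (R j X).map f = R j (X.map f)
  | 0 => rfl
  | j + 1 => by
    obtain ⟨k, hk⟩ := exists_lcs_eq_rsd (R j X)
    obtain ⟨l, hl⟩ := exists_lcs_eq_rsd ((R j X).map f)
    rw [R_succ, R_succ, ← map_R_of_finite f X j]
    refine le_antisymm ?_ ?_
    · rw [← hl, ← Subgroup.map_lowerCentralSeries]
      exact Subgroup.map_mono (iInf_le _ l)
    · rw [← hk, Subgroup.map_lowerCentralSeries]
      exact iInf_le _ k

theorem comm_mem_R_of_mem {H : Subgroup Γ} {j : ℕ} {x b : Γ} (hx : x ∈ H) (hb : b ∈ R j H) :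
    ⁅x, b⁆ ∈ R j H := by
  have e : R j H = (R j (⊤ : Subgroup H)).map H.subtype := by
    rw [map_R H.subtype H.subtype_injective, ← MonoidHom.range_eq_map, H.range_subtype]
  rw [e] at hb ⊢
  obtain ⟨b', hb', rfl⟩ := hb
  refine ⟨⁅(⟨x, hx⟩ : H), b'⁆, ?_, rfl⟩
  rw [commutatorElement_def]
  exact mul_mem ((R_normal (⊤ : Subgroup H) j).conj_mem b' hb' _) (inv_mem hb')

variable {G : Subgroup Γ} {n : ℕ}

/-- A normal subgroup cutting out the kernel of a level. -/
theorem Tower.exists_kernel [G.Normal] (T : Tower G n) {i : ℕ} (hi : i ≤ n) :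
    ∃ D : Subgroup Γ, D.Normal ∧ R (i + 1) G ≤ D ∧ T.K i = T.X i ⊓ D := by
  haveI := T.nX
  haveI := T.nL
  rcases eq_or_lt_of_le hi with h | h
  · subst h
    exact ⟨⊥, inferInstance, T.top.le, by rw [inf_bot_eq, T.ktop]⟩
  · exact ⟨cgrp (T.X (i + 1)) (T.L (i + 1)), inferInstance, T.Rcen (i + 1) h, T.kdef i h⟩

theorem Tower.comm_mem_X (T : Tower G n) (i : ℕ) (g : Γ) {x : Γ} (hx : x ∈ T.X i) : ⁅g, x⁆ ∈ T.X i := by
  rw [show ⁅g, x⁆ = (g * x * g⁻¹) * x⁻¹ from rfl]
  exact mul_mem ((T.nX i).conj_mem x hx g) (inv_mem hx)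

/-- A nontrivial element of a residual propagates up a tower inside `H`. -/
theorem Tower.propagate [G.Normal] (T : Tower G n) (H : Subgroup Γ) : ∀ (d i : ℕ), d + i = n →
    (∀ l, i < l → l ≤ n → T.X l ≤ H) → ∀ b ∈ R i H, b ∈ T.X i → b ∉ T.K i → R n H ≠ ⊥ := by
  intro d
  induction d with
  | zero =>
    intro i hi _ b hb _ hbK hbot
    rw [Nat.zero_add] at hi
    subst hi
    rw [hbot, Subgroup.mem_bot] at hb
    exact hbK (hb ▸ one_mem _)
  | succ d ih =>
    intro i hi hX b hb hbX hbK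
    haveI := T.nX
    haveI := T.nL
    haveI := T.nK
    have hin : i < n := by omega
    obtain ⟨b', hb', hb'q, hb'c⟩ := exists_qpart (T.K i) b (T.prime i hin.le) (T.pgrp i hin.le b hbX)
    have hb'R : b' ∈ R i H := Subgroup.zpowers_le.2 hb hb'
    have hb'X : b' ∈ T.X i := Subgroup.zpowers_le.2 hbX hb'
    have hb'n : b' ∉ cgrp (T.X (i + 1)) (T.L (i + 1)) := fun h => hbK (by
      have h1 : b' ∈ T.K i := by rw [T.kdef i hin]; exact ⟨hb'X, h⟩
      have h2 := mul_mem h1 (inv_mem hb'c)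
      rwa [mul_inv_rev, inv_inv, mul_inv_cancel_left] at h2)
    obtain ⟨x, hx, hxb⟩ : ∃ x ∈ T.X (i + 1), ⁅x, b'⁆ ∉ T.L (i + 1) := by
      by_contra hc
      push Not at hc
      exact hb'n (mem_cgrp.2 fun x hx => comm_symm_mem (hc x hx))
    have hp := T.prime (i + 1) hin
    have hxH := hX (i + 1) (by omega) hin hx
    have hcX : ⁅x, b'⁆ ∈ T.X (i + 1) := comm_symm_mem (T.comm_mem_X (i + 1) b' hx)
    obtain ⟨m, hm⟩ := hb'q
    have hcop : (orderOf b').Coprime (T.q (i + 1)) :=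
      (((Nat.coprime_primes (T.prime i hin.le) hp).2 (T.ne i hin)).pow_left m).coprime_dvd_left
        (orderOf_dvd_of_pow_eq_one hm)
    obtain ⟨u, hu, huq, huc⟩ := exists_qpart (T.K (i + 1)) ⁅x, b'⁆ hp (T.pgrp (i + 1) hin _ hcX)
    have huR : u ∈ R i H := Subgroup.zpowers_le.2 (comm_mem_R_of_mem hxH hb'R) hu
    have huX : u ∈ T.X (i + 1) := Subgroup.zpowers_le.2 hcX hu
    obtain ⟨m', hm'⟩ := huq
    refine ih (i + 1) (by omega) (fun l h1 h2 => hX l (by omega) h2) ⁅u, b'⁆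
      (commutator_mem_R_succ huR hb'R ⟨_, _, m', m, hp, T.prime i hin.le, (T.ne i hin).symm, hm', hm⟩)
      (comm_symm_mem (T.comm_mem_X (i + 1) b' huX)) fun hK => ?_
    refine comm_comm_not_mem hp hcop (⟨1, by rw [pow_one]; exact T.pow (i + 1) hin _ hcX⟩) hxb ?_
    have e : (QuotientGroup.mk ⁅x, b'⁆ : Γ ⧸ T.L (i + 1)) = QuotientGroup.mk u :=
      QuotientGroup.eq.2 (T.hKL (i + 1) hin huc)
    rw [← QuotientGroup.eq_one_iff, ← QuotientGroup.mk'_apply, map_commutatorElement,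
      show QuotientGroup.mk' (T.L (i + 1)) ⁅x, b'⁆ = QuotientGroup.mk' (T.L (i + 1)) u from e, ← map_commutatorElement]
    exact (QuotientGroup.eq_one_iff _).2 (T.hKL (i + 1) hin hK)

/-- A proper invariant subgroup with the same height is impossible. -/
def MinHyp (G : Subgroup Γ) (s : Γ) (n : ℕ) : Prop :=
  ∀ H : Subgroup Γ, H ≤ G → (∀ h ∈ H, s * h * s⁻¹ ∈ H) → R n H ≠ ⊥ → H = G

/-- In a minimal group the top of a level is the derived section. -/
theorem Tower.lder [G.Normal] (T : Tower G n) (hGs : Group.IsSolvable G) {s : Γ} {r : ℕ} (hr : r.Prime) (hs : s ^ r = 1)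
    (hcop : ¬ r ∣ Nat.card G) (htop : G ⊔ Subgroup.zpowers s = ⊤) (hmin : MinHyp G s n) :
    ∀ i ≤ n, T.L i ≤ ⁅T.X i, T.X i⁆ ⊔ T.K i := by
  classical
  intro i hi
  rcases i with _ | j
  · exact T.bottom.trans le_sup_right
  haveI := T.nX
  haveI := T.nL
  haveI := T.nK
  set X := T.X (j + 1) with hX
  set L := T.L (j + 1) with hL
  set K := T.K (j + 1) with hK
  set q := T.q (j + 1) with hqdef
  have hq : q.Prime := T.prime (j + 1) hi
  haveI := Fact.mk hq
  set Φ := ⁅X, X⁆ ⊔ K with hΦ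
  have hKL : K ≤ L := T.hKL _ hi
  have hLX : L ≤ X := T.hLX _ hi
  have hΦL : Φ ≤ L := sup_le (T.com _ hi) hKL
  set C := cgrp X Φ with hC
  have hCcg : C ≤ cgrp X L := fun g hg => mem_cgrp.2 fun x hx => hΦL (mem_cgrp.1 hg x hx)
  obtain ⟨D, hDn, hD, hKD⟩ := T.exists_kernel hi
  haveI := hDn
  set π := QuotientGroup.mk' C with hπ
  -- the residual is a `q`-group on the section
  have hRq : ∀ g ∈ R (j + 1) G, ∃ m, g ^ q ^ m ∈ C := by
    intro g hg
    obtain ⟨a, b, ha, hb, hab, ⟨m, hm⟩, hbq⟩ := exists_parts g hq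
    have hbR : b ∈ R (j + 1) G := Subgroup.zpowers_le.2 hg hb
    have hbC : b ∈ C := by
      rw [hC, mem_cgrp]
      intro y hy
      obtain ⟨y', hy', hy'n, hy'c⟩ := exists_qpart K y hq (T.pgrp _ hi y hy)
      have hy'X : y' ∈ X := Subgroup.zpowers_le.2 hy hy'
      have h1 : ⁅b, y'⁆ ∈ K := by
        rw [hK, hKD]
        exact ⟨T.comm_mem_X (j + 1) b hy'X,
          comm_symm_mem (commutator_mem_of_nilpotent D hD (T.hXR _ hi hy'X) hbR hq hy'n hbq)⟩
      have e1 : (QuotientGroup.mk y : Γ ⧸ Φ) = QuotientGroup.mk y' :=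
        QuotientGroup.eq.2 (Subgroup.mem_sup_right hy'c)
      rw [← QuotientGroup.eq_one_iff, ← QuotientGroup.mk'_apply, map_commutatorElement,
        show QuotientGroup.mk' Φ y = QuotientGroup.mk' Φ y' from e1, ← map_commutatorElement]
      exact (QuotientGroup.eq_one_iff _).2 (Subgroup.mem_sup_right h1)
    refine ⟨m, ?_⟩
    have hc : Commute a b := by
      obtain ⟨u, rfl⟩ := Subgroup.mem_zpowers_iff.1 ha
      obtain ⟨v, rfl⟩ := Subgroup.mem_zpowers_iff.1 hb
      exact (Commute.refl g).zpow_zpow u v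
    rw [hab, hc.mul_pow, hm, one_mul]
    exact pow_mem hbC _
  -- the normal `q`-part of the previous residual
  set C₁ := R (j + 1) G ⊔ C with hC₁
  have hC₁q : ∀ g ∈ C₁, ∃ m, g ^ q ^ m ∈ C := by
    intro g hg
    obtain ⟨y, hy, z, hz, rfl⟩ := Subgroup.mem_sup_of_normal_left.1 hg
    obtain ⟨m, hm⟩ := hRq y hy
    refine ⟨m, (QuotientGroup.eq_one_iff _).1 ?_⟩
    rw [QuotientGroup.mk_pow, QuotientGroup.mk_mul, (QuotientGroup.eq_one_iff z).2 hz, mul_one,
      ← QuotientGroup.mk_pow]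
    exact (QuotientGroup.eq_one_iff _).2 hm
  obtain ⟨O, hOn, hOP, -, hOq, hOmem⟩ := exists_qsection G j C₁ le_sup_left hq
  haveI := hOn
  have hOC : ∀ x ∈ O, ∃ m, x ^ q ^ m ∈ C := by
    intro x hx
    obtain ⟨m, hm⟩ := hOq x hx
    obtain ⟨m', hm'⟩ := hC₁q _ hm
    exact ⟨m + m', by rwa [pow_add, pow_mul]⟩
  have hpL : ∀ y ∈ X, ∃ m, y ^ q ^ m ∈ L := fun y hy => by
    obtain ⟨m, hm⟩ := T.pgrp _ hi y hy
    exact ⟨m, hKL hm⟩
  have hqcen : ∀ a ∈ R j G, (∃ m, a ^ q ^ m = 1) → a ∈ cgrp X L :=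
    qelem_cen G j hq (T.hne _ hi) hLX hpL (T.irr _ hi) (T.Rcen _ hi)
  have hOcen : O ≤ cgrp X L := by
    intro x hx
    obtain ⟨m, hm⟩ := hOC x hx
    obtain ⟨x', hx', hx'q, hx'c⟩ := exists_qpart C x hq ⟨m, hm⟩
    have h1 := hqcen x' (Subgroup.zpowers_le.2 (hOP hx) hx') hx'q
    have h2 := mul_mem h1 (inv_mem (hCcg hx'c))
    rwa [mul_inv_rev, inv_inv, mul_inv_cancel_left] at h2
  -- images
  set P' := (R j G).map π with hP'
  have hOp : IsPGroup q (O.map π) := by
    rintro ⟨_, x, hx, rfl⟩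
    obtain ⟨m, hm⟩ := hOC x hx
    exact ⟨m, Subtype.ext (by rw [Subgroup.coe_pow, ← map_pow]; exact (QuotientGroup.eq_one_iff _).2 hm)⟩
  haveI hOπn : (O.map π).Normal := Subgroup.Normal.map hOn _ (QuotientGroup.mk'_surjective C)
  have hP'G : P' ≤ G.map π := Subgroup.map_mono (R_le j G)
  haveI : Group.IsSolvable G := hGs
  haveI hP'sol : Group.IsSolvable P' :=
    Cfsg.Lib.Coprime.isSolvable_map (Cfsg.Lib.Coprime.isSolvable_of_le (R_le j G) hGs) π
  haveI hP'n : P'.Normal := Subgroup.Normal.map (R_normal G j) _ (QuotientGroup.mk'_surjective C)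
  have hsr : (Nat.card (Subgroup.zpowers (π s))).Coprime (Nat.card P') := by
    rw [Nat.card_zpowers]
    have h1 : orderOf (π s) ∣ r := orderOf_dvd_of_pow_eq_one (by rw [← map_pow, hs, map_one])
    have h2 : Nat.card P' ∣ Nat.card G :=
      (Subgroup.card_dvd_of_le hP'G).trans (Subgroup.card_map_dvd G π)
    exact ((hr.coprime_iff_not_dvd.2 hcop).coprime_dvd_left h1).coprime_dvd_right h2
  obtain ⟨A, hA, hAs, -⟩ := Cfsg.Lib.Coprime.exists_invariantHall_ge (A := Subgroup.zpowers (π s)) (K := P') (U := ⊥)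
    (π := {p | p ≠ q}) (by rw [Subgroup.normalizer_eq_top_iff.2 hP'n]; exact le_top) hsr hP'sol bot_le
    (fun g _ => by rw [Subgroup.normalizer_eq_top_iff.2 (inferInstance : (⊥ : Subgroup (Γ ⧸ C)).Normal)]; exact Subgroup.mem_top g)
    (fun p hp hd => absurd (Nat.dvd_one.1 (Subgroup.card_bot (G := Γ ⧸ C) ▸ hd)) hp.ne_one)
  obtain ⟨hAP, hAq, hAidx⟩ := hA
  have hAq' : ¬ q ∣ Nat.card A := fun h => hAq q hq h rfl
  -- the previous residual is the product
  have hPOA : P' = O.map π ⊔ A := by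
    refine le_antisymm ?_ (sup_le (Subgroup.map_mono hOP) hAP)
    rw [← Subgroup.relIndex_eq_one]
    by_contra hne
    obtain ⟨p, hp, hpd⟩ := Nat.exists_prime_and_dvd hne
    by_cases hpq : p = q
    · have hOmem' : ∀ x ∈ R j G, (∃ m, x ^ p ^ m = 1) → x ∈ O := hpq ▸ hOmem
      -- every `q`-element lies in the left factor
      have h1 : ¬ p ∣ (O.map π).relIndex P' := by
        intro hd
        haveI := Fact.mk hp
        set O' := (O.map π).subgroupOf P'
        haveI : O'.Normal := Subgroup.Normal.subgroupOf hOπn P'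
        obtain ⟨y, hy⟩ := exists_prime_orderOf_dvd_card' (G := P' ⧸ O') p hd
        obtain ⟨⟨_, g, hg, rfl⟩, rfl⟩ := QuotientGroup.mk_surjective y
        obtain ⟨a, b, ha, hb, hab, hap, hbq⟩ := exists_parts g hp
        have hbR : b ∈ R j G := Subgroup.zpowers_le.2 hg hb
        have haR : a ∈ R j G := Subgroup.zpowers_le.2 hg ha
        let za : P' := ⟨π a, Subgroup.mem_map_of_mem π haR⟩
        let zb : P' := ⟨π b, Subgroup.mem_map_of_mem π hbR⟩
        have e1 : (QuotientGroup.mk za : P' ⧸ O') = 1 :=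
          (QuotientGroup.eq_one_iff za).2 (Subgroup.mem_map_of_mem π (hOmem' a haR hap))
        have e2 : (QuotientGroup.mk (⟨π g, Subgroup.mem_map_of_mem π hg⟩ : P') : P' ⧸ O') = QuotientGroup.mk zb := by
          rw [show (⟨π g, Subgroup.mem_map_of_mem π hg⟩ : P') = za * zb from Subtype.ext (by simp [za, zb, ← map_mul, ← hab]),
            QuotientGroup.mk_mul, e1, one_mul]
        rw [e2] at hy
        have h2 : p ∣ orderOf b := by
          have h3 : orderOf (QuotientGroup.mk zb : P' ⧸ O') ∣ orderOf zb := orderOf_map_dvd (QuotientGroup.mk' O') zb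
          rw [hy, ← Subgroup.orderOf_coe zb] at h3
          exact h3.trans (orderOf_map_dvd π b)
        have := Nat.dvd_gcd h2 dvd_rfl
        rw [hbq.gcd_eq_one] at this
        exact hp.ne_one (Nat.dvd_one.1 this)
      exact h1 (hpd.trans (Subgroup.relIndex_dvd_of_le_left _ le_sup_left))
    · exact hAidx p hp hpq (hpd.trans (Subgroup.relIndex_dvd_of_le_left _ le_sup_right))
  -- the candidate subgroup
  set N := (Subgroup.normalizer (A : Set (Γ ⧸ C))).comap π with hN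
  set U := ⨆ l ∈ Finset.Icc (j + 1) n, T.X l with hU
  have hUX : ∀ l, j + 1 ≤ l → l ≤ n → T.X l ≤ U := fun l h1 h2 =>
    le_iSup₂_of_le l (Finset.mem_Icc.2 ⟨h1, h2⟩) le_rfl
  have hUG : U ≤ G := iSup₂_le fun l hl => (T.hXR l (Finset.mem_Icc.1 hl).2).trans (R_le _ _)
  set H := U ⊔ (G ⊓ N) with hH
  haveI : U.Normal := by
    rw [hU]
    exact Subgroup.biSup_normal _ _ fun l _ => T.nX l
  have hsH : ∀ h ∈ H, s * h * s⁻¹ ∈ H := by
    intro h hh
    obtain ⟨y, hy, z, hz, rfl⟩ := Subgroup.mem_sup_of_normal_left.1 hh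
    rw [show s * (y * z) * s⁻¹ = (s * y * s⁻¹) * (s * z * s⁻¹) by group]
    refine Subgroup.mul_mem_sup ((inferInstance : U.Normal).conj_mem y hy s)
      ⟨‹G.Normal›.conj_mem z hz.1 s, ?_⟩
    have hsN : s ∈ N := hAs (Subgroup.mem_zpowers (π s))
    exact N.mul_mem (N.mul_mem hsN hz.2) (N.inv_mem hsN)
  -- Frattini
  have hGN : ∀ g ∈ G, ∃ o ∈ O ⊔ C, o⁻¹ * g ∈ G ⊓ N ⊔ C := by
    intro g hg
    have hB : Cfsg.IsPiHallOf {p | p ≠ q} (Cfsg.Lib.Coprime.conjMap (π g) A) P' := by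
      refine ⟨?_, fun p hp hd => hAq p hp (by rwa [Cfsg.Lib.Coprime.card_conjMap] at hd), ?_⟩
      · conv_rhs => rw [← Cfsg.Lib.Coprime.conjMap_eq_self (g := π g)
          (by rw [Subgroup.normalizer_eq_top_iff.2 hP'n]; exact Subgroup.mem_top _ : π g ∈ Subgroup.normalizer (P' : Set (Γ ⧸ C)))]
        exact Cfsg.Lib.Coprime.conjMap_mono hAP
      · intro p hp hpq hd
        refine hAidx p hp hpq ?_
        have e : (Cfsg.Lib.Coprime.conjMap (π g) A).relIndex P' = A.relIndex P' := by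
          conv_lhs => rw [← Cfsg.Lib.Coprime.conjMap_eq_self (g := π g)
            (by rw [Subgroup.normalizer_eq_top_iff.2 hP'n]; exact Subgroup.mem_top _ : π g ∈ Subgroup.normalizer (P' : Set (Γ ⧸ C)))]
          exact Subgroup.relIndex_map_map_of_injective A P' (MulEquiv.injective _)
        rwa [e] at hd
    obtain ⟨k, hk⟩ := Cfsg.Lib.Coprime.piHall_conj (Cfsg.Lib.Coprime.isPiHall_subgroupOf (⟨hAP, hAq, hAidx⟩ : Cfsg.IsPiHallOf {p | p ≠ q} A P'))
      (Cfsg.Lib.Coprime.isPiHall_subgroupOf hB)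
    have hk' : Cfsg.Lib.Coprime.conjMap (π g) A = Cfsg.Lib.Coprime.conjMap (k : Γ ⧸ C) A := by
      have := congrArg (Subgroup.map P'.subtype) hk
      rwa [Subgroup.map_subgroupOf_eq_of_le hB.1, Cfsg.Lib.Coprime.map_conjMap,
        Subgroup.map_subgroupOf_eq_of_le hAP] at this
    obtain ⟨o', ho', a', ha', hoa⟩ := Subgroup.mem_sup_of_normal_left.1 (hPOA ▸ k.2 : (k : Γ ⧸ C) ∈ O.map π ⊔ A)
    obtain ⟨o, ho, rfl⟩ := ho'
    refine ⟨o, Subgroup.mem_sup_left ho, ?_⟩
    have h1 : π (o⁻¹ * g) ∈ Subgroup.normalizer (A : Set (Γ ⧸ C)) := by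
      rw [← Cfsg.Lib.Coprime.conjMap_eq_self_iff, map_mul, map_inv, ← Cfsg.Lib.Coprime.conjMap_mul, hk', ← hoa,
        ← Cfsg.Lib.Coprime.conjMap_mul, Cfsg.Lib.Coprime.conjMap_inv_conjMap,
        Cfsg.Lib.Coprime.conjMap_eq_self (Subgroup.le_normalizer ha')]
    exact Subgroup.mem_sup_left ⟨G.mul_mem (G.inv_mem (R_le j G (hOP ho))) hg, h1⟩
  -- the residual of the candidate does not centralize the section
  have hHG : H ≤ G := sup_le hUG inf_le_left
  have hRH : R n H ≠ ⊥ := by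
    set θ := QuotientGroup.mk' (O ⊔ C) with hθ
    have hmap : G.map θ = (G ⊓ N).map θ := by
      refine le_antisymm ?_ (Subgroup.map_mono inf_le_left)
      rintro _ ⟨g, hg, rfl⟩
      obtain ⟨o, ho, hog⟩ := hGN g hg
      obtain ⟨y, hy, z, hz, hyz⟩ := Subgroup.mem_sup_of_normal_right.1 hog
      refine ⟨y, hy, QuotientGroup.eq.2 ?_⟩
      rw [show g = o * (y * z) by rw [hyz, mul_inv_cancel_left], show y⁻¹ * (o * (y * z)) = (y⁻¹ * o * y) * z by group]
      refine mul_mem ?_ (Subgroup.mem_sup_right hz)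
      simpa using (inferInstance : (O ⊔ C).Normal).conj_mem o ho y⁻¹
    obtain ⟨a, ha, haq, han⟩ := T.act j hi
    have h1 : θ a ∈ (R j (G ⊓ N)).map θ := by
      rw [map_R_of_finite, ← hmap, ← map_R_of_finite]
      exact Subgroup.mem_map_of_mem θ ha
    obtain ⟨h₀, hh₀, hh₀a⟩ := h1
    have hh₀n : h₀ ∉ cgrp X L := fun hh => han (by
      have h2 := sup_le hOcen hCcg (QuotientGroup.eq.1 hh₀a)
      have h3 := mul_mem hh h2
      rwa [mul_inv_cancel_left] at h3)
    obtain ⟨p, hp, h, hh, ⟨e, he⟩, hhn⟩ := exists_qelem_not_mem (R' := R j (G ⊓ N)) (D := cgrp X L)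
      (fun hle => hh₀n (hle hh₀))
    have hpq : p ≠ q := by
      rintro rfl
      exact hhn (hqcen h (R_mono inf_le_left j hh) ⟨e, he⟩)
    have hhH : h ∈ R j H := R_mono le_sup_right j hh
    obtain ⟨x, hx, hxh⟩ : ∃ x ∈ X, ⁅x, h⁆ ∉ L := by
      by_contra hc
      push Not at hc
      exact hhn (mem_cgrp.2 fun x hx => comm_symm_mem (hc x hx))
    have hcX : ⁅x, h⁆ ∈ X := comm_symm_mem (T.comm_mem_X (j + 1) h hx)
    obtain ⟨u, hu, huq, huc⟩ := exists_qpart K ⁅x, h⁆ hq (T.pgrp _ hi _ hcX)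
    obtain ⟨m, hm⟩ := huq
    have huR : u ∈ R j H := Subgroup.zpowers_le.2
      (comm_mem_R_of_mem (Subgroup.mem_sup_left (hUX _ le_rfl hi hx)) hhH) hu
    have huX : u ∈ X := Subgroup.zpowers_le.2 hcX hu
    have hcop2 : (orderOf h).Coprime q :=
      (((Nat.coprime_primes hp hq).2 hpq).pow_left e).coprime_dvd_left (orderOf_dvd_of_pow_eq_one he)
    refine T.propagate H (n - (j + 1)) (j + 1) (by omega) (fun l h1 h2 => (hUX l h1.le h2).trans le_sup_left) ⁅u, h⁆
      (commutator_mem_R_succ huR hhH ⟨q, p, m, e, hq, hp, hpq.symm, hm, he⟩)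
      (comm_symm_mem (T.comm_mem_X (j + 1) h huX)) fun hK' => ?_
    refine comm_comm_not_mem hq hcop2 (⟨1, by rw [pow_one]; exact T.pow _ hi _ hcX⟩) hxh ?_
    have e : (QuotientGroup.mk ⁅x, h⁆ : Γ ⧸ L) = QuotientGroup.mk u := QuotientGroup.eq.2 (hKL huc)
    rw [← QuotientGroup.eq_one_iff, ← QuotientGroup.mk'_apply, map_commutatorElement,
      show QuotientGroup.mk' L ⁅x, h⁆ = QuotientGroup.mk' L u from e, ← map_commutatorElement]
    exact (QuotientGroup.eq_one_iff _).2 (hKL hK')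
  have hHeq : H = G := hmin H hHG hsH hRH
  -- the complement is normal
  have hUC : U ≤ C := by
    refine iSup₂_le fun l hl => ?_
    obtain ⟨hl1, hl2⟩ := Finset.mem_Icc.1 hl
    intro g hg
    rw [hC, mem_cgrp]
    intro y hy
    rcases eq_or_lt_of_le hl1 with h | h
    · subst h
      exact Subgroup.mem_sup_left (Subgroup.commutator_mem_commutator hg hy)
    · refine Subgroup.mem_sup_right ?_
      rw [hK, hKD]
      refine ⟨T.comm_mem_X (j + 1) g hy, ?_⟩
      have hgD : g ∈ D := hD (R_antitone G (show j + 1 + 1 ≤ l by omega) (T.hXR l hl2 hg))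
      rw [show ⁅g, y⁆ = g * (y * g⁻¹ * y⁻¹) by simp only [commutatorElement_def]; group]
      exact mul_mem hgD (hDn.conj_mem _ (inv_mem hgD) y)
  haveI hAn : A.Normal := by
    rw [← Subgroup.normalizer_eq_top_iff, eq_top_iff]
    intro y _
    obtain ⟨g, rfl⟩ := QuotientGroup.mk_surjective y
    suffices h : (⊤ : Subgroup Γ) ≤ N from h (Subgroup.mem_top g)
    rw [← htop]
    refine sup_le ?_ (Subgroup.zpowers_le.2 (hAs (Subgroup.mem_zpowers (π s))))
    rw [← hHeq]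
    refine sup_le (fun u hu => ?_) inf_le_right
    rw [hN, Subgroup.mem_comap, show π u = 1 from (QuotientGroup.eq_one_iff u).2 (hUC hu)]
    exact one_mem _
  -- averaging
  set τ := QuotientGroup.mk' Φ with hτ
  haveI : (X.map τ).Normal := Subgroup.Normal.map inferInstance _ (QuotientGroup.mk'_surjective Φ)
  haveI : IsMulCommutative (X.map τ) := ⟨⟨by
    rintro ⟨_, x, hx, rfl⟩ ⟨_, y, hy, rfl⟩
    refine Subtype.ext (commutatorElement_eq_one_iff_mul_comm.1 ?_)
    rw [← map_commutatorElement]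
    exact (QuotientGroup.eq_one_iff _).2 (Subgroup.mem_sup_left (Subgroup.commutator_mem_commutator hx hy))⟩⟩
  letI : CommGroup (X.map τ) := { mul_comm := mul_comm' }
  let c : Γ ⧸ C →* MulAut (X.map τ) := QuotientGroup.lift C ((MulAut.conjNormal (H := X.map τ)).comp τ) fun g hg => by
    rw [MonoidHom.mem_ker]
    refine MulEquiv.ext fun y => Subtype.ext ?_
    obtain ⟨x, hx, hxy⟩ := y.2
    rw [MonoidHom.comp_apply, MulAut.conjNormal_apply, MulAut.one_apply, ← hxy]
    have h1 : ⁅τ g, τ x⁆ = 1 := by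
      rw [← map_commutatorElement]; exact (QuotientGroup.eq_one_iff _).2 (mem_cgrp.1 hg x hx)
    rw [commutatorElement_eq_one_iff_mul_comm] at h1
    rw [h1, mul_inv_cancel_right]
  have hcval : ∀ (g : Γ) (y : X.map τ), ((c (π g) y : X.map τ) : Γ ⧸ Φ) = τ g * y * (τ g)⁻¹ := fun g y =>
    MulAut.conjNormal_apply _ _
  haveI := Fintype.ofFinite A
  let ν : X.map τ →* X.map τ := ∏ a : A, (c a).toMonoidHom
  have hν : ∀ y, ν y = ∏ a : A, c a y := fun y => MonoidHom.finsetProd_apply _ _ y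
  -- the kernel of the average
  let W : Subgroup Γ :=
    { carrier := {x | ∃ hx : x ∈ X, ν ⟨τ x, Subgroup.mem_map_of_mem τ hx⟩ = 1}
      one_mem' := ⟨one_mem X, by
        rw [show (⟨τ 1, _⟩ : X.map τ) = 1 from Subtype.ext (map_one τ), map_one]⟩
      mul_mem' := fun {x y} ⟨hx, hx'⟩ ⟨hy, hy'⟩ => ⟨mul_mem hx hy, by
        rw [show (⟨τ (x * y), _⟩ : X.map τ) = ⟨τ x, Subgroup.mem_map_of_mem τ hx⟩ * ⟨τ y, Subgroup.mem_map_of_mem τ hy⟩
          from Subtype.ext (map_mul τ x y), map_mul, hx', hy', one_mul]⟩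
      inv_mem' := fun {x} ⟨hx, hx'⟩ => ⟨inv_mem hx, by
        rw [show (⟨τ x⁻¹, _⟩ : X.map τ) = (⟨τ x, Subgroup.mem_map_of_mem τ hx⟩ : X.map τ)⁻¹
          from Subtype.ext (map_inv τ x), map_inv, hx', inv_one]⟩ }
  have hWn : W.Normal := by
   refine ⟨fun x hx0 g => ?_⟩
   obtain ⟨hx, hx'⟩ := hx0
   exact ⟨(T.nX (j + 1)).conj_mem x hx g, by
    rw [show (⟨τ (g * x * g⁻¹), _⟩ : X.map τ) = c (π g) ⟨τ x, Subgroup.mem_map_of_mem τ hx⟩ from
      Subtype.ext (by rw [hcval]; simp)]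
    rw [hν]
    rw [hν] at hx'
    have e : ∀ a : A, c a (c (π g) ⟨τ x, Subgroup.mem_map_of_mem τ hx⟩) =
        c (π g) (c ((π g)⁻¹ * a * π g) ⟨τ x, Subgroup.mem_map_of_mem τ hx⟩) := fun a => by
      rw [← MulAut.mul_apply, ← MulAut.mul_apply, ← map_mul, ← map_mul]
      congr 2
      group
    rw [Finset.prod_congr rfl fun a _ => e a, ← map_prod]
    let σ : A ≃ A :=
      { toFun := fun a => ⟨(π g)⁻¹ * a * π g, by
          have := hAn.conj_mem (a : Γ ⧸ C) a.2 (π g)⁻¹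
          rwa [inv_inv] at this⟩
        invFun := fun a => ⟨π g * a * (π g)⁻¹, hAn.conj_mem a a.2 (π g)⟩
        left_inv := fun a => Subtype.ext (by simp [mul_assoc])
        right_inv := fun a => Subtype.ext (by simp [mul_assoc]) }
    rw [show ∏ a : A, c ((π g)⁻¹ * a * π g) ⟨τ x, Subgroup.mem_map_of_mem τ hx⟩ =
      ∏ a : A, c a ⟨τ x, Subgroup.mem_map_of_mem τ hx⟩ from
      Fintype.prod_equiv σ _ _ fun a => rfl, hx', map_one]⟩
  have hcomm : ∀ (a : A) (y : X.map τ), ν (c a y) = ν y := fun a y => by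
    rw [hν, hν]
    refine Fintype.prod_equiv (Equiv.mulRight a) _ _ fun b => ?_
    simp [map_mul, MulAut.mul_apply]
  have hWX : W = X := by
    by_contra hne
    have hWL := T.maxp _ hi W hWn (fun x hx => hx.1) hne
    obtain ⟨a, ha, haq, han⟩ := T.act j hi
    apply han
    rw [mem_cgrp]
    intro x hx
    refine hWL ⟨T.comm_mem_X (j + 1) a hx, ?_⟩
    have haP : π a ∈ A := by
      -- the coprime part lies in the normal complement
      set A' := A.subgroupOf P'
      haveI : A'.Normal := Subgroup.Normal.subgroupOf hAn P'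
      set za : P' := ⟨π a, Subgroup.mem_map_of_mem π ha⟩
      have h1 : orderOf (QuotientGroup.mk za : P' ⧸ A') ∣ orderOf a :=
        (orderOf_map_dvd (QuotientGroup.mk' A') za).trans
          ((dvd_of_eq (Subgroup.orderOf_coe za).symm).trans (orderOf_map_dvd π a))
      have h2 : orderOf (QuotientGroup.mk za : P' ⧸ A') = 1 := by
        by_contra h3
        obtain ⟨p, hp, hpd⟩ := Nat.exists_prime_and_dvd h3
        have hpq : p = q := by
          by_contra hpq
          exact hAidx p hp hpq (hpd.trans (orderOf_dvd_natCard _))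
        subst hpq
        have := Nat.dvd_gcd (hpd.trans h1) dvd_rfl
        rw [haq.gcd_eq_one] at this
        exact hp.ne_one (Nat.dvd_one.1 this)
      exact (QuotientGroup.eq_one_iff za).1 (orderOf_eq_one_iff.1 h2)
    rw [show (⟨τ ⁅a, x⁆, _⟩ : X.map τ) =
      c (⟨π a, haP⟩ : A) ⟨τ x, Subgroup.mem_map_of_mem τ hx⟩ * (⟨τ x, Subgroup.mem_map_of_mem τ hx⟩)⁻¹ from
      Subtype.ext (by
        change τ ⁅a, x⁆ = _
        rw [Subgroup.coe_mul, Subgroup.coe_inv, hcval, map_commutatorElement, commutatorElement_def]),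
      map_mul, map_inv, hcomm, mul_inv_cancel]
  intro l hl
  obtain ⟨hlX, hl1⟩ := (hWX ▸ hLX hl : l ∈ W)
  rw [hν] at hl1
  have hfix : ∀ a : A, c a ⟨τ l, Subgroup.mem_map_of_mem τ hlX⟩ = ⟨τ l, Subgroup.mem_map_of_mem τ hlX⟩ := by
    rintro ⟨y, hy⟩
    obtain ⟨g, hg, rfl⟩ := hAP hy
    obtain ⟨a, b, ha, hb, hgab, ⟨m, hm⟩, hbq⟩ := exists_parts g hq
    have hc' : Commute a b := by
      obtain ⟨u, rfl⟩ := Subgroup.mem_zpowers_iff.1 ha
      obtain ⟨v, rfl⟩ := Subgroup.mem_zpowers_iff.1 hb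
      exact (Commute.refl g).zpow_zpow u v
    have ha1 : π a = 1 := by
      have hyA : (π g) ^ Nat.card A = 1 := congrArg Subtype.val (pow_card_eq_one' (x := (⟨π g, hy⟩ : A)))
      obtain ⟨u, hu⟩ := Subgroup.mem_zpowers_iff.1 ha
      have h1 : (π a) ^ Nat.card A = 1 := by
        rw [← hu, map_zpow, ← zpow_natCast, ← zpow_mul, mul_comm, zpow_mul, zpow_natCast, hyA, one_zpow]
      have h2 : (π a) ^ q ^ m = 1 := by rw [← map_pow, hm, map_one]
      have := Nat.dvd_gcd (orderOf_dvd_of_pow_eq_one h1) (orderOf_dvd_of_pow_eq_one h2)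
      rw [Nat.Coprime.gcd_eq_one (((hq.coprime_iff_not_dvd.2 hAq').symm).pow_right m), Nat.dvd_one,
        orderOf_eq_one_iff] at this
      exact this
    refine Subtype.ext ?_
    change ((c (π g) ⟨τ l, _⟩ : X.map τ) : Γ ⧸ Φ) = τ l
    rw [show π g = π b by rw [hgab, map_mul, ha1, one_mul], hcval]
    have h3 : ⁅τ b, τ l⁆ = 1 := by
      rw [← map_commutatorElement]
      exact (QuotientGroup.eq_one_iff _).2 (Subgroup.mem_sup_right
        (T.Acen j hi b (Subgroup.zpowers_le.2 hg hb) hbq l hl))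
    rw [commutatorElement_eq_one_iff_mul_comm] at h3
    rw [h3, mul_inv_cancel_right]
  rw [Finset.prod_congr rfl fun a _ => hfix a, Finset.prod_const, Finset.card_univ, ← Nat.card_eq_fintype_card] at hl1
  obtain ⟨m, hm⟩ := T.pgrp _ hi l hlX
  have h4 : (τ l) ^ Nat.card A = 1 := congrArg Subtype.val hl1
  have h5 : (τ l) ^ q ^ m = 1 := by
    rw [← map_pow]; exact (QuotientGroup.eq_one_iff _).2 (Subgroup.mem_sup_right hm)
  have h6 := Nat.dvd_gcd (orderOf_dvd_of_pow_eq_one h4) (orderOf_dvd_of_pow_eq_one h5)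
  rw [Nat.Coprime.gcd_eq_one (((hq.coprime_iff_not_dvd.2 hAq').symm).pow_right m), Nat.dvd_one,
    orderOf_eq_one_iff] at h6
  exact (QuotientGroup.eq_one_iff _).1 h6

end Cfsg.Lib.FitHeight
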