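import Cfsg.Agent.FitHeight.Fix

/-!
Averaging identities along the orbits of an automorphism of prime order: faithful action on fixed
vectors, and moved weights detected by a fixed element.
-/

set_option autoImplicit false
set_option linter.unusedSectionVars false
set_option linter.style.haveILetI false
set_option linter.unusedVariables false
set_option linter.unusedSimpArgs false

namespace Cfsg.Lib.FitHeight

universe u v w

variable {F : Type u} [Field F] {V : Type v} [AddCommGroup V] [Module F V] {H : Type w} [Group H]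
  (ρ : H →* Module.End F V)

/-- The sum over the powers of `s`. -/
def orbSum (s : H) (r : ℕ) : Module.End F V := ∑ i ∈ Finset.range r, ρ (s ^ i)

theorem orbSum_apply (s : H) (r : ℕ) (v : V) :
    orbSum ρ s r v = ∑ i ∈ Finset.range r, ρ (s ^ i) v := by
  simp [orbSum]

theorem rho_rho (x y : H) (v : V) : ρ x (ρ y v) = ρ (x * y) v := by
  rw [map_mul, Module.End.mul_apply]

variable {s : H} {r : ℕ}

theorem commute_of_pow (hr : r.Prime) (hs : s ^ r = 1) {i : ℕ} (hi : ¬ r ∣ i) {x : H}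
    (h : Commute (s ^ i) x) : Commute s x := by
  obtain ⟨j, hj⟩ := exists_pow_eq_self_of_coprime (x := s) (n := i)
    (((hr.coprime_iff_not_dvd.2 hi).symm).coprime_dvd_right (orderOf_dvd_of_pow_eq_one hs))
  rw [← hj]
  exact h.pow_left j

theorem not_dvd_of_range (hr : r.Prime) {i : ℕ} (hi : i ∈ Finset.range r) (h0 : i ≠ 0) : ¬ r ∣ i := fun h => by
  have := Nat.le_of_dvd (Nat.pos_of_ne_zero h0) h
  have := Finset.mem_range.1 hi
  omega

theorem rho_orbSum (hr : r.Prime) (hs : s ^ r = 1) (v : V) : ρ s (orbSum ρ s r v) = orbSum ρ s r v := by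
  rw [orbSum_apply, map_sum]
  simp only [rho_rho, ← pow_succ']
  have e : ∑ i ∈ Finset.range r, ρ (s ^ (i + 1)) v + ρ (s ^ 0) v =
      ∑ i ∈ Finset.range r, ρ (s ^ i) v + ρ (s ^ r) v := by
    rw [← Finset.sum_range_succ' (fun i => ρ (s ^ i) v), Finset.sum_range_succ]
  rw [pow_zero, hs] at e
  exact add_right_cancel e

theorem orbSum_fixed {v : V} (hv : ρ s v = v) (r : ℕ) : orbSum ρ s r v = (r : F) • v := by
  have h : ∀ i : ℕ, ρ (s ^ i) v = v := fun i => by
    induction i with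
    | zero => simp
    | succ i ih => rw [pow_succ', ← rho_rho, ih, hv]
  rw [orbSum_apply, Finset.sum_congr rfl fun i _ => h i, Finset.sum_const, Finset.card_range, Nat.cast_smul_eq_nsmul]

theorem rho_comm_orbSum {x : H} (hx : Commute x s) (r : ℕ) (v : V) :
    ρ x (orbSum ρ s r v) = orbSum ρ s r (ρ x v) := by
  rw [orbSum_apply, orbSum_apply, map_sum]
  refine Finset.sum_congr rfl fun i _ => ?_
  rw [rho_rho, rho_rho, (hx.pow_right i).eq]

variable (T : Subgroup H) [Fintype T]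

/-- Reindexing: commutation with `g` runs over all of `T`. -/
theorem sum_commutator {g : H} (hg : ∀ t ∈ T, g * t * g⁻¹ ∈ T) (hinj : ∀ t ∈ T, Commute g t → t = 1) (v : V) :
    ∑ l : T, ρ ((l : H)⁻¹ * g * l * g⁻¹) v = ∑ t : T, ρ (t : H) v := by
  have hmem : ∀ l : T, (l : H)⁻¹ * g * l * g⁻¹ ∈ T := fun l => by
    rw [mul_assoc, mul_assoc, ← mul_assoc g]
    exact mul_mem (inv_mem l.2) (hg l l.2)
  have hb : Function.Bijective fun l : T => (⟨_, hmem l⟩ : T) := by
    refine Finite.injective_iff_bijective.1 fun a b hab => ?_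
    have h1 : (a : H)⁻¹ * g * a * g⁻¹ = (b : H)⁻¹ * g * b * g⁻¹ := congrArg Subtype.val hab
    have h2 : g * ((a : H) * (b : H)⁻¹) = (a : H) * (b : H)⁻¹ * g := by
      calc g * ((a : H) * (b : H)⁻¹) = (a : H) * ((a : H)⁻¹ * g * a * g⁻¹) * g * (b : H)⁻¹ := by group
        _ = (a : H) * ((b : H)⁻¹ * g * b * g⁻¹) * g * (b : H)⁻¹ := by rw [h1]
        _ = _ := by group
    exact Subtype.ext (mul_inv_eq_one.1 (hinj _ (mul_mem a.2 (inv_mem b.2)) h2))
  exact hb.sum_comp fun t : T => ρ (t : H) v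

theorem conj_pow_mem (hsT : ∀ t ∈ T, s * t * s⁻¹ ∈ T) : ∀ (i : ℕ) (t : H), t ∈ T → s ^ i * t * (s ^ i)⁻¹ ∈ T := by
  intro i
  induction i with
  | zero => intro t ht; simpa using ht
  | succ i ih =>
    intro t ht
    have := hsT _ (ih t ht)
    rw [pow_succ']
    simpa [mul_assoc] using this

/-- With no fixed points outside, translates detect every vector. -/
theorem eq_zero_of_orbSum (hr : r.Prime) (hs : s ^ r = 1) (hsT : ∀ t ∈ T, s * t * s⁻¹ ∈ T)
    (hfpf : ∀ t ∈ T, Commute s t → t = 1) (hTF : ((Fintype.card T : ℕ) : F) ≠ 0)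
    (hT0 : ∀ v : V, ∑ t : T, ρ (t : H) v = 0) {v : V}
    (h : ∀ l ∈ T, orbSum ρ s r (ρ l v) = 0) : v = 0 := by
  have key : ∑ l : T, ρ (l : H)⁻¹ (orbSum ρ s r (ρ (l : H) v)) = (Fintype.card T : F) • v := by
    simp only [orbSum_apply, map_sum, rho_rho]
    rw [Finset.sum_comm]
    rw [Finset.sum_eq_single (0 : ℕ)]
    · simp [Nat.cast_smul_eq_nsmul]
    · intro i hi hi0
      calc ∑ l : T, ρ ((l : H)⁻¹ * (s ^ i * l)) v
          = ∑ l : T, ρ ((l : H)⁻¹ * s ^ i * l * (s ^ i)⁻¹) (ρ (s ^ i) v) :=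
            Finset.sum_congr rfl fun l _ => by rw [rho_rho, inv_mul_cancel_right, mul_assoc]
        _ = 0 := by
          rw [sum_commutator ρ T (g := s ^ i) (conj_pow_mem T hsT i)
            (fun t ht hc => hfpf t ht (commute_of_pow hr hs (not_dvd_of_range hr hi hi0) hc)), hT0]
    · intro h0
      exact absurd (Finset.mem_range.2 hr.pos) h0
  rw [Finset.sum_eq_zero (fun l _ => by rw [h l l.2, map_zero])] at key
  exact (smul_eq_zero.1 key.symm).resolve_left hTF

/-- An element fixing the fixed vectors acts trivially. -/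
theorem eq_one_of_fixes [FiniteDimensional F V] (hr : r.Prime) (hs : s ^ r = 1)
    (hsT : ∀ t ∈ T, s * t * s⁻¹ ∈ T) (hfpf : ∀ t ∈ T, Commute s t → t = 1)
    (hcomm : ∀ a ∈ T, ∀ b ∈ T, Commute a b) (hTF : ((Fintype.card T : ℕ) : F) ≠ 0)
    (hT0 : ∀ v : V, ∑ t : T, ρ (t : H) v = 0) {d : H} (hds : Commute d s) (hdT : ∀ t ∈ T, d * t * d⁻¹ ∈ T)
    (hdr : ¬ r ∣ orderOf d) (hfix : ∀ v : V, ρ s v = v → ρ d v = v) (v : V) : ρ d v = v := by
  have hgfpf : ∀ i ∈ Finset.range r, i ≠ 0 → ∀ t ∈ T, Commute (d * s ^ i) t → t = 1 := by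
    intro i hi hi0 t ht hc
    have h1 := hc.pow_left (orderOf d)
    rw [(hds.pow_right i).mul_pow, pow_orderOf_eq_one, one_mul, ← pow_mul] at h1
    exact hfpf t ht (commute_of_pow hr hs (fun hd => by
      rcases (Nat.Prime.dvd_mul hr).1 hd with h | h
      · exact not_dvd_of_range hr hi hi0 h
      · exact hdr h) h1)
  let a : H → H := fun l => l⁻¹ * d * l * d⁻¹
  have key : ∀ u : V, ∑ l : T, ρ (a l) (ρ d u) = (Fintype.card T : F) • u := by
    intro u
    have h1 : ∑ l : T, ρ (l : H)⁻¹ (ρ d (orbSum ρ s r (ρ (l : H) u))) =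
        ∑ l : T, ρ (l : H)⁻¹ (orbSum ρ s r (ρ (l : H) u)) :=
      Finset.sum_congr rfl fun l _ => by rw [hfix _ (rho_orbSum ρ hr hs _)]
    have h2 : ∑ l : T, ρ (l : H)⁻¹ (orbSum ρ s r (ρ (l : H) u)) = (Fintype.card T : F) • u := by
      simp only [orbSum_apply, map_sum, rho_rho]
      rw [Finset.sum_comm, Finset.sum_eq_single (0 : ℕ)]
      · simp [Nat.cast_smul_eq_nsmul]
      · intro i hi hi0
        calc ∑ l : T, ρ ((l : H)⁻¹ * (s ^ i * l)) u
            = ∑ l : T, ρ ((l : H)⁻¹ * s ^ i * l * (s ^ i)⁻¹) (ρ (s ^ i) u) :=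
              Finset.sum_congr rfl fun l _ => by rw [rho_rho, inv_mul_cancel_right, mul_assoc]
          _ = 0 := by
            rw [sum_commutator ρ T (g := s ^ i) (conj_pow_mem T hsT i)
              (fun t ht hc => hfpf t ht (commute_of_pow hr hs (not_dvd_of_range hr hi hi0) hc)), hT0]
      · intro h0
        exact absurd (Finset.mem_range.2 hr.pos) h0
    rw [← h2, ← h1]
    simp only [orbSum_apply, map_sum, rho_rho]
    rw [Finset.sum_comm (s := (Finset.univ : Finset T)), Finset.sum_eq_single (0 : ℕ)]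
    · refine Finset.sum_congr rfl fun l _ => ?_
      congr 2
      simp [a, mul_assoc]
    · intro i hi hi0
      calc ∑ l : T, ρ ((l : H)⁻¹ * (d * (s ^ i * l))) u
          = ∑ l : T, ρ ((l : H)⁻¹ * (d * s ^ i) * l * (d * s ^ i)⁻¹) (ρ (d * s ^ i) u) :=
            Finset.sum_congr rfl fun l _ => by
              rw [rho_rho, inv_mul_cancel_right]; simp only [mul_assoc]
        _ = 0 := by
          rw [sum_commutator ρ T (g := d * s ^ i) (fun t ht => by
              have := hdT _ (conj_pow_mem T hsT i t ht)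
              simpa [mul_assoc] using this)
            (hgfpf i hi hi0), hT0]
    · intro h0
      exact absurd (Finset.mem_range.2 hr.pos) h0
  have hamem : ∀ l ∈ T, a l ∈ T := fun l hl => by
    change l⁻¹ * d * l * d⁻¹ ∈ T
    rw [mul_assoc, mul_assoc, ← mul_assoc d]
    exact mul_mem (inv_mem hl) (hdT l hl)
  have hfix2 : ∀ l ∈ T, ∀ u : V, ρ (a l) u = u := by
    intro l hl u
    refine smul_right_injective V hTF ?_
    change (Fintype.card T : F) • ρ (a l) u = (Fintype.card T : F) • u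
    rw [← map_smul, ← key u, map_sum]
    refine Fintype.sum_equiv (Equiv.mulLeft (⟨l, hl⟩ : T)) _ _ fun x => ?_
    rw [rho_rho]
    congr 2
    change a l * a x = (l * (x : H))⁻¹ * d * (l * (x : H)) * d⁻¹
    calc a l * a x = a l * (x : H)⁻¹ * (d * (x : H) * d⁻¹) := by simp only [a]; group
      _ = (x : H)⁻¹ * a l * (d * (x : H) * d⁻¹) := by
        rw [(hcomm _ (hamem l hl) _ (inv_mem x.2)).eq]
      _ = _ := by simp only [a]; group
  have hdl : ∀ l ∈ T, ∀ u : V, ρ l (ρ d u) = ρ d (ρ l u) := by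
    intro l hl u
    have h1 := congrArg (ρ l) (hfix2 l hl (ρ d u))
    rw [rho_rho, rho_rho, rho_rho] at h1
    rw [rho_rho, rho_rho, ← h1]
    congr 2
    simp only [a]; group
  refine sub_eq_zero.1 (eq_zero_of_orbSum ρ T hr hs hsT hfpf hTF hT0 fun l hl => ?_)
  rw [map_sub, hdl l hl, map_sub, ← rho_comm_orbSum ρ hds, hfix _ (rho_orbSum ρ hr hs _), sub_self]

/-- A fixed element moving a fixed vector is detected on a moved weight. -/
theorem exists_moved [FiniteDimensional F V] [Finite H] (hr : r.Prime) (hs : s ^ r = 1) (hrF : (r : F) ≠ 0)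
    (hrT : ¬ r ∣ Fintype.card T) (hsT : ∀ t ∈ T, s * t * s⁻¹ ∈ T)
    (hgen : ∀ U : Subgroup H, U ≤ T → (∀ l ∈ T, l⁻¹ * s * l * s⁻¹ ∈ U) → U = T)
    (hC : ∀ c ∈ T, Commute s c → ∀ t ∈ T, Commute c t) (hTF : ((Fintype.card T : ℕ) : F) ≠ 0)
    (hT0 : ∀ v : V, ∑ t : T, ρ (t : H) v = 0) {d : H} (hds : Commute d s) (hdT : ∀ t ∈ T, d * t * d⁻¹ ∈ T)
    (hdC : ∀ c ∈ T, Commute s c → Commute d c) (hdr : ¬ r ∣ orderOf d)
    (hd : (∃ p j : ℕ, p.Prime ∧ ¬ p ∣ Fintype.card T ∧ d ^ p ^ j = 1) ∨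
      ∀ a ∈ T, ∀ t ∈ T, Commute (a⁻¹ * d * a * d⁻¹) t)
    (Ω : Set V) (hΩs : ∀ w ∈ Ω, ρ s w ∈ Ω) (hΩT : ∀ t ∈ T, ∀ w ∈ Ω, ρ t w ∈ Ω)
    (hΩd : ∀ w ∈ Ω, ρ d w ∈ Ω) (hspan : Submodule.span F Ω = ⊤)
    (hmove : ∃ v : V, ρ s v = v ∧ ρ d v ≠ v) :
    ∃ w ∈ Ω, ρ s w ≠ w ∧ ρ d (orbSum ρ s r w) ≠ orbSum ρ s r w := by
  classical
  haveI : Fact r.Prime := ⟨hr⟩
  by_contra hno
  push Not at hno
  obtain ⟨ω, hω, hωs, hωd⟩ : ∃ ω ∈ Ω, ρ s ω = ω ∧ ρ d ω ≠ ω := by
    by_contra hc
    push Not at hc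
    obtain ⟨v, hv, hvd⟩ := hmove
    have hle : Submodule.span F Ω ≤ LinearMap.ker ((ρ d - 1) * orbSum ρ s r) := by
      refine Submodule.span_le.2 fun w hw => ?_
      rw [SetLike.mem_coe, LinearMap.mem_ker, Module.End.mul_apply, LinearMap.sub_apply, Module.End.one_apply,
        sub_eq_zero]
      by_cases hws : ρ s w = w
      · rw [orbSum_fixed ρ hws, map_smul, hc w hw hws]
      · exact hno w hw hws
    have h := hle (hspan.symm ▸ Submodule.mem_top : v ∈ Submodule.span F Ω)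
    rw [LinearMap.mem_ker, Module.End.mul_apply, LinearMap.sub_apply, Module.End.one_apply, sub_eq_zero,
      orbSum_fixed ρ hv, map_smul] at h
    exact hvd (smul_right_injective V hrF h)
  set δ := ρ d ω - ω with hδ
  have hδ0 : δ ≠ 0 := fun h => hωd (sub_eq_zero.1 h)
  -- stabiliser and the cosets holding fixed points
  have hstab : ∀ w : V, ∃ S : Subgroup H, ∀ x, x ∈ S ↔ x ∈ T ∧ ρ x w = w := fun w =>
    ⟨{ carrier := {x | x ∈ T ∧ ρ x w = w}
       one_mem' := ⟨one_mem T, by simp⟩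
       mul_mem' := fun {x y} hx hy => ⟨mul_mem hx.1 hy.1, by rw [← rho_rho, hy.2, hx.2]⟩
       inv_mem' := fun {x} hx => ⟨inv_mem hx.1, by
         conv_lhs => rw [← hx.2]
         rw [rho_rho, inv_mul_cancel, map_one, Module.End.one_apply]⟩ }, fun x => Iff.rfl⟩
  obtain ⟨S, hS⟩ := hstab ω
  have hST : S ≤ T := fun x hx => ((hS x).1 hx).1
  have hSs : ∀ u ∈ S, s * u * s⁻¹ ∈ S := fun u hu => by
    refine (hS _).2 ⟨hsT u (hST hu), ?_⟩
    have h1 : ρ s⁻¹ ω = ω := by
      conv_lhs => rw [← hωs]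
      rw [rho_rho, inv_mul_cancel, map_one, Module.End.one_apply]
    rw [← rho_rho, h1, ← rho_rho, ((hS u).1 hu).2, hωs]
  let U : Subgroup H :=
    { carrier := {x | x ∈ T ∧ ∃ c ∈ T, Commute s c ∧ ρ x ω = ρ c ω}
      one_mem' := ⟨one_mem T, 1, one_mem T, Commute.one_right s, rfl⟩
      mul_mem' := fun {x y} hx hy => by
        obtain ⟨hxT, c, hc, hcs, hce⟩ := hx
        obtain ⟨hyT, e, he, hes, hee⟩ := hy
        refine ⟨mul_mem hxT hyT, e * c, mul_mem he hc, hes.mul_right hcs, ?_⟩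
        rw [← rho_rho, hee, rho_rho, ← (hC e he hes x hxT).eq, ← rho_rho, hce, rho_rho]
      inv_mem' := fun {x} hx => by
        obtain ⟨hxT, c, hc, hcs, hce⟩ := hx
        refine ⟨inv_mem hxT, c⁻¹, inv_mem hc, hcs.inv_right, ?_⟩
        have h1 : ρ (x⁻¹ * c) ω = ω := by rw [← rho_rho, ← hce, rho_rho, inv_mul_cancel, map_one, Module.End.one_apply]
        conv_rhs => rw [← h1]
        rw [rho_rho, ← (hC c hc hcs _ (inv_mem hxT)).eq, inv_mul_cancel_left] }
  have hUT : U ≤ T := fun x hx => hx.1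
  have hUfix : ∀ x ∈ U, ρ s (ρ x ω) = ρ x ω := by
    rintro x ⟨-, c, -, hcs, hce⟩
    rw [hce, rho_rho, hcs.eq, ← rho_rho, hωs]
  have hfixU : ∀ l ∈ T, ρ s (ρ l ω) = ρ l ω → l ∈ U := by
    intro l hl h
    have h1 : l⁻¹ * s * l * s⁻¹ ∈ S := by
      refine (hS _).2 ⟨by rw [mul_assoc, mul_assoc, ← mul_assoc s]; exact mul_mem (inv_mem hl) (hsT l hl), ?_⟩
      have h2 : ρ s⁻¹ ω = ω := by
        conv_lhs => rw [← hωs]
        rw [rho_rho, inv_mul_cancel, map_one, Module.End.one_apply]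
      rw [← rho_rho, h2, ← rho_rho, ← rho_rho, h, rho_rho, inv_mul_cancel, map_one, Module.End.one_apply]
    haveI : Finite S := inferInstance
    obtain ⟨u, hu, huc⟩ := exists_fixed_coset S (g := s) (p := r) (n := 1) (by rwa [pow_one])
      (fun hd' => hrT (hd'.trans (by rw [← Nat.card_eq_fintype_card]; exact Subgroup.card_dvd_of_le hST)))
      hSs h1
    exact ⟨hl, l * u, mul_mem hl (hST hu), huc, by rw [← rho_rho, ((hS u).1 hu).2]⟩
  have hUs : ∀ u ∈ U, s * u * s⁻¹ ∈ U := fun u hu => hfixU _ (hsT u (hUT hu)) (by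
    have h1 : ρ s⁻¹ ω = ω := by
      conv_lhs => rw [← hωs]
      rw [rho_rho, inv_mul_cancel, map_one, Module.End.one_apply]
    have h2 : ρ (s * u * s⁻¹) ω = ρ u ω := by rw [← rho_rho, h1, ← rho_rho, hUfix u hu]
    rw [h2, hUfix u hu])
  have hUne : ∃ l ∈ T, l⁻¹ * s * l * s⁻¹ ∉ U := by
    by_contra hc
    push Not at hc
    have hUT' := hgen U hUT hc
    have h2 : ∀ l ∈ T, ρ l ω = ω := by
      have : S = T := hgen S hST fun l hl => (hS _).2 ⟨hUT' ▸ hc l hl, by
        have h1 : ρ s⁻¹ ω = ω := by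
          conv_lhs => rw [← hωs]
          rw [rho_rho, inv_mul_cancel, map_one, Module.End.one_apply]
        rw [← rho_rho, h1, ← rho_rho, ← rho_rho, hUfix l (hUT'.ge hl), rho_rho, inv_mul_cancel, map_one,
          Module.End.one_apply]⟩
      exact fun l hl => ((hS l).1 (this.ge hl)).2
    refine hωd ?_
    have h3 := hT0 ω
    rw [Finset.sum_congr rfl fun (t : T) _ => h2 t t.2, Finset.sum_const, Finset.card_univ,
      ← Nat.cast_smul_eq_nsmul F, smul_eq_zero] at h3
    rw [h3.resolve_left hTF, map_zero]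
  -- moved points and their sums
  have hmoved : ∀ x ∈ T, x ∉ U → ρ d (orbSum ρ s r (ρ x ω)) = orbSum ρ s r (ρ x ω) := fun x hx hxU =>
    hno _ (hΩT x hx ω hω) fun h => hxU (hfixU x hx h)
  let U' : H → Prop := fun x => d⁻¹ * x * d ∈ U
  have hU'fix : ∀ x ∈ T, ρ s (ρ x (ρ d ω)) = ρ x (ρ d ω) → d⁻¹ * x * d ∈ T → U' x := fun x hx h hxT => by
    refine hfixU _ hxT ?_
    have h1 := congrArg (ρ d⁻¹) h
    simp only [rho_rho] at h1
    rw [rho_rho]
    refine Eq.trans ?_ (h1.trans ?_)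
    · congr 2
      simp only [← mul_assoc]
      rw [(hds.inv_left).eq]
    · congr 2; group
  have hdT' : ∀ t ∈ T, d⁻¹ * t * d ∈ T := by
    intro t ht
    have hb : Function.Bijective fun x : T => (⟨d * x * d⁻¹, hdT x x.2⟩ : T) :=
      Finite.injective_iff_bijective.1 fun a b h => Subtype.ext
        (mul_left_cancel (mul_right_cancel (congrArg Subtype.val h)))
    obtain ⟨x, hx⟩ := hb.2 ⟨t, ht⟩
    have hxt : d * x * d⁻¹ = t := congrArg Subtype.val hx
    rw [← hxt, show d⁻¹ * (d * (x : H) * d⁻¹) * d = x by group]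
    exact x.2
  -- if no term is fixed, the identity kills `δ`
  have identity : ∀ l ∈ T, l ∉ U → ∃ i ∈ Finset.range r,
      U' (l⁻¹ * (d * s ^ i) * l * (d * s ^ i)⁻¹) := by
    intro l hl hlU
    by_contra hc
    push Not at hc
    refine hδ0 ?_
    have hy := hmoved l hl hlU
    have h1 := congrArg (fun y => (ρ d - 1 : Module.End F V) (orbSum ρ s r (ρ l⁻¹ y))) hy
    have hkill : ∀ x ∈ T, ∀ w ∈ Ω, ρ s (ρ x w) ≠ ρ x w →
        (ρ d - 1 : Module.End F V) (orbSum ρ s r (ρ x w)) = 0 := fun x hx w hw hne => by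
      rw [LinearMap.sub_apply, Module.End.one_apply, sub_eq_zero]
      exact hno _ (hΩT x hx w hw) hne
    have hA : (ρ d - 1 : Module.End F V) (orbSum ρ s r (ρ l⁻¹ (ρ d (orbSum ρ s r (ρ l ω))))) = 0 := by
      simp only [orbSum_apply ρ s r (ρ l ω), map_sum, rho_rho]
      refine Finset.sum_eq_zero fun i hi => ?_
      have hg : ∀ t ∈ T, d * s ^ i * t * (d * s ^ i)⁻¹ ∈ T := fun t ht => by
        have := hdT _ (conj_pow_mem T hsT i t ht)
        simpa [mul_assoc] using this
      have hxT : l⁻¹ * (d * s ^ i) * l * (d * s ^ i)⁻¹ ∈ T := by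
        rw [mul_assoc, mul_assoc, ← mul_assoc (d * s ^ i)]
        exact mul_mem (inv_mem hl) (hg l hl)
      have e : ρ (l⁻¹ * (d * (s ^ i * l))) ω =
          ρ (l⁻¹ * (d * s ^ i) * l * (d * s ^ i)⁻¹) (ρ d ω) := by
        have hsi : ρ (s ^ i) ω = ω := by
          clear hxT hg hi
          induction i with
          | zero => simp
          | succ i ih => rw [pow_succ', ← rho_rho, ih, hωs]
        conv_rhs => rw [← hsi, rho_rho, rho_rho]
        congr 2; group
      rw [e]
      exact hkill _ hxT _ (hΩd ω hω) fun h => hc i hi (hU'fix _ hxT h (hdT' _ hxT))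
    have hB : (ρ d - 1 : Module.End F V) (orbSum ρ s r (ρ l⁻¹ (orbSum ρ s r (ρ l ω)))) = (r : F) • δ := by
      simp only [orbSum_apply ρ s r (ρ l ω), map_sum, rho_rho]
      rw [Finset.sum_eq_single (0 : ℕ)]
      · rw [pow_zero, one_mul, inv_mul_cancel, map_one, Module.End.one_apply, orbSum_fixed ρ hωs, map_smul,
          LinearMap.sub_apply, Module.End.one_apply]
      · intro i hi hi0
        have hsi : ρ (s ^ i) ω = ω := by
          clear hi hi0
          induction i with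
          | zero => simp
          | succ i ih => rw [pow_succ', ← rho_rho, ih, hωs]
        have hxT : l⁻¹ * s ^ i * l * (s ^ i)⁻¹ ∈ T := by
          rw [mul_assoc, mul_assoc, ← mul_assoc (s ^ i)]
          exact mul_mem (inv_mem hl) (conj_pow_mem T hsT i l hl)
        have e : ρ (l⁻¹ * (s ^ i * l)) ω = ρ (l⁻¹ * s ^ i * l * (s ^ i)⁻¹) ω := by
          conv_rhs => rw [← hsi, rho_rho]
          congr 2; group
        rw [e]
        refine hkill _ hxT _ hω fun h => hlU ?_
        -- a coset fixed by a power is fixed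
        haveI : Finite U := inferInstance
        obtain ⟨u, hu, huc⟩ := exists_fixed_coset U (g := s ^ i) (p := r) (n := 1)
          (by rw [pow_one, ← pow_mul, mul_comm, pow_mul, hs, one_pow])
          (fun hd' => hrT (hd'.trans (by rw [← Nat.card_eq_fintype_card]; exact Subgroup.card_dvd_of_le hUT)))
          (fun v hv => by
            clear hxT e hi hi0 hsi h
            induction i with
            | zero => simpa using hv
            | succ i ih => rw [pow_succ']; simpa [mul_assoc] using hUs _ ih)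
          (hfixU _ hxT h)
        have h2 : l * u ∈ U := hfixU _ (mul_mem hl (hUT hu)) (by
          rw [rho_rho, (commute_of_pow hr hs (not_dvd_of_range hr hi hi0) huc).eq, ← rho_rho, hωs])
        exact (U.mul_mem_cancel_right hu).1 h2
      · intro h0
        exact absurd (Finset.mem_range.2 hr.pos) h0
    rw [hA, hB] at h1
    exact (smul_eq_zero.1 h1.symm).resolve_left hrF
  -- `d` normalises the cosets
  have hdi : ∀ i : ℕ, d * s ^ i = s ^ i * d := fun i => (hds.pow_right i).eq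
  have hsU : ∀ (i : ℕ) (u : H), u ∈ U → s ^ i * u * (s ^ i)⁻¹ ∈ U := by
    intro i
    induction i with
    | zero => intro u hu; simpa using hu
    | succ i ih =>
      intro u hu
      rw [pow_succ']
      simpa [mul_assoc] using hUs _ (ih u hu)
  have hsU' : ∀ (i : ℕ) (u : H), s ^ i * u * (s ^ i)⁻¹ ∈ U → u ∈ U := by
    intro i u hu
    have hp : s ^ (i * (r - 1)) * s ^ i = 1 := by
      rw [← pow_add, show i * (r - 1) + i = r * i by
        have := hr.pos
        rw [Nat.mul_sub_one, Nat.sub_add_cancel (Nat.le_mul_of_pos_right i this), mul_comm], pow_mul, hs, one_pow]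
    have h := hsU (i * (r - 1)) _ hu
    rw [eq_inv_of_mul_eq_one_left hp] at h
    simpa [mul_assoc] using h
  have hUd1 : ∀ u ∈ U, d⁻¹ * u * d ∈ U := by
    by_contra hc
    push Not at hc
    obtain ⟨u, hu, hud⟩ := hc
    set l := d * u * d⁻¹ with hl
    by_cases hlU : l ∈ U
    · -- the conjugation maps the finite subgroup into itself
      by_cases hall : ∀ x ∈ U, d * x * d⁻¹ ∈ U
      · have hbij : Function.Bijective fun x : U => (⟨d * x * d⁻¹, hall x x.2⟩ : U) :=
          Finite.injective_iff_bijective.1 fun a b h => Subtype.ext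
            (mul_left_cancel (mul_right_cancel (congrArg Subtype.val h)))
        obtain ⟨x, hx⟩ := hbij.2 ⟨u, hu⟩
        have hxu : d * x * d⁻¹ = u := congrArg Subtype.val hx
        apply hud
        rw [← hxu, show d⁻¹ * (d * (x : H) * d⁻¹) * d = x by group]
        exact x.2
      · push Not at hall
        obtain ⟨x, hx, hxd⟩ := hall
        obtain ⟨i, -, hi⟩ := identity _ (hdT x (hUT hx)) hxd
        refine hxd (hsU' i _ ?_)
        have h1 : U' (d * s ^ i * (d * x * d⁻¹) * (d * s ^ i)⁻¹) := by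
          have h2 := mul_mem hx hi
          change d⁻¹ * _ * d ∈ U
          convert h2 using 1
          group
        change d⁻¹ * _ * d ∈ U at h1
        convert h1 using 1
        group
    · obtain ⟨i, -, hi⟩ := identity _ (hdT u (hUT hu)) hlU
      refine hlU (hsU' i _ ?_)
      have h2 := mul_mem hu hi
      convert h2 using 1
      rw [hl]; group
  have hUd2 : ∀ u ∈ U, d * u * d⁻¹ ∈ U := by
    have hbij : Function.Bijective fun x : U => (⟨d⁻¹ * x * d, hUd1 x x.2⟩ : U) :=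
      Finite.injective_iff_bijective.1 fun a b h => Subtype.ext
        (mul_left_cancel (mul_right_cancel (congrArg Subtype.val h)))
    intro u hu
    obtain ⟨x, hx⟩ := hbij.2 ⟨u, hu⟩
    have hxu : d⁻¹ * x * d = u := congrArg Subtype.val hx
    rw [← hxu, show d * (d⁻¹ * (x : H) * d) * d⁻¹ = x by group]
    exact x.2
  have hcos : ∀ l ∈ T, l⁻¹ * d * l * d⁻¹ ∈ U := by
    intro l hl
    by_cases hlU : l ∈ U
    · rw [mul_assoc, mul_assoc, ← mul_assoc d]
      exact mul_mem (inv_mem hlU) (hUd2 l hlU)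
    obtain ⟨i, hi, hi'⟩ := identity l hl hlU
    have hmem : l⁻¹ * (d * s ^ i) * l * (d * s ^ i)⁻¹ ∈ U := by
      have := hUd2 _ hi'
      convert this using 1
      group
    by_cases hi0 : i = 0
    · subst hi0
      simpa using hmem
    exfalso
    set g := d * s ^ i
    have hgU : ∀ u ∈ U, g * u * g⁻¹ ∈ U := fun u hu => by
      have := hUd2 _ (hsU i u hu)
      simpa [g, mul_assoc] using this
    have hpow : ∀ n : ℕ, l⁻¹ * g ^ n * l * (g ^ n)⁻¹ ∈ U := by
      intro n
      induction n with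
      | zero => simp
      | succ n ih =>
        have := mul_mem hmem (hgU _ ih)
        convert this using 1
        rw [pow_succ']; group
    have h1 := hpow (orderOf d)
    rw [(hds.pow_right i).mul_pow, pow_orderOf_eq_one, one_mul, ← pow_mul] at h1
    obtain ⟨u, hu, huc⟩ := exists_fixed_coset U (g := s ^ (i * orderOf d)) (p := r) (n := 1)
      (by rw [pow_one, ← pow_mul, mul_comm, pow_mul, hs, one_pow])
      (fun hd' => hrT (hd'.trans (by rw [← Nat.card_eq_fintype_card]; exact Subgroup.card_dvd_of_le hUT)))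
      (fun v hv => hsU _ v hv) h1
    have hnd : ¬ r ∣ i * orderOf d := fun h => by
      rcases hr.dvd_mul.1 h with h | h
      · exact not_dvd_of_range hr hi hi0 h
      · exact hdr h
    have h2 : l * u ∈ U := hfixU _ (mul_mem hl (hUT hu)) (by
      rw [rho_rho, (commute_of_pow hr hs hnd huc).eq, ← rho_rho, hωs])
    exact hlU ((U.mul_mem_cancel_right hu).1 h2)
  -- elements of `T` commuting with `d` on `ω`
  let G : H → Prop := fun x => x ∈ T ∧ ρ (d * x) ω = ρ (x * d) ω
  obtain ⟨l, hlT, hlU, hlG, hxG⟩ : ∃ l, l ∈ T ∧ l ∉ U ∧ G l ∧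
      ∀ i ∈ Finset.range r, G (l⁻¹ * s ^ i * l * (s ^ i)⁻¹) := by
    rcases hd with ⟨p, j, hp, hpT, hdp⟩ | hcen
    · haveI := Fact.mk hp
      obtain ⟨l₀, hl₀, hl₀U⟩ := hUne
      have hlT : l₀⁻¹ * s * l₀ * s⁻¹ ∈ T := by
        rw [mul_assoc, mul_assoc, ← mul_assoc s]; exact mul_mem (inv_mem hl₀) (hsT _ hl₀)
      obtain ⟨u, hu, huc⟩ := exists_fixed_coset U (g := d) (p := p) (n := j) hdp
        (fun h => hpT (h.trans (by rw [← Nat.card_eq_fintype_card]; exact Subgroup.card_dvd_of_le hUT)))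
        hUd2 (hcos _ hlT)
      refine ⟨_, mul_mem hlT (hUT hu), fun h => hl₀U ((U.mul_mem_cancel_right hu).1 h), ⟨mul_mem hlT (hUT hu), by rw [huc.eq]⟩,
        fun i _ => ⟨?_, ?_⟩⟩
      · have := mul_mem (inv_mem (mul_mem hlT (hUT hu))) (conj_pow_mem T hsT i _ (mul_mem hlT (hUT hu)))
        simpa only [mul_assoc] using this
      · have hc : Commute d ((l₀⁻¹ * s * l₀ * s⁻¹ * u)⁻¹ * s ^ i * (l₀⁻¹ * s * l₀ * s⁻¹ * u) * (s ^ i)⁻¹) :=
          ((huc.inv_right.mul_right (hds.pow_right i)).mul_right huc).mul_right (hds.pow_right i).inv_right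
        rw [hc.eq]
    · -- a commutator with `s`
      have hgood : ∀ x ∈ T, ∀ i : ℕ, G (x⁻¹ * s ^ i * x * (s ^ i)⁻¹) := by
        intro x hx i
        set y := x⁻¹ * s ^ i * x * (s ^ i)⁻¹ with hy
        have hyT : y ∈ T := by
          rw [hy, mul_assoc, mul_assoc, ← mul_assoc (s ^ i)]
          exact mul_mem (inv_mem hx) (conj_pow_mem T hsT i x hx)
        refine ⟨hyT, ?_⟩
        have hax : d⁻¹ * (x⁻¹ * d * x * d⁻¹) * d ∈ U := hUd1 _ (hcos x hx)
        obtain ⟨-, c, hcT, hcs, hce⟩ := hax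
        set a := x⁻¹ * d * x * d⁻¹ with ha
        have haT : a ∈ T := hUT (hcos x hx)
        have hax' : ρ a (ρ d ω) = ρ c (ρ d ω) := by
          have h1 := congrArg (ρ d) hce
          rw [rho_rho, rho_rho, (hdC c hcT hcs).eq, ← rho_rho _ c] at h1
          rw [← h1, rho_rho]
          congr 2; group
        have hay : ρ (y⁻¹ * d * y * d⁻¹) (ρ d ω) = ρ d ω := by
          have hasT : s ^ i * a * (s ^ i)⁻¹ ∈ T := conj_pow_mem T hsT i a haT
          have e : y⁻¹ * d * y * d⁻¹ = a⁻¹ * (s ^ i * a * (s ^ i)⁻¹) := by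
            set z := x⁻¹ * (s ^ i * x * (s ^ i)⁻¹)
            have hzy : y = z := by simp only [z, hy, mul_assoc]
            have hsx : s ^ i * x * (s ^ i)⁻¹ ∈ T := conj_pow_mem T hsT i x hx
            set w := s ^ i * x * (s ^ i)⁻¹ with hw
            have hcw := hcen w hsx
            have haw : s ^ i * a * (s ^ i)⁻¹ = w⁻¹ * d * w * d⁻¹ := by
              rw [ha, hw]
              have := hdi i
              calc s ^ i * (x⁻¹ * d * x * d⁻¹) * (s ^ i)⁻¹
                  = (s ^ i * x * (s ^ i)⁻¹)⁻¹ * (s ^ i * d * (s ^ i)⁻¹) * (s ^ i * x * (s ^ i)⁻¹) *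
                    (s ^ i * d * (s ^ i)⁻¹)⁻¹ := by group
                _ = _ := by rw [← hdi i, mul_inv_cancel_right]
            rw [haw, hzy]
            calc z⁻¹ * d * z * d⁻¹ = w⁻¹ * (x * d * x⁻¹ * d⁻¹) * (d * w * d⁻¹) := by simp only [z, hw]; group
              _ = w⁻¹ * (a⁻¹) * (d * w * d⁻¹) := by
                congr 2
                have h1 := hcen x hx x hx
                -- `a` commutes with `x`
                calc x * d * x⁻¹ * d⁻¹ = x * a⁻¹ * x⁻¹ := by rw [ha]; group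
                  _ = a⁻¹ := by rw [← (h1.inv_left).eq, mul_inv_cancel_right]
              _ = a⁻¹ * (w⁻¹ * d * w * d⁻¹) := by
                rw [show w⁻¹ * a⁻¹ = a⁻¹ * w⁻¹ from ((hcen x hx w⁻¹ (inv_mem hsx)).inv_left).eq.symm]; group
          rw [e, ← rho_rho]
          have h1 : ρ (s ^ i * a * (s ^ i)⁻¹) (ρ d ω) = ρ c (ρ d ω) := by
            have hsd : ∀ m : ℕ, ρ (s ^ m) (ρ d ω) = ρ d ω := fun m => by
              induction m with
              | zero => simp
              | succ m ih => rw [pow_succ', ← rho_rho, ih, rho_rho, ← hds.eq, ← rho_rho, hωs]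
            have hsd' : ρ (s ^ i)⁻¹ (ρ d ω) = ρ d ω := by
              conv_lhs => rw [← hsd i]
              rw [rho_rho _ (s ^ i)⁻¹, inv_mul_cancel, map_one, Module.End.one_apply]
            rw [← rho_rho, hsd', ← rho_rho, hax', rho_rho, (hcs.pow_left i).eq, ← rho_rho, hsd i]
          rw [h1, ← hax', rho_rho, inv_mul_cancel, map_one, Module.End.one_apply]
        have h2 := congrArg (ρ y) hay
        rw [rho_rho, rho_rho, rho_rho] at h2
        rw [← h2]
        congr 2; group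
      obtain ⟨l₀, hl₀, hl₀U⟩ := hUne
      have h1 := hgood l₀ hl₀ 1
      rw [pow_one] at h1
      exact ⟨_, h1.1, hl₀U, h1, fun i _ => hgood _ h1.1 i⟩
  -- conclusion
  have hGkill : ∀ x, G x → x ∉ U → orbSum ρ s r (ρ x δ) = 0 := by
    intro x hx hxU
    have h := hmoved x hx.1 hxU
    rw [rho_comm_orbSum ρ hds, rho_rho, hx.2, ← rho_rho] at h
    rw [hδ, map_sub, map_sub, h, sub_self]
  have hδs : ∀ m : ℕ, ρ (s ^ m) δ = δ := by
    intro m
    induction m with
    | zero => simp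
    | succ m ih =>
      rw [pow_succ', ← rho_rho, ih, hδ, map_sub, hωs, rho_rho, ← hds.eq, ← rho_rho, hωs]
  have hfinal := congrArg (fun z => orbSum ρ s r (ρ l⁻¹ z)) (hGkill l hlG hlU)
  simp only [map_zero, orbSum_apply ρ s r (ρ l δ), map_sum, rho_rho] at hfinal
  rw [Finset.sum_eq_single (0 : ℕ)] at hfinal
  · rw [pow_zero, one_mul, inv_mul_cancel, map_one, Module.End.one_apply,
      orbSum_fixed ρ (by simpa using hδs 1)] at hfinal
    exact hδ0 ((smul_eq_zero.1 hfinal).resolve_left hrF)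
  · intro i hi hi0
    have e : ρ (l⁻¹ * (s ^ i * l)) δ = ρ (l⁻¹ * s ^ i * l * (s ^ i)⁻¹) δ := by
      conv_rhs => rw [← hδs i, rho_rho]
      congr 2; group
    rw [e]
    refine hGkill _ (hxG i hi) fun hmem => hlU ?_
    obtain ⟨u, hu, huc⟩ := exists_fixed_coset U (g := s ^ i) (p := r) (n := 1)
      (by rw [pow_one, ← pow_mul, mul_comm, pow_mul, hs, one_pow])
      (fun hd' => hrT (hd'.trans (by rw [← Nat.card_eq_fintype_card]; exact Subgroup.card_dvd_of_le hUT)))
      (fun v hv => hsU i v hv) hmem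
    have h2 : l * u ∈ U := hfixU _ (mul_mem hlT (hUT hu)) (by
      rw [rho_rho, (commute_of_pow hr hs (not_dvd_of_range hr hi hi0) huc).eq, ← rho_rho, hωs])
    exact (U.mul_mem_cancel_right hu).1 h2
  · intro h0
    exact absurd (Finset.mem_range.2 hr.pos) h0

end Cfsg.Lib.FitHeight
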