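import Mathlib

/-!
Iterated nilpotent residuals of a subgroup and the length of nilpotent series.
-/

set_option autoImplicit false
set_option linter.unusedSectionVars false
set_option linter.style.haveILetI false

namespace Cfsg.Lib.FitHeight

open scoped commutatorElement

universe u v

variable {G : Type u} [Group G]

/-- The nilpotent residual of a subgroup. -/
def rsd (X : Subgroup G) : Subgroup G := ⨅ k, X.lowerCentralSeries k

/-- The iterated nilpotent residuals. -/
def R : ℕ → Subgroup G → Subgroup G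
  | 0, X => X
  | i + 1, X => rsd (R i X)

theorem R_zero (X : Subgroup G) : R 0 X = X := rfl

theorem R_succ (i : ℕ) (X : Subgroup G) : R (i + 1) X = rsd (R i X) := rfl

theorem rsd_le (X : Subgroup G) : rsd X ≤ X := iInf_le (fun k => X.lowerCentralSeries k) 0

theorem R_le (i : ℕ) (X : Subgroup G) : R i X ≤ X := by
  induction i with
  | zero => exact le_rfl
  | succ i ih => exact (rsd_le _).trans ih

theorem R_antitone (X : Subgroup G) : Antitone fun i => R i X :=
  antitone_nat_of_succ_le fun _ => rsd_le _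

theorem lcs_mono {X Y : Subgroup G} (h : X ≤ Y) : ∀ k, X.lowerCentralSeries k ≤ Y.lowerCentralSeries k
  | 0 => h
  | k + 1 => by
    rw [Subgroup.lowerCentralSeries_succ, Subgroup.lowerCentralSeries_succ]
    exact Subgroup.commutator_mono (lcs_mono h k) h

theorem rsd_mono {X Y : Subgroup G} (h : X ≤ Y) : rsd X ≤ rsd Y :=
  iInf_mono fun k => lcs_mono h k

theorem R_mono {X Y : Subgroup G} (h : X ≤ Y) : ∀ i, R i X ≤ R i Y
  | 0 => h
  | i + 1 => rsd_mono (R_mono h i)

instance rsd_normal (X : Subgroup G) [X.Normal] : (rsd X).Normal := by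
  haveI : ∀ k, (X.lowerCentralSeries k).Normal := by
    intro k
    induction k with
    | zero => rw [Subgroup.lowerCentralSeries_zero]; infer_instance
    | succ k ih => rw [Subgroup.lowerCentralSeries_succ]; infer_instance
  exact Subgroup.normal_iInf_normal fun k => this k

instance R_normal (X : Subgroup G) [X.Normal] : ∀ i, (R i X).Normal
  | 0 => ‹X.Normal›
  | i + 1 => by
    haveI := R_normal X i
    exact rsd_normal _

/-- Any element normalising a subgroup normalises its residuals. -/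
theorem map_R {H : Type v} [Group H] (f : G →* H) (hf : Function.Injective f) (X : Subgroup G) :
    ∀ i, (R i X).map f = R i (X.map f)
  | 0 => rfl
  | i + 1 => by
    rw [R_succ, R_succ, rsd, rsd, ← map_R f hf X i, Subgroup.map_iInf _ hf]
    exact iInf_congr fun k => Subgroup.map_lowerCentralSeries _ f k

/-- A series with nilpotent factors. -/
def Chain (G : Type u) [Group G] (n : ℕ) : Prop :=
  ∃ F : Fin (n + 1) → Subgroup G, F 0 = ⊥ ∧ F (Fin.last n) = ⊤ ∧ Monotone F ∧ (∀ i, (F i).Normal) ∧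
    ∀ i : Fin n, ∃ k : ℕ, (F i.succ).lowerCentralSeries k ≤ F i.castSucc

theorem R_eq_bot_of_chain {n : ℕ} (h : Chain G n) : R n (⊤ : Subgroup G) = ⊥ := by
  obtain ⟨F, h0, hl, -, -, hq⟩ := h
  have key : ∀ j : ℕ, ∀ hj : j ≤ n, R j (⊤ : Subgroup G) ≤ F ⟨n - j, by omega⟩ := by
    intro j
    induction j with
    | zero => intro _; rw [show (⟨n - 0, by omega⟩ : Fin (n + 1)) = Fin.last n from Fin.ext (by simp), hl]; exact le_top
    | succ j ih =>
      intro hj
      obtain ⟨k, hk⟩ := hq ⟨n - (j + 1), by omega⟩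
      refine ((rsd_mono (ih (by omega))).trans (iInf_le _ k)).trans ?_
      rw [show (⟨n - j, by omega⟩ : Fin (n + 1)) = Fin.succ (⟨n - (j + 1), by omega⟩ : Fin n) from
        Fin.ext (by simp; omega)]
      exact hk
  have := key n le_rfl
  rw [show (⟨n - n, by omega⟩ : Fin (n + 1)) = 0 from Fin.ext (by simp), h0, le_bot_iff] at this
  exact this

theorem exists_lcs_eq_rsd [Finite G] (X : Subgroup G) : ∃ k, X.lowerCentralSeries k = rsd X := by
  obtain ⟨⟨_, k, rfl⟩, hk⟩ := Finite.exists_min fun C : Set.range (fun k => X.lowerCentralSeries k) =>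
    Nat.card (C : Subgroup G)
  refine ⟨k, le_antisymm (le_iInf fun i => ?_) (iInf_le _ k)⟩
  rcases le_total i k with h | h
  · exact Subgroup.lowerCentralSeries_antitone _ h
  · exact (Subgroup.eq_of_le_of_card_ge (Subgroup.lowerCentralSeries_antitone _ h)
      (hk ⟨_, i, rfl⟩)).ge

theorem chain_of_R_eq_bot [Finite G] {n : ℕ} (h : R n (⊤ : Subgroup G) = ⊥) : Chain G n := by
  refine ⟨fun i => R (n - i) ⊤, by simpa using h, by simp [R_zero], fun i j hij => R_antitone _ (by
    have := Fin.le_iff_val_le_val.1 hij; omega), fun i => inferInstance, fun i => ?_⟩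
  obtain ⟨k, hk⟩ := exists_lcs_eq_rsd (R (n - (i + 1 : ℕ)) (⊤ : Subgroup G))
  refine ⟨k, ?_⟩
  simp only [Fin.val_succ, Fin.val_castSucc]
  rw [hk, ← R_succ, show n - (i + 1 : ℕ) + 1 = n - i by omega]

/-- Elements of prime power order for different primes. -/
def CopPow (a b : G) : Prop :=
  ∃ p q i j : ℕ, p.Prime ∧ q.Prime ∧ p ≠ q ∧ a ^ p ^ i = 1 ∧ b ^ q ^ j = 1

theorem commute_of_nilpotent [Finite G] [Group.IsNilpotent G] {a b : G} (h : CopPow a b) : Commute a b := by
  obtain ⟨p, q, i, j, hp, hq, hne, ha, hb⟩ := h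
  haveI := Fact.mk hp
  haveI := Fact.mk hq
  have hp' : IsPGroup p (Subgroup.zpowers a) := fun x => ⟨i, Subtype.ext (by
    obtain ⟨m, hm⟩ := Subgroup.mem_zpowers_iff.1 x.2
    rw [Subgroup.coe_pow, ← hm, ← zpow_natCast, ← zpow_mul, mul_comm, zpow_mul, zpow_natCast, ha, one_zpow]
    rfl)⟩
  have hq' : IsPGroup q (Subgroup.zpowers b) := fun x => ⟨j, Subtype.ext (by
    obtain ⟨m, hm⟩ := Subgroup.mem_zpowers_iff.1 x.2
    rw [Subgroup.coe_pow, ← hm, ← zpow_natCast, ← zpow_mul, mul_comm, zpow_mul, zpow_natCast, hb, one_zpow]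
    rfl)⟩
  obtain ⟨P, hP⟩ := hp'.exists_le_sylow
  obtain ⟨Q, hQ⟩ := hq'.exists_le_sylow
  have hnP : (P : Subgroup G).Normal := Sylow.normal_of_normalizerCondition Group.normalizerCondition_of_isNilpotent P
  have hnQ : (Q : Subgroup G).Normal := Sylow.normal_of_normalizerCondition Group.normalizerCondition_of_isNilpotent Q
  exact Subgroup.commute_of_normal_of_disjoint _ _ hnP hnQ (IsPGroup.disjoint_of_ne p q hne _ _ P.2 Q.2)
    a b (hP (Subgroup.mem_zpowers a)) (hQ (Subgroup.mem_zpowers b))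

/-- Commutators of coprime elements fall into the next residual. -/
theorem commutator_mem_R_succ [Finite G] {X : Subgroup G} {i : ℕ} {a b : G} (ha : a ∈ R i X)
    (hb : b ∈ R i X) (h : CopPow a b) : ⁅a, b⁆ ∈ R (i + 1) X := by
  set Y := R i X
  obtain ⟨k, hk⟩ := exists_lcs_eq_rsd Y
  let N : Subgroup Y := (⊤ : Subgroup Y).lowerCentralSeries k
  haveI : Group.IsNilpotent (Y ⧸ N) := by
    haveI : Group.IsNilpotent (⊤ : Subgroup (Y ⧸ N)) :=
      (Subgroup.isNilpotent_iff_lowerCentralSeries _).2 ⟨k, by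
        rw [← Subgroup.map_top_of_surjective _ (QuotientGroup.mk'_surjective N), ← Subgroup.map_lowerCentralSeries,
          QuotientGroup.map_mk'_self]⟩
    exact Group.nilpotent_of_mulEquiv (Subgroup.topEquiv (G := Y ⧸ N))
  obtain ⟨p, q, i', j', hp, hq, hne, hap, hbq⟩ := h
  have hc : Commute (QuotientGroup.mk' N ⟨a, ha⟩) (QuotientGroup.mk' N ⟨b, hb⟩) :=
    commute_of_nilpotent ⟨p, q, i', j', hp, hq, hne,
      by rw [← map_pow, show (⟨a, ha⟩ : Y) ^ p ^ i' = 1 from Subtype.ext hap, map_one],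
      by rw [← map_pow, show (⟨b, hb⟩ : Y) ^ q ^ j' = 1 from Subtype.ext hbq, map_one]⟩
  have hmem : ⁅(⟨a, ha⟩ : Y), ⟨b, hb⟩⁆ ∈ N := by
    rw [← QuotientGroup.ker_mk' N, MonoidHom.mem_ker, map_commutatorElement, commutatorElement_eq_one_iff_commute]
    exact hc
  rw [R_succ, ← hk, ← Subgroup.top_subtype_lowerCentralSeries]
  exact ⟨_, hmem, rfl⟩

/-- A finite group is nilpotent when elements of coprime prime power orders commute. -/
theorem isNilpotent_of_commute [Finite G] (h : ∀ a b : G, CopPow a b → Commute a b) : Group.IsNilpotent G := by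
  refine ((Group.isNilpotent_of_finite_tfae (G := G)).out 0 3).2 fun p hp P => ?_
  haveI := hp
  rw [← Subgroup.normalizer_eq_top_iff]
  refine Subgroup.eq_top_of_card_eq _ (Nat.dvd_antisymm (Subgroup.card_subgroup_dvd_card _) ?_)
  refine (Nat.dvd_iff_prime_pow_dvd_dvd _ _).2 fun s k hs hk => ?_
  haveI := Fact.mk hs
  obtain ⟨S⟩ : Nonempty (Sylow s G) := inferInstance
  have hsub : ∃ S' : Sylow s G, (S' : Subgroup G) ≤ Subgroup.normalizer ((P : Subgroup G) : Set G) := by
    by_cases hsp : s = p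
    · subst hsp
      exact ⟨P, Subgroup.le_normalizer⟩
    · refine ⟨S, le_trans (fun x hx => ?_) (Subgroup.centralizer_le_normalizer _)⟩
      refine Subgroup.mem_centralizer_iff.2 fun y hy => ?_
      obtain ⟨i, hi⟩ := S.2 ⟨x, hx⟩
      obtain ⟨j, hj⟩ := P.2 ⟨y, hy⟩
      exact ((h y x ⟨p, s, j, i, hp.out, hs, Ne.symm hsp, congrArg Subtype.val hj, congrArg Subtype.val hi⟩).eq)
  obtain ⟨S', hS'⟩ := hsub
  exact (Sylow.pow_dvd_card_of_pow_dvd_card S' hk).trans (Subgroup.card_dvd_of_le hS')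

end Cfsg.Lib.FitHeight
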