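import Cfsg.Agent.FitHeight.Residual
import Cfsg.Agent.Coprime.Action

/-!
Centralizers of sections and elementary facts on coprime action.
-/

set_option autoImplicit false
set_option linter.unusedSectionVars false
set_option linter.style.haveILetI false
set_option linter.unusedVariables false

namespace Cfsg.Lib.FitHeight

open scoped commutatorElement

universe u

variable {Γ : Type u} [Group Γ]

/-- The elements centralizing `X` modulo `L`. -/
def cgrp (X L : Subgroup Γ) [h : L.Normal] : Subgroup Γ :=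
  (Subgroup.centralizer ((X.map (QuotientGroup.mk' L) : Subgroup (Γ ⧸ L)) : Set (Γ ⧸ L))).comap (QuotientGroup.mk' L)

theorem mem_cgrp {X L : Subgroup Γ} [L.Normal] {g : Γ} : g ∈ cgrp X L ↔ ∀ x ∈ X, ⁅g, x⁆ ∈ L := by
  constructor
  · intro h x hx
    rw [← QuotientGroup.eq_one_iff, ← QuotientGroup.mk'_apply, map_commutatorElement,
      commutatorElement_eq_one_iff_mul_comm]
    exact (Subgroup.mem_centralizer_iff.1 (Subgroup.mem_comap.1 h) _ ⟨x, hx, rfl⟩).symm
  · intro h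
    rw [cgrp, Subgroup.mem_comap, Subgroup.mem_centralizer_iff]
    rintro _ ⟨x, hx, rfl⟩
    refine (commutatorElement_eq_one_iff_mul_comm.1 ?_).symm
    rw [← map_commutatorElement, QuotientGroup.mk'_apply, QuotientGroup.eq_one_iff]
    exact h x hx

instance cgrp_normal (X L : Subgroup Γ) [L.Normal] [X.Normal] : (cgrp X L).Normal := by
  haveI : (X.map (QuotientGroup.mk' L)).Normal := Subgroup.Normal.map inferInstance _ (QuotientGroup.mk'_surjective L)
  exact Subgroup.Normal.comap inferInstance _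

theorem comm_symm_mem {L : Subgroup Γ} {a b : Γ} (h : ⁅a, b⁆ ∈ L) : ⁅b, a⁆ ∈ L := by
  rw [← commutatorElement_inv]
  exact inv_mem h

theorem conj_commutatorElement (g a b : Γ) : g * ⁅a, b⁆ * g⁻¹ = ⁅g * a * g⁻¹, g * b * g⁻¹⁆ := by
  simp only [commutatorElement_def]; group

/-- The parts of an element at a prime. -/
theorem exists_parts [Finite Γ] (g : Γ) {q : ℕ} (hq : q.Prime) :
    ∃ a b : Γ, a ∈ Subgroup.zpowers g ∧ b ∈ Subgroup.zpowers g ∧ g = a * b ∧ (∃ n, a ^ q ^ n = 1) ∧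
      (orderOf b).Coprime q := by
  set e := (orderOf g).factorization q with he
  set m := orderOf g / q ^ e with hm
  have hem : q ^ e * m = orderOf g := Nat.mul_div_cancel' (Nat.ordProj_dvd _ _)
  have hcop : Nat.Coprime m q :=
    ((Nat.coprime_ordCompl hq (orderOf_pos g).ne')).symm
  obtain ⟨u, v, huv⟩ := (Nat.isCoprime_iff_coprime.2 (hcop.pow_right e) : IsCoprime (m : ℤ) ((q ^ e : ℕ) : ℤ))
  refine ⟨g ^ (u * m), g ^ (v * (q ^ e : ℕ)), ⟨_, rfl⟩, ⟨_, rfl⟩, by rw [← zpow_add, huv, zpow_one], ⟨e, ?_⟩, ?_⟩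
  · rw [← zpow_natCast, ← zpow_mul, ← orderOf_dvd_iff_zpow_eq_one, ← hem]
    exact ⟨u, by push_cast; ring⟩
  · refine hcop.coprime_dvd_left (orderOf_dvd_of_pow_eq_one ?_)
    rw [← zpow_natCast, ← zpow_mul, ← orderOf_dvd_iff_zpow_eq_one, ← hem]
    exact ⟨v, by push_cast; ring⟩

/-- The `q`-part of an element agrees with it modulo any subgroup where it has `q`-power order. -/
theorem exists_qpart [Finite Γ] (N : Subgroup Γ) [N.Normal] (g : Γ) {q : ℕ} (hq : q.Prime)
    (hg : ∃ n, g ^ q ^ n ∈ N) :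
    ∃ a ∈ Subgroup.zpowers g, (∃ n, a ^ q ^ n = 1) ∧ g⁻¹ * a ∈ N := by
  obtain ⟨a, b, ha, hb, hgab, haq, hbq⟩ := exists_parts g hq
  refine ⟨a, ha, haq, ?_⟩
  obtain ⟨n, hn⟩ := hg
  obtain ⟨k, hk⟩ := Subgroup.mem_zpowers_iff.1 hb
  have hbN : b ^ q ^ n ∈ N := by
    rw [← hk, ← zpow_natCast, ← zpow_mul, mul_comm, zpow_mul, zpow_natCast]
    exact zpow_mem hn k
  obtain ⟨c, hc⟩ := exists_pow_eq_self_of_coprime (x := b) (n := q ^ n) ((hbq.pow_right n).symm)
  have hb' : b ∈ N := hc ▸ pow_mem hbN c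
  have hcomm : Commute a b := by
    obtain ⟨i, hi⟩ := Subgroup.mem_zpowers_iff.1 ha
    rw [← hi, ← hk]
    exact ((Commute.refl g).zpow_zpow i k)
  rw [hgab, mul_inv_rev, mul_assoc, inv_mul_cancel, mul_one]
  exact inv_mem hb'

/-- A coprime element that centralizes both factors of a `q`-section centralizes the section. -/
theorem cen_of_chain [Finite Γ] {X T K : Subgroup Γ} [K.Normal] [T.Normal] {q : ℕ} (hq : q.Prime) (hTX : T ≤ X)
    (hX : ∀ x ∈ X, ∃ n, x ^ q ^ n ∈ K) {a : Γ} (ha : (orderOf a).Coprime q)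
    (h1 : ∀ x ∈ X, ⁅a, x⁆ ∈ T) (h2 : ∀ t ∈ T, ⁅a, t⁆ ∈ K) : ∀ x ∈ X, ⁅a, x⁆ ∈ K := by
  haveI := Fact.mk hq
  intro x hx
  set π := QuotientGroup.mk' K
  have hTp : IsPGroup q (T.map π) := by
    rintro ⟨_, t, ht, rfl⟩
    obtain ⟨n, hn⟩ := hX t (hTX ht)
    exact ⟨n, Subtype.ext (by rw [Subgroup.coe_pow, ← map_pow]; exact (QuotientGroup.eq_one_iff _).2 hn)⟩
  obtain ⟨n, hn⟩ := IsPGroup.iff_card.1 hTp
  have hcop : (Nat.card (Subgroup.zpowers (π a))).Coprime (Nat.card (T.map π)) := by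
    rw [Nat.card_zpowers, hn]
    exact (ha.coprime_dvd_left (orderOf_map_dvd π a)).pow_right n
  have key := Cfsg.Lib.Coprime.centralizes_of_coprime_chain (A := Subgroup.zpowers (π a)) (D := T.map π) hcop
    (by
      rw [Subgroup.zpowers_le, Subgroup.mem_centralizer_iff]
      rintro _ ⟨t, ht, rfl⟩
      refine (commutatorElement_eq_one_iff_mul_comm.1 ?_).symm
      rw [← map_commutatorElement]
      exact (QuotientGroup.eq_one_iff _).2 (h2 t ht))
    (k := π x) (by
      rintro _ ⟨i, rfl⟩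
      have hi : ∀ y ∈ X, ⁅a ^ i, y⁆ ∈ T := fun y hy => mem_cgrp.1 (zpow_mem (mem_cgrp.2 h1) i) y hy
      refine ⟨x⁻¹ * a ^ i * x * (a ^ i)⁻¹, ?_, by simp⟩
      have : x⁻¹ * a ^ i * x * (a ^ i)⁻¹ = x⁻¹ * ⁅a ^ i, x⁆ * x⁻¹⁻¹ := by rw [commutatorElement_def]; group
      rw [SetLike.mem_coe, this]
      exact ‹T.Normal›.conj_mem _ (hi x hx) _)
  rw [← QuotientGroup.eq_one_iff, ← QuotientGroup.mk'_apply, map_commutatorElement, commutatorElement_eq_one_iff_mul_comm]
  exact Subgroup.mem_centralizer_iff.1 key _ (Subgroup.mem_zpowers _)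

/-- Repeated commutation by a coprime element does not vanish. -/
theorem comm_comm_not_mem [Finite Γ] {L : Subgroup Γ} [L.Normal] {q : ℕ} (hq : q.Prime) {x b : Γ}
    (hb : (orderOf b).Coprime q) (hx : ∃ n, ⁅x, b⁆ ^ q ^ n ∈ L) (h : ⁅x, b⁆ ∉ L) : ⁅⁅x, b⁆, b⁆ ∉ L := by
  intro h2
  obtain ⟨n, hn⟩ := hx
  set π := QuotientGroup.mk' L with hπ
  set c := π ⁅x, b⁆
  have hc : Commute c (π b) := by
    rw [← commutatorElement_eq_one_iff_commute, ← map_commutatorElement]
    exact (QuotientGroup.eq_one_iff _).2 h2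
  have hcn : c ^ orderOf b = 1 := by
    have e : c * π b = π x * π b * (π x)⁻¹ := by
      simp only [c, map_commutatorElement, commutatorElement_def]; group
    have h3 := congrArg (· ^ orderOf b) e
    simp only [hc.mul_pow, conj_pow, ← map_pow, pow_orderOf_eq_one, map_one, mul_one, mul_inv_cancel] at h3
    exact h3
  have hcq : c ^ q ^ n = 1 := by rw [← map_pow]; exact (QuotientGroup.eq_one_iff _).2 hn
  have h3 := Nat.dvd_gcd (orderOf_dvd_of_pow_eq_one hcn) (orderOf_dvd_of_pow_eq_one hcq)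
  rw [(hb.pow_right n).gcd_eq_one, Nat.dvd_one, orderOf_eq_one_iff] at h3
  exact h ((QuotientGroup.eq_one_iff _).1 h3)

theorem R_eq_commutator [Finite Γ] (X : Subgroup Γ) (j : ℕ) : R (j + 1) X = ⁅R (j + 1) X, R j X⁆ := by
  obtain ⟨k, hk⟩ := exists_lcs_eq_rsd (R j X)
  rw [R_succ]
  refine le_antisymm ?_ ?_
  · conv_rhs => rw [← hk, ← Subgroup.lowerCentralSeries_succ]
    exact iInf_le _ _
  · conv_rhs => rw [← hk]
    conv_lhs => rw [← hk, ← Subgroup.lowerCentralSeries_succ]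
    exact Subgroup.lowerCentralSeries_antitone _ (Nat.le_succ k)

/-- The residual is the least kernel of a nilpotent image. -/
theorem isNilpotent_map_of_R_le [Finite Γ] {Δ : Type*} [Group Δ] (f : Γ →* Δ) {X : Subgroup Γ} {j : ℕ}
    (h : R (j + 1) X ≤ f.ker) : Group.IsNilpotent ((R j X).map f) := by
  obtain ⟨k, hk⟩ := exists_lcs_eq_rsd (R j X)
  rw [Subgroup.isNilpotent_iff_lowerCentralSeries]
  refine ⟨k, ?_⟩
  rw [← Subgroup.map_lowerCentralSeries, hk, Subgroup.map_eq_bot_iff]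
  exact h

/-- Coprime prime-power elements of a section commute. -/
theorem commutator_mem_of_nilpotent [Finite Γ] {X : Subgroup Γ} {j : ℕ} (N : Subgroup Γ) [N.Normal]
    (hN : R (j + 1) X ≤ N) {a b : Γ} (ha : a ∈ R j X) (hb : b ∈ R j X) {p : ℕ} (hp : p.Prime)
    (hap : ∃ n, a ^ p ^ n = 1) (hbp : (orderOf b).Coprime p) : ⁅a, b⁆ ∈ N := by
  set π := QuotientGroup.mk' N
  haveI : Group.IsNilpotent ((R j X).map π) := isNilpotent_map_of_R_le π (by rwa [QuotientGroup.ker_mk'])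
  let A : (R j X).map π := ⟨π a, Subgroup.mem_map_of_mem π ha⟩
  obtain ⟨n, hn⟩ := hap
  have key : ∀ b' ∈ R j X, ∀ q e : ℕ, q.Prime → q ≠ p → b' ^ q ^ e = 1 → ⁅a, b'⁆ ∈ N := by
    intro b' hb' q e hq hqp he
    have hc : Commute A (⟨π b', Subgroup.mem_map_of_mem π hb'⟩ : (R j X).map π) :=
      commute_of_nilpotent ⟨p, q, n, e, hp, hq, hqp.symm, Subtype.ext (by simp [A, ← map_pow, hn]),
        Subtype.ext (by simp [← map_pow, he])⟩
    rw [← QuotientGroup.eq_one_iff, ← QuotientGroup.mk'_apply, map_commutatorElement,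
      commutatorElement_eq_one_iff_commute]
    exact congrArg Subtype.val hc.eq
  -- induction on the order of `b`
  induction hm : orderOf b using Nat.strong_induction_on generalizing b with
  | _ m ih =>
    by_cases hb1 : b = 1
    · subst hb1
      rw [commutatorElement_one_right]
      exact one_mem N
    obtain ⟨q, hq, hqb⟩ := Nat.exists_prime_and_dvd (mt orderOf_eq_one_iff.1 hb1)
    have hqp : q ≠ p := fun e => by
      have := Nat.dvd_gcd (e ▸ hqb : p ∣ orderOf b) dvd_rfl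
      rw [hbp.gcd_eq_one] at this
      exact hp.ne_one (Nat.dvd_one.1 this)
    obtain ⟨x, y, hx, hy, hxy, ⟨e, he⟩, hyq⟩ := exists_parts b hq
    have hxR : x ∈ R j X := Subgroup.zpowers_le.2 hb hx
    have hyR : y ∈ R j X := Subgroup.zpowers_le.2 hb hy
    have hyd : orderOf y ∣ orderOf b := by
      obtain ⟨i, hi⟩ := Subgroup.mem_zpowers_iff.1 hy
      rw [← hi]
      exact orderOf_dvd_of_pow_eq_one (by
        rw [← zpow_natCast, ← zpow_mul, mul_comm, zpow_mul, zpow_natCast, pow_orderOf_eq_one, one_zpow])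
    have hlt : orderOf y < m := hm ▸ lt_of_le_of_ne (Nat.le_of_dvd (orderOf_pos b) hyd) fun e' => by
      have := Nat.dvd_gcd (e' ▸ hqb : q ∣ orderOf y) dvd_rfl
      rw [hyq.gcd_eq_one] at this
      exact hq.ne_one (Nat.dvd_one.1 this)
    have h1 := key x hxR q e hq hqp he
    have h2 := ih _ hlt hyR (hbp.coprime_dvd_left hyd) rfl
    rw [hxy, show ⁅a, x * y⁆ = ⁅a, x⁆ * (x * ⁅a, y⁆ * x⁻¹) by simp only [commutatorElement_def]; group]
    exact mul_mem h1 (‹N.Normal›.conj_mem _ h2 x)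

end Cfsg.Lib.FitHeight
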