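import Cfsg.Agent.FitHeight.Sections
import Cfsg.Agent.FitHeight.Fix

/-!
A tower of sections realising the length of the shortest nilpotent series.
-/

set_option autoImplicit false
set_option linter.unusedSectionVars false
set_option linter.style.haveILetI false
set_option linter.unusedVariables false

namespace Cfsg.Lib.FitHeight

open scoped commutatorElement

universe u

variable {Γ : Type u} [Group Γ] [Finite Γ]

/-- A finite `q`-group that is perfect is trivial, in sectional form. -/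
theorem le_of_le_commutator_sup {X K : Subgroup Γ} [X.Normal] [K.Normal] {q : ℕ} (hq : q.Prime) (hKX : K ≤ X)
    (hp : ∀ x ∈ X, ∃ n, x ^ q ^ n ∈ K) (h : X ≤ ⁅X, X⁆ ⊔ K) : X ≤ K := by
  haveI := Fact.mk hq
  set π := QuotientGroup.mk' K
  have hXp : IsPGroup q (X.map π) := by
    rintro ⟨_, x, hx, rfl⟩
    obtain ⟨n, hn⟩ := hp x hx
    exact ⟨n, Subtype.ext (by rw [Subgroup.coe_pow, ← map_pow]; exact (QuotientGroup.eq_one_iff _).2 hn)⟩
  haveI := hXp.isNilpotent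
  have h1 : X.map π ≤ ⁅X.map π, X.map π⁆ := by
    have := Subgroup.map_mono (f := π) h
    rwa [Subgroup.map_sup, Subgroup.map_commutator,
      show K.map π = ⊥ from QuotientGroup.map_mk'_self K, sup_bot_eq] at this
  have h2 : ∀ k, X.map π ≤ (X.map π).lowerCentralSeries k := by
    intro k
    induction k with
    | zero => exact le_rfl
    | succ k ih => exact h1.trans (Subgroup.commutator_mono ih le_rfl)
  obtain ⟨k, hk⟩ := (Subgroup.isNilpotent_iff_lowerCentralSeries (X.map π)).1 inferInstance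
  have h3 : X.map π = ⊥ := le_bot_iff.1 (hk ▸ h2 k)
  rwa [Subgroup.map_eq_bot_iff, QuotientGroup.ker_mk'] at h3

/-- If every element of an abelian `q`-section is a `q`-th power the section is trivial. -/
theorem mem_of_qdivisible {X N : Subgroup Γ} [N.Normal] (hNX : N ≤ X) (hab : ∀ x ∈ X, ∀ y ∈ X, ⁅x, y⁆ ∈ N) {q : ℕ}
    (hdiv : ∀ x ∈ X, ∃ y ∈ X, (y ^ q)⁻¹ * x ∈ N) {x : Γ} (hx : x ∈ X) (n : ℕ) :
    ∃ y ∈ X, (y ^ q ^ n)⁻¹ * x ∈ N := by
  induction n with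
  | zero => exact ⟨x, hx, by simp⟩
  | succ n ih =>
    obtain ⟨y, hy, hyx⟩ := ih
    obtain ⟨z, hz, hzy⟩ := hdiv y hy
    refine ⟨z, hz, ?_⟩
    have h1 : (QuotientGroup.mk (z ^ q) : Γ ⧸ N) = QuotientGroup.mk y := QuotientGroup.eq.2 hzy
    have h2 : (QuotientGroup.mk (y ^ q ^ n) : Γ ⧸ N) = QuotientGroup.mk x := QuotientGroup.eq.2 hyx
    refine QuotientGroup.eq.1 ?_
    rw [pow_succ', pow_mul, QuotientGroup.mk_pow, h1, ← QuotientGroup.mk_pow, h2]

/-- The `q`-th powers modulo `N`. -/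
def powSub (X N : Subgroup Γ) [N.Normal] (hab : ∀ x ∈ X, ∀ y ∈ X, ⁅x, y⁆ ∈ N) (q : ℕ) : Subgroup Γ where
  carrier := {x | ∃ y ∈ X, (QuotientGroup.mk x : Γ ⧸ N) = QuotientGroup.mk (y ^ q)}
  one_mem' := ⟨1, one_mem X, by simp⟩
  mul_mem' := fun {a b} ⟨y, hy, hya⟩ ⟨z, hz, hzb⟩ => ⟨y * z, mul_mem hy hz, by
    have hc : Commute (QuotientGroup.mk y : Γ ⧸ N) (QuotientGroup.mk z) := by
      rw [← commutatorElement_eq_one_iff_commute]
      exact (QuotientGroup.eq_one_iff _).2 (hab y hy z hz)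
    rw [QuotientGroup.mk_mul, hya, hzb, QuotientGroup.mk_pow, QuotientGroup.mk_pow, QuotientGroup.mk_pow,
      QuotientGroup.mk_mul, hc.mul_pow]⟩
  inv_mem' := fun {a} ⟨y, hy, hya⟩ => ⟨y⁻¹, inv_mem hy, by rw [QuotientGroup.mk_inv, hya, inv_pow, QuotientGroup.mk_inv]⟩

theorem powSub_normal {X N : Subgroup Γ} [X.Normal] [N.Normal] (hab : ∀ x ∈ X, ∀ y ∈ X, ⁅x, y⁆ ∈ N) (q : ℕ) :
    (powSub X N hab q).Normal := ⟨fun a ⟨y, hy, hya⟩ g => ⟨g * y * g⁻¹, ‹X.Normal›.conj_mem y hy g, by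
      rw [conj_pow, QuotientGroup.mk_mul, QuotientGroup.mk_mul, hya, ← QuotientGroup.mk_mul, ← QuotientGroup.mk_mul]⟩⟩

theorem powSub_le {X N : Subgroup Γ} [N.Normal] (hNX : N ≤ X) (hab : ∀ x ∈ X, ∀ y ∈ X, ⁅x, y⁆ ∈ N) (q : ℕ) :
    powSub X N hab q ≤ X := fun a ⟨y, hy, hya⟩ => by
  have h := hNX (QuotientGroup.eq.1 hya.symm)
  have := mul_mem (pow_mem hy q) h
  rwa [mul_inv_cancel_left] at this

/-- The `q`-elements of a residual generate a `q`-section. -/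
theorem exists_qsection (G : Subgroup Γ) [G.Normal] (i : ℕ) (D : Subgroup Γ) [D.Normal]
    (hD : R (i + 1) G ≤ D) {q : ℕ} (hq : q.Prime) :
    ∃ X : Subgroup Γ, X.Normal ∧ X ≤ R i G ∧ D ⊓ R i G ≤ X ∧ (∀ x ∈ X, ∃ n, x ^ q ^ n ∈ D) ∧
      ∀ x ∈ R i G, (∃ n, x ^ q ^ n = 1) → x ∈ X := by
  haveI := Fact.mk hq
  set π := QuotientGroup.mk' D
  haveI hnil : Group.IsNilpotent ((R i G).map π) := isNilpotent_map_of_R_le π (by rwa [QuotientGroup.ker_mk'])
  obtain ⟨P⟩ : Nonempty (Sylow q ((R i G).map π)) := inferInstance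
  have hPn : (P : Subgroup ((R i G).map π)).Normal :=
    Sylow.normal_of_normalizerCondition Group.normalizerCondition_of_isNilpotent P
  have hall : ∀ y : (R i G).map π, (∃ n, y ^ q ^ n = 1) → y ∈ (P : Subgroup ((R i G).map π)) := by
    rintro y ⟨n, hn⟩
    have hp := isPGroup_zpowers hn
    have h1 : IsPGroup q ((P : Subgroup ((R i G).map π)) ⊔ Subgroup.zpowers y : Subgroup _) :=
      IsPGroup.to_sup_of_normal_left P.2 hp
    exact (P.3 h1 le_sup_left).le (Subgroup.mem_sup_right (Subgroup.mem_zpowers y))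
  set X : Subgroup Γ := Subgroup.closure {x | x ∈ R i G ∧ ∃ n, x ^ q ^ n = 1} ⊔ (D ⊓ R i G) with hX
  have hcl : Subgroup.closure {x | x ∈ R i G ∧ ∃ n, x ^ q ^ n = 1} ≤ R i G :=
    (Subgroup.closure_le _).2 fun x hx => hx.1
  haveI : (Subgroup.closure {x | x ∈ R i G ∧ ∃ n, x ^ q ^ n = 1}).Normal := by
    refine ⟨fun a ha g => ?_⟩
    induction ha using Subgroup.closure_induction with
    | mem x hx =>
      obtain ⟨hxR, n, hn⟩ := hx
      exact Subgroup.subset_closure ⟨(R_normal G i).conj_mem x hxR g, n, by rw [conj_pow, hn]; simp⟩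
    | one => simp
    | mul x y _ _ h1 h2 => rw [conj_mul.symm]; exact mul_mem h1 h2
    | inv x _ h => rw [conj_inv.symm]; exact inv_mem h
  refine ⟨X, inferInstance, sup_le hcl inf_le_right, le_sup_right, fun x hx => ?_,
    fun x hx hxq => Subgroup.mem_sup_left (Subgroup.subset_closure ⟨hx, hxq⟩)⟩
  have hxR : x ∈ R i G := sup_le hcl inf_le_right hx
  have hPmem : (⟨π x, Subgroup.mem_map_of_mem π hxR⟩ : (R i G).map π) ∈ (P : Subgroup ((R i G).map π)) := by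
    have h2 : X.map π ≤ (P : Subgroup ((R i G).map π)).map ((R i G).map π).subtype := by
      rw [Subgroup.map_sup]
      refine sup_le (Subgroup.map_le_iff_le_comap.2 ((Subgroup.closure_le _).2 fun y hy => ?_)) ?_
      · obtain ⟨hyR, n, hn⟩ := hy
        exact ⟨⟨π y, Subgroup.mem_map_of_mem π hyR⟩, hall _ ⟨n, Subtype.ext (by simp [← map_pow, hn])⟩, rfl⟩
      · rintro _ ⟨y, hy, rfl⟩
        rw [show π y = 1 from (QuotientGroup.eq_one_iff _).2 hy.1]
        exact one_mem _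
    obtain ⟨y, hy, hyx⟩ := h2 (Subgroup.mem_map_of_mem π hx)
    rwa [show (⟨π x, Subgroup.mem_map_of_mem π hxR⟩ : (R i G).map π) = y from Subtype.ext hyx.symm]
  obtain ⟨n, hn⟩ := P.2 ⟨_, hPmem⟩
  refine ⟨n, (QuotientGroup.eq_one_iff _).1 ?_⟩
  have h3 := congrArg (fun z : (P : Subgroup ((R i G).map π)) => ((z : (R i G).map π) : Γ ⧸ D)) hn
  simpa [π] using h3

/-- `q`-elements of a residual centralize an irreducible `q`-section. -/
theorem qelem_cen (G : Subgroup Γ) [G.Normal] (j : ℕ) {X L : Subgroup Γ} [X.Normal] [L.Normal] {q : ℕ} (hq : q.Prime)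
    (hne : ¬ X ≤ L) (hXL : L ≤ X) (hp : ∀ x ∈ X, ∃ n, x ^ q ^ n ∈ L)
    (hirr : ∀ Y : Subgroup Γ, Y.Normal → L ≤ Y → Y ≤ X → Y = L ∨ Y = X)
    (hR : R (j + 1) G ≤ cgrp X L) : ∀ a ∈ R j G, (∃ n, a ^ q ^ n = 1) → a ∈ cgrp X L := by
  haveI := Fact.mk hq
  obtain ⟨J, hJn, hJR, -, hJp, hJq⟩ := exists_qsection G j (cgrp X L) hR hq
  set π := QuotientGroup.mk' L
  haveI : (X.map π).Normal := Subgroup.Normal.map inferInstance _ (QuotientGroup.mk'_surjective L)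
  let c : J →* MulAut (X.map π) := (MulAut.conjNormal (H := X.map π)).comp (π.comp J.subtype)
  have hc : ∀ (g : J) (x : X.map π), ((c g x : X.map π) : Γ ⧸ L) = π g * x * (π g)⁻¹ := fun g x =>
    MulAut.conjNormal_apply _ _
  have hk : ∀ g : J, (g : Γ) ∈ cgrp X L → c g = 1 := by
    intro g hg
    refine MulEquiv.ext fun y => Subtype.ext ?_
    obtain ⟨x, hx, hxy⟩ := y.2
    rw [hc, MulAut.one_apply, ← hxy]
    have h1 : ⁅π g, π x⁆ = 1 := by
      rw [← map_commutatorElement]; exact (QuotientGroup.eq_one_iff _).2 (mem_cgrp.1 hg x hx)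
    rw [commutatorElement_eq_one_iff_mul_comm] at h1
    rw [h1, mul_inv_cancel_right]
  have hcp : IsPGroup q c.range := by
    rintro ⟨_, g, rfl⟩
    obtain ⟨n, hn⟩ := hJp g g.2
    exact ⟨n, Subtype.ext (by rw [Subgroup.coe_pow, ← map_pow]; exact hk _ hn)⟩
  have hXp : IsPGroup q (X.map π) := by
    rintro ⟨_, x, hx, rfl⟩
    obtain ⟨n, hn⟩ := hp x hx
    exact ⟨n, Subtype.ext (by rw [Subgroup.coe_pow, ← map_pow]; exact (QuotientGroup.eq_one_iff _).2 hn)⟩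
  have hnt : Nontrivial (X.map π) := by
    rw [Subgroup.nontrivial_iff_ne_bot, ne_eq, Subgroup.map_eq_bot_iff, QuotientGroup.ker_mk']
    exact hne
  obtain ⟨m, hm0, hm⟩ := hXp.nontrivial_iff_card.1 hnt
  obtain ⟨y, hy, hy1⟩ := hcp.exists_fixed_point_of_prime_dvd_card_of_fixed_point (X.map π)
    (hm ▸ dvd_pow_self q hm0.ne') (a := 1) (fun g => map_one (g : MulAut (X.map π)))
  -- the fixed points form a normal section
  let Y : Subgroup Γ :=
    { carrier := {x | x ∈ X ∧ ∀ g ∈ J, ⁅g, x⁆ ∈ L}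
      one_mem' := ⟨one_mem X, fun g _ => by rw [commutatorElement_one_right]; exact one_mem L⟩
      mul_mem' := fun {a b} ha hb => ⟨mul_mem ha.1 hb.1, fun g hg => by
        rw [show ⁅g, a * b⁆ = ⁅g, a⁆ * (a * ⁅g, b⁆ * a⁻¹) by simp only [commutatorElement_def]; group]
        exact mul_mem (ha.2 g hg) (‹L.Normal›.conj_mem _ (hb.2 g hg) a)⟩
      inv_mem' := fun {a} ha => ⟨inv_mem ha.1, fun g hg => by
        rw [show ⁅g, a⁻¹⁆ = a⁻¹ * ⁅a, g⁆ * a⁻¹⁻¹ by simp only [commutatorElement_def]; group]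
        exact ‹L.Normal›.conj_mem _ (comm_symm_mem (ha.2 g hg)) _⟩ }
  have hYn : Y.Normal := ⟨fun x hx h => ⟨‹X.Normal›.conj_mem x hx.1 h, fun g hg => by
    have h1 := ‹L.Normal›.conj_mem _ (hx.2 _ (by simpa using hJn.conj_mem g hg h⁻¹)) h
    convert h1 using 1
    simp only [commutatorElement_def]; group⟩⟩
  obtain ⟨x, hx, hxy⟩ := y.2
  have hxY : x ∈ Y := ⟨hx, fun g hg => by
    have h1 := congrArg Subtype.val (hy ⟨_, ⟨g, hg⟩, rfl⟩ : (c ⟨g, hg⟩ : MulAut (X.map π)) y = y)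
    change ((c ⟨g, hg⟩ y : X.map π) : Γ ⧸ L) = _ at h1
    rw [hc, ← hxy] at h1
    refine (QuotientGroup.eq_one_iff _).1 ?_
    rw [← QuotientGroup.mk'_apply, map_commutatorElement, commutatorElement_eq_one_iff_mul_comm]
    exact mul_inv_eq_iff_eq_mul.1 h1⟩
  rcases hirr Y hYn (fun l hl => ⟨hXL hl, fun g _ => by
      rw [show ⁅g, l⁆ = (g * l * g⁻¹) * l⁻¹ from rfl]
      exact mul_mem (‹L.Normal›.conj_mem l hl g) (inv_mem hl)⟩) (fun z hz => hz.1) with h | h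
  · exact absurd (Subtype.ext (hxy.symm.trans ((QuotientGroup.eq_one_iff x).2 (h ▸ hxY : x ∈ L))) : y = 1) (Ne.symm hy1)
  · intro a ha hq'
    rw [mem_cgrp]
    intro z hz
    exact (h.symm ▸ hz : z ∈ Y).2 a (hJq a ha hq')

/-- The data of one level. -/
structure Level (G : Subgroup Γ) (i : ℕ) (D X L : Subgroup Γ) [L.Normal] (q : ℕ) : Prop where
  prime : q.Prime
  nX : X.Normal
  hDL : X ⊓ D ≤ L
  hLX : L ≤ X
  hne : ¬ X ≤ L
  hXR : X ≤ R i G
  irr : ∀ Y : Subgroup Γ, Y.Normal → L ≤ Y → Y ≤ X → Y = L ∨ Y = X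
  com : ⁅X, X⁆ ≤ L
  pow : ∀ x ∈ X, x ^ q ∈ L
  cen : ⁅L, X⁆ ≤ X ⊓ D
  pgrp : ∀ x ∈ X, ∃ n, x ^ q ^ n ∈ X ⊓ D
  Rcen : R i G ≤ cgrp X L
  Acen : ∀ j, i = j + 1 → ∀ a ∈ R j G, (orderOf a).Coprime q → ∀ l ∈ L, ⁅a, l⁆ ∈ X ⊓ D
  act : ∀ j, i = j + 1 → ∃ a ∈ R j G, (orderOf a).Coprime q ∧ a ∉ cgrp X L
  qcen : ∀ j, i = j + 1 → ∀ a ∈ R j G, (∃ n, a ^ q ^ n = 1) → a ∈ cgrp X L
  bottom : i = 0 → L ≤ X ⊓ D
  maxp : ∀ Y : Subgroup Γ, Y.Normal → Y ≤ X → Y ≠ X → Y ≤ L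

theorem exists_qelem_not_mem {R' D : Subgroup Γ} (h : ¬ R' ≤ D) :
    ∃ q, q.Prime ∧ ∃ x ∈ R', (∃ n, x ^ q ^ n = 1) ∧ x ∉ D := by
  classical
  obtain ⟨x₀, hx₀, hx₀D⟩ := SetLike.not_le_iff_exists.1 h
  induction hm : orderOf x₀ using Nat.strong_induction_on generalizing x₀ with
  | _ m ih =>
    have hne : x₀ ≠ 1 := fun h1 => hx₀D (h1 ▸ one_mem D)
    obtain ⟨q, hq, hqd⟩ := Nat.exists_prime_and_dvd (mt orderOf_eq_one_iff.1 hne)
    obtain ⟨a, b, ha, hb, hab, han, hbq⟩ := exists_parts x₀ hq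
    by_cases haD : a ∈ D
    · refine ih (orderOf b) ?_ b (Subgroup.zpowers_le.2 hx₀ hb) (fun hbD => hx₀D (hab ▸ mul_mem haD hbD)) rfl
      obtain ⟨i, hi⟩ := Subgroup.mem_zpowers_iff.1 hb
      have hd : orderOf b ∣ orderOf x₀ := by
        rw [← hi]
        exact orderOf_dvd_of_pow_eq_one (by
          rw [← zpow_natCast, ← zpow_mul, mul_comm, zpow_mul, zpow_natCast, pow_orderOf_eq_one, one_zpow])
      refine hm ▸ lt_of_le_of_ne (Nat.le_of_dvd (orderOf_pos _) hd) fun e => ?_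
      have := Nat.dvd_gcd (e ▸ hqd : q ∣ orderOf b) dvd_rfl
      rw [hbq.gcd_eq_one] at this
      exact hq.ne_one (Nat.dvd_one.1 this)
    · exact ⟨q, hq, a, Subgroup.zpowers_le.2 hx₀ ha, han, haD⟩

/-- A level below a given kernel. -/
theorem exists_level (G : Subgroup Γ) [G.Normal] (i : ℕ) (D : Subgroup Γ) [D.Normal] (hD : R (i + 1) G ≤ D)
    (hD' : ¬ R i G ≤ D) :
    ∃ (q : ℕ) (X L : Subgroup Γ) (hL : L.Normal), Level G i D X L q ∧
      ∃ x ∈ R i G, (∃ n, x ^ q ^ n = 1) ∧ x ∉ D := by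
  classical
  rcases i with _ | j
  · -- the bottom level
    obtain ⟨q, hq, x, hx, hxq, hxD⟩ := exists_qelem_not_mem hD'
    obtain ⟨X₀, hX₀n, hX₀R, -, hX₀p, hX₀q⟩ := exists_qsection G 0 D hD hq
    obtain ⟨X, ⟨hXn, hXR, hXD, hXp⟩, hmin⟩ := WellFounded.has_min (wellFounded_lt (α := Subgroup Γ))
      {X | X.Normal ∧ X ≤ R 0 G ∧ ¬ X ≤ D ∧ ∀ x ∈ X, ∃ n, x ^ q ^ n ∈ D}
      ⟨X₀, hX₀n, hX₀R, fun h => hxD (h (hX₀q x hx hxq)), hX₀p⟩
    haveI := hXn
    have hprop : ∀ Y : Subgroup Γ, Y.Normal → Y ≤ X → Y ≠ X → Y ≤ D := fun Y hY hle hne => by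
      by_contra hYD
      exact hmin Y ⟨hY, hle.trans hXR, hYD, fun y hy => hXp y (hle hy)⟩ (lt_of_le_of_ne hle hne)
    set K := X ⊓ D with hKdef
    have hKX : K ≤ X := inf_le_left
    have hXne : ¬ X ≤ K := fun h => hXD (h.trans inf_le_right)
    have hp : ∀ y ∈ X, ∃ n, y ^ q ^ n ∈ K := fun y hy => by
      obtain ⟨n, hn⟩ := hXp y hy
      exact ⟨n, pow_mem hy _, hn⟩
    have hcomle : ⁅X, X⁆ ≤ K := by
      refine le_inf (Subgroup.commutator_le_self X) ((le_sup_left (b := K)).trans (hprop _ inferInstance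
        (sup_le (Subgroup.commutator_le_self X) hKX) fun h => ?_))
      exact hXne (le_of_le_commutator_sup hq hKX hp h.ge)
    have hab : ∀ a ∈ X, ∀ b ∈ X, ⁅a, b⁆ ∈ K := fun a ha b hb => hcomle (Subgroup.commutator_mem_commutator ha hb)
    have hpow : ∀ y ∈ X, y ^ q ∈ K := by
      intro y hy
      haveI := powSub_normal hab q
      have hne : powSub X K hab q ≠ X := fun h => hXne fun z hz => by
        obtain ⟨n, hn⟩ : ∃ n, ∀ w ∈ X, w ^ q ^ n ∈ K := by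
          haveI : Fintype Γ := Fintype.ofFinite _
          refine ⟨∑ w : Γ, if hw : w ∈ X then (hp w hw).choose else 0, fun w hw => ?_⟩
          have hle := Finset.single_le_sum (f := fun w : Γ => if hw : w ∈ X then (hp w hw).choose else 0)
            (fun _ _ => Nat.zero_le _) (Finset.mem_univ w)
          simp only [dif_pos hw] at hle
          obtain ⟨c, hc⟩ := Nat.exists_eq_add_of_le hle
          rw [hc, pow_add, pow_mul]
          exact pow_mem (hp w hw).choose_spec _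
        obtain ⟨w, hw, hwz⟩ := mem_of_qdivisible hKX hab (fun v hv => by
          obtain ⟨u, hu, huv⟩ := (h.ge hv : v ∈ powSub X K hab q)
          exact ⟨u, hu, QuotientGroup.eq.1 huv.symm⟩) hz n
        have := mul_mem (hn w hw) hwz
        rwa [mul_inv_cancel_left] at this
      exact ⟨pow_mem hy q, hprop _ inferInstance (powSub_le hKX hab q) hne ⟨y, hy, rfl⟩⟩
    have hRc : R 1 G ≤ cgrp X K := fun g hg => mem_cgrp.2 fun y hy => ⟨by
      rw [show ⁅g, y⁆ = (g * y * g⁻¹) * y⁻¹ from rfl]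
      exact X.mul_mem (hXn.conj_mem y hy g) (X.inv_mem hy), by
      rw [show ⁅g, y⁆ = g * (y * g⁻¹ * y⁻¹) by simp only [commutatorElement_def]; group]
      exact mul_mem (hD hg) (‹D.Normal›.conj_mem _ (inv_mem (hD hg)) y)⟩
    have hirr : ∀ Y : Subgroup Γ, Y.Normal → K ≤ Y → Y ≤ X → Y = K ∨ Y = X := fun Y hY h1 h2 => by
      by_cases h : Y = X
      · exact Or.inr h
      · exact Or.inl (le_antisymm (le_inf h2 (hprop Y hY h2 h)) h1)
    have hRcen : R 0 G ≤ cgrp X K := by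
      intro g hg
      obtain ⟨a, b, ha, hb, hab', han, hbq⟩ := exists_parts g hq
      rw [hab']
      refine mul_mem (qelem_cen G 0 hq hXne hKX hp hirr hRc a (Subgroup.zpowers_le.2 hg ha) han) ?_
      rw [mem_cgrp]
      intro y hy
      obtain ⟨y', hy', hy'n, hy'c⟩ := exists_qpart K y hq (hp y hy)
      have hy'X : y' ∈ X := Subgroup.zpowers_le.2 hy hy'
      have h1 : ⁅b, y'⁆ ∈ K := ⟨by
          rw [show ⁅b, y'⁆ = (b * y' * b⁻¹) * y'⁻¹ from rfl]
          exact X.mul_mem (hXn.conj_mem y' hy'X b) (X.inv_mem hy'X),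
        comm_symm_mem (commutator_mem_of_nilpotent D hD (hXR hy'X) (Subgroup.zpowers_le.2 hg hb) hq hy'n hbq)⟩
      have e1 : (QuotientGroup.mk y : Γ ⧸ K) = QuotientGroup.mk y' := QuotientGroup.eq.2 hy'c
      rw [← QuotientGroup.eq_one_iff, ← QuotientGroup.mk'_apply, map_commutatorElement, QuotientGroup.mk'_apply,
        QuotientGroup.mk'_apply, e1, ← QuotientGroup.mk'_apply, ← QuotientGroup.mk'_apply, ← map_commutatorElement]
      exact (QuotientGroup.eq_one_iff _).2 h1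
    refine ⟨q, X, K, inferInstance,
      ⟨hq, hXn, le_rfl, hKX, hXne, hXR, hirr, hcomle, hpow, ?_, hp, hRcen, fun j hj => absurd hj (by omega),
        fun j hj => absurd hj (by omega), fun j hj => absurd hj (by omega), fun _ => le_rfl,
        fun Y hY hle hne => le_inf hle (hprop Y hY hle hne)⟩, x, hx, hxq, hxD⟩
    exact (Subgroup.commutator_mono hKX le_rfl).trans hcomle
  · set Rr := R (j + 1) G with hRr
    set P := R j G with hP
    have hRP : Rr ≤ P := R_antitone G (Nat.le_succ j)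
    -- a chief factor of the residual
    have hRD : ¬ Rr ≤ D ⊓ Rr := fun h => hD' (h.trans inf_le_left)
    set S := ⁅Rr, Rr⁆ ⊔ (D ⊓ Rr) with hS
    have hSne : ¬ Rr ≤ S := by
      intro h
      apply hRD
      set π := QuotientGroup.mk' (D ⊓ Rr)
      haveI : Group.IsNilpotent (Rr.map π) := isNilpotent_map_of_R_le π (by
        rw [QuotientGroup.ker_mk']
        exact le_inf hD (R_antitone G (Nat.le_succ (j + 1))))
      have h1 : Rr.map π ≤ ⁅Rr.map π, Rr.map π⁆ := by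
        have := Subgroup.map_mono (f := π) h
        rwa [hS, Subgroup.map_sup, Subgroup.map_commutator,
          show (D ⊓ Rr).map π = ⊥ from QuotientGroup.map_mk'_self _, sup_bot_eq] at this
      have h2 : ∀ k, Rr.map π ≤ (Rr.map π).lowerCentralSeries k := by
        intro k
        induction k with
        | zero => exact le_rfl
        | succ k ih => exact h1.trans (Subgroup.commutator_mono ih le_rfl)
      obtain ⟨k, hk⟩ := (Subgroup.isNilpotent_iff_lowerCentralSeries (Rr.map π)).1 inferInstance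
      have h3 : Rr.map π = ⊥ := le_bot_iff.1 (hk ▸ h2 k)
      rwa [Subgroup.map_eq_bot_iff, QuotientGroup.ker_mk'] at h3
    obtain ⟨M, ⟨hMn, hSM, hMR, hMne⟩, hMmax⟩ := WellFounded.has_min (wellFounded_gt (α := Subgroup Γ))
      {M | M.Normal ∧ S ≤ M ∧ M ≤ Rr ∧ M ≠ Rr}
      ⟨S, inferInstance, le_rfl, sup_le (Subgroup.commutator_le_self _) inf_le_right, fun h => hSne h.ge⟩
    haveI := hMn
    have hMne' : ¬ Rr ≤ M := fun h => hMne (le_antisymm hMR h)
    have hMirr : ∀ Y : Subgroup Γ, Y.Normal → M ≤ Y → Y ≤ Rr → Y = M ∨ Y = Rr := fun Y hY h1 h2 => by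
      by_contra hc
      push Not at hc
      exact hMmax Y ⟨hY, hSM.trans h1, h2, hc.2⟩ (lt_of_le_of_ne h1 (Ne.symm hc.1))
    obtain ⟨q, hq, x₀, hx₀, ⟨e₀, he₀⟩, hx₀M⟩ := exists_qelem_not_mem hMne'
    have hRab : ∀ a ∈ Rr, ∀ b ∈ Rr, ⁅a, b⁆ ∈ M := fun a ha b hb =>
      hSM (Subgroup.mem_sup_left (Subgroup.commutator_mem_commutator ha hb))
    have hRpow : ∀ y ∈ Rr, y ^ q ∈ M := by
      haveI := powSub_normal hRab q
      have hle : M ≤ powSub Rr M hRab q := fun m hm => ⟨1, one_mem _, by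
        rw [one_pow]; exact (QuotientGroup.eq_one_iff _).2 hm⟩
      rcases hMirr _ inferInstance hle (powSub_le hMR hRab q) with h | h
      · exact fun y hy => h.le ⟨y, hy, rfl⟩
      · exfalso
        obtain ⟨e, m, hm, hcard⟩ : ∃ e m, ¬ q ∣ m ∧ Nat.card Γ = q ^ e * m :=
          ⟨(Nat.card Γ).factorization q, Nat.card Γ / q ^ (Nat.card Γ).factorization q,
            Nat.not_dvd_ordCompl hq Nat.card_pos.ne', (Nat.mul_div_cancel' (Nat.ordProj_dvd _ _)).symm⟩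
        obtain ⟨w, hw, hwx⟩ := mem_of_qdivisible hMR hRab (fun v hv => by
          obtain ⟨u, hu, huv⟩ := (h.ge hv : v ∈ powSub Rr M hRab q)
          exact ⟨u, hu, QuotientGroup.eq.1 huv.symm⟩) hx₀ e
        have e1 : (QuotientGroup.mk x₀ : Γ ⧸ M) = QuotientGroup.mk (w ^ q ^ e) := (QuotientGroup.eq.2 hwx).symm
        have e2 : (QuotientGroup.mk x₀ : Γ ⧸ M) ^ m = 1 := by
          rw [e1, ← QuotientGroup.mk_pow, ← pow_mul, ← hcard, pow_card_eq_one', QuotientGroup.mk_one]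
        have e3 : (QuotientGroup.mk x₀ : Γ ⧸ M) ^ q ^ e₀ = 1 := by rw [← QuotientGroup.mk_pow, he₀, QuotientGroup.mk_one]
        have h3 := Nat.dvd_gcd (orderOf_dvd_of_pow_eq_one e2) (orderOf_dvd_of_pow_eq_one e3)
        rw [Nat.Coprime.gcd_eq_one (((hq.coprime_iff_not_dvd.2 hm).symm).pow_right e₀), Nat.dvd_one,
          orderOf_eq_one_iff] at h3
        exact hx₀M ((QuotientGroup.eq_one_iff _).1 h3)
    have hRcenM : R (j + 1) G ≤ cgrp Rr M := fun a ha => mem_cgrp.2 fun b hb => hRab a ha b hb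
    have hqel := qelem_cen G j hq hMne' hMR (fun y hy => ⟨1, by rw [pow_one]; exact hRpow y hy⟩) hMirr hRcenM
    obtain ⟨a₀, ha₀, ha₀q, ha₀n⟩ : ∃ a ∈ P, (orderOf a).Coprime q ∧ a ∉ cgrp Rr M := by
      by_contra hc
      push Not at hc
      refine hMne' ((R_eq_commutator G j).le.trans (Subgroup.commutator_le.2 fun y hy g hg => ?_))
      obtain ⟨a, b, ha, hb, hab, han, hbq⟩ := exists_parts g hq
      exact comm_symm_mem (mem_cgrp.1 (hab ▸ mul_mem (hqel a (Subgroup.zpowers_le.2 hg ha) han)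
        (hc b (Subgroup.zpowers_le.2 hg hb) hbq)) y hy)
    obtain ⟨x₁, hx₁, hx₁n⟩ : ∃ y ∈ Rr, ⁅a₀, y⁆ ∉ M := by
      by_contra hc
      push Not at hc
      exact ha₀n (mem_cgrp.2 hc)
    obtain ⟨x, hx, hxq, hxc⟩ := exists_qpart M x₁ hq ⟨1, by rw [pow_one]; exact hRpow x₁ hx₁⟩
    have hxR : x ∈ Rr := Subgroup.zpowers_le.2 hx₁ hx
    have hxn : ⁅a₀, x⁆ ∉ D := fun h => hx₁n (by
      have h1 : ⁅a₀, x⁆ ∈ M := hSM (Subgroup.mem_sup_right ⟨h, by
        rw [show ⁅a₀, x⁆ = (a₀ * x * a₀⁻¹) * x⁻¹ from rfl]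
        exact Rr.mul_mem ((R_normal G (j + 1)).conj_mem x hxR a₀) (Rr.inv_mem hxR)⟩)
      have e1 : (QuotientGroup.mk x₁ : Γ ⧸ M) = QuotientGroup.mk x := QuotientGroup.eq.2 hxc
      rw [← QuotientGroup.eq_one_iff, ← QuotientGroup.mk'_apply, map_commutatorElement, QuotientGroup.mk'_apply,
        QuotientGroup.mk'_apply, e1, ← QuotientGroup.mk'_apply, ← QuotientGroup.mk'_apply, ← map_commutatorElement]
      exact (QuotientGroup.eq_one_iff _).2 h1)
    obtain ⟨X₀, hX₀n, hX₀R, -, hX₀p, hX₀q⟩ := exists_qsection G (j + 1) D hD hq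
    obtain ⟨X, ⟨hXn, hXR, hXp, hXact⟩, hmin⟩ := WellFounded.has_min (wellFounded_lt (α := Subgroup Γ))
      {X | X.Normal ∧ X ≤ Rr ∧ (∀ y ∈ X, ∃ n, y ^ q ^ n ∈ D) ∧
        ∃ a ∈ P, (orderOf a).Coprime q ∧ ∃ y ∈ X, ⁅a, y⁆ ∉ D}
      ⟨X₀, hX₀n, hX₀R, hX₀p, a₀, ha₀, ha₀q, x, hX₀q x hxR hxq, hxn⟩
    haveI := hXn
    set K := X ⊓ D with hKdef
    have hKX : K ≤ X := inf_le_left
    have hp : ∀ y ∈ X, ∃ n, y ^ q ^ n ∈ K := fun y hy => by
      obtain ⟨n, hn⟩ := hXp y hy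
      exact ⟨n, pow_mem hy _, hn⟩
    have hinX : ∀ g : Γ, ∀ y ∈ X, ⁅g, y⁆ ∈ X := fun g y hy => by
      rw [show ⁅g, y⁆ = (g * y * g⁻¹) * y⁻¹ from rfl]
      exact mul_mem (hXn.conj_mem y hy g) (inv_mem hy)
    have hprop : ∀ Y : Subgroup Γ, Y.Normal → Y ≤ X → Y ≠ X →
        ∀ a ∈ P, (orderOf a).Coprime q → ∀ y ∈ Y, ⁅a, y⁆ ∈ K := by
      intro Y hY hle hne a ha haq y hy
      refine ⟨hinX a y (hle hy), ?_⟩
      by_contra hn
      exact hmin Y ⟨hY, hle.trans hXR, fun z hz => hXp z (hle hz), a, ha, haq, y, hy, hn⟩ (lt_of_le_of_ne hle hne)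
    let L : Subgroup Γ :=
      { carrier := {l | l ∈ X ∧ ∀ a ∈ P, (orderOf a).Coprime q → ⁅a, l⁆ ∈ K}
        one_mem' := ⟨one_mem X, fun a _ _ => by rw [commutatorElement_one_right]; exact one_mem K⟩
        mul_mem' := fun {u v} hu hv => ⟨mul_mem hu.1 hv.1, fun a ha haq => by
          rw [show ⁅a, u * v⁆ = ⁅a, u⁆ * (u * ⁅a, v⁆ * u⁻¹) by simp only [commutatorElement_def]; group]
          exact mul_mem (hu.2 a ha haq) ((inferInstance : K.Normal).conj_mem _ (hv.2 a ha haq) u)⟩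
        inv_mem' := fun {u} hu => ⟨inv_mem hu.1, fun a ha haq => by
          rw [show ⁅a, u⁻¹⁆ = u⁻¹ * ⁅u, a⁆ * u⁻¹⁻¹ by simp only [commutatorElement_def]; group]
          exact (inferInstance : K.Normal).conj_mem _ (comm_symm_mem (hu.2 a ha haq)) _⟩ }
    haveI hLn : L.Normal := ⟨fun l hl g => ⟨hXn.conj_mem l hl.1 g, fun a ha haq => by
      have h1 := (inferInstance : K.Normal).conj_mem _ (hl.2 (g⁻¹ * a * g) (by
        simpa using (R_normal G j).conj_mem a ha g⁻¹) (by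
          rwa [show g⁻¹ * a * g = MulAut.conj g⁻¹ a by simp, MulEquiv.orderOf_eq])) g
      convert h1 using 1
      simp only [commutatorElement_def]; group⟩⟩
    have hLX : L ≤ X := fun l hl => hl.1
    have hKL : K ≤ L := fun k hk => ⟨hk.1, fun a _ _ => ⟨hinX a k hk.1, by
      rw [show ⁅a, k⁆ = (a * k * a⁻¹) * k⁻¹ from rfl]
      exact D.mul_mem (‹D.Normal›.conj_mem k hk.2 a) (D.inv_mem hk.2)⟩⟩
    obtain ⟨a₁, ha₁, ha₁q, y₁, hy₁, hy₁n⟩ := hXact
    have hne : ¬ X ≤ L := fun h => hy₁n ((h hy₁).2 a₁ ha₁ ha₁q).2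
    have hmax : ∀ Y : Subgroup Γ, Y.Normal → Y ≤ X → Y ≠ X → Y ≤ L := fun Y hY hle hne' y hy =>
      ⟨hle hy, fun a ha haq => hprop Y hY hle hne' a ha haq y hy⟩
    have hirr : ∀ Y : Subgroup Γ, Y.Normal → L ≤ Y → Y ≤ X → Y = L ∨ Y = X := fun Y hY h1 h2 => by
      by_cases h : Y = X
      · exact Or.inr h
      · exact Or.inl (le_antisymm (hmax Y hY h2 h) h1)
    have hXK : ¬ X ≤ K := fun h => hne (h.trans hKL)
    have hcomle : ⁅X, X⁆ ≤ L := (le_sup_left (b := K)).trans (hmax _ inferInstance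
      (sup_le (Subgroup.commutator_le_self X) hKX) fun h => hXK (le_of_le_commutator_sup hq hKX hp h.ge))
    have hab : ∀ a ∈ X, ∀ b ∈ X, ⁅a, b⁆ ∈ L := fun a ha b hb => hcomle (Subgroup.commutator_mem_commutator ha hb)
    have hpow : ∀ y ∈ X, y ^ q ∈ L := by
      intro y hy
      haveI := powSub_normal hab q
      have hne' : powSub X L hab q ≠ X := fun h => hne fun z hz => by
        obtain ⟨n, hn⟩ : ∃ n, ∀ w ∈ X, w ^ q ^ n ∈ K := by
          haveI : Fintype Γ := Fintype.ofFinite _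
          refine ⟨∑ w : Γ, if hw : w ∈ X then (hp w hw).choose else 0, fun w hw => ?_⟩
          have hle := Finset.single_le_sum (f := fun w : Γ => if hw : w ∈ X then (hp w hw).choose else 0)
            (fun _ _ => Nat.zero_le _) (Finset.mem_univ w)
          simp only [dif_pos hw] at hle
          obtain ⟨c, hc⟩ := Nat.exists_eq_add_of_le hle
          rw [hc, pow_add, pow_mul]
          exact pow_mem (hp w hw).choose_spec _
        obtain ⟨w, hw, hwz⟩ := mem_of_qdivisible hLX hab (fun v hv => by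
          obtain ⟨u, hu, huv⟩ := (h.ge hv : v ∈ powSub X L hab q)
          exact ⟨u, hu, QuotientGroup.eq.1 huv.symm⟩) hz n
        have := mul_mem (hKL (hn w hw)) hwz
        rwa [mul_inv_cancel_left] at this
      exact hmax _ inferInstance (powSub_le hLX hab q) hne' ⟨y, hy, rfl⟩
    -- three subgroups
    let A : Subgroup Γ := Subgroup.closure {a | a ∈ P ∧ (orderOf a).Coprime q}
    have hgenA : ∀ a ∈ A, ∀ l ∈ L, ⁅a, l⁆ ∈ K := fun a ha => mem_cgrp.1
      ((Subgroup.closure_le (cgrp L K)).2 (fun b hb => (mem_cgrp (X := L) (L := K)).2 fun l (hl : l ∈ L) => hl.2 b hb.1 hb.2) ha)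
    haveI : A.Normal := by
      refine ⟨fun a ha g => ?_⟩
      induction ha using Subgroup.closure_induction with
      | mem z hz =>
        exact Subgroup.subset_closure ⟨(R_normal G j).conj_mem z hz.1 g, by
          rw [show g * z * g⁻¹ = MulAut.conj g z by simp, MulEquiv.orderOf_eq]; exact hz.2⟩
      | one => simp
      | mul u v _ _ h1 h2 => rw [conj_mul.symm]; exact mul_mem h1 h2
      | inv u _ h => rw [conj_inv.symm]; exact inv_mem h
    have hXA : X ≤ ⁅X, A⁆ ⊔ K := by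
      by_contra hn
      have hT : ⁅X, A⁆ ⊔ K ≤ X := sup_le (Subgroup.commutator_le.2 fun y hy a _ => by
        rw [show ⁅y, a⁆ = (⁅a, y⁆)⁻¹ by rw [commutatorElement_inv]]
        exact inv_mem (hinX a y hy)) hKX
      refine hy₁n (cen_of_chain (T := ⁅X, A⁆ ⊔ K) hq hT hp ha₁q
        (fun y hy => Subgroup.mem_sup_left (comm_symm_mem (Subgroup.commutator_mem_commutator hy
          (Subgroup.subset_closure ⟨ha₁, ha₁q⟩)))) (fun t ht => hprop _ inferInstance hT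
            (fun h => hn h.ge) a₁ ha₁ ha₁q t ht) y₁ hy₁).2
    have hcen : ⁅L, X⁆ ≤ K := by
      set π := QuotientGroup.mk' K
      have hAL : ⁅A.map π, L.map π⁆ = ⊥ := by
        rw [← Subgroup.map_commutator, Subgroup.map_eq_bot_iff, QuotientGroup.ker_mk']
        exact Subgroup.commutator_le.2 hgenA
      have hLX' : ⁅⁅L.map π, X.map π⁆, A.map π⁆ = ⊥ := by
        rw [← le_bot_iff, ← hAL, Subgroup.commutator_comm (A.map π) (L.map π)]
        refine Subgroup.commutator_mono ?_ le_rfl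
        rw [← Subgroup.map_commutator]
        exact Subgroup.map_mono (Subgroup.commutator_le_left L X)
      have hAL2 : ⁅⁅A.map π, L.map π⁆, X.map π⁆ = ⊥ := by rw [hAL, Subgroup.commutator_bot_left]
      have h1 : ⁅⁅X.map π, A.map π⁆, L.map π⁆ = ⊥ :=
        Subgroup.commutator_commutator_eq_bot_of_rotate hAL2 hLX'
      have h2 : ⁅X.map π, L.map π⁆ = ⊥ := by
        rw [← le_bot_iff, ← h1]
        refine Subgroup.commutator_mono ?_ le_rfl
        have := Subgroup.map_mono (f := π) hXA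
        rwa [Subgroup.map_sup, Subgroup.map_commutator,
          show K.map π = ⊥ from QuotientGroup.map_mk'_self K, sup_bot_eq] at this
      rw [Subgroup.commutator_comm, ← Subgroup.map_commutator, Subgroup.map_eq_bot_iff, QuotientGroup.ker_mk'] at h2
      exact h2
    have hRc : R (j + 1 + 1) G ≤ cgrp X L := fun g hg => mem_cgrp.2 fun y hy => hKL ⟨hinX g y hy, by
      rw [show ⁅g, y⁆ = g * (y * g⁻¹ * y⁻¹) by simp only [commutatorElement_def]; group]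
      exact mul_mem (hD hg) (‹D.Normal›.conj_mem _ (inv_mem (hD hg)) y)⟩
    have hpL : ∀ y ∈ X, ∃ n, y ^ q ^ n ∈ L := fun y hy => by
      obtain ⟨n, hn⟩ := hp y hy
      exact ⟨n, hKL hn⟩
    have hRcen : R (j + 1) G ≤ cgrp X L := by
      intro g hg
      obtain ⟨a, b, ha, hb, hab', han, hbq⟩ := exists_parts g hq
      rw [hab']
      refine mul_mem (qelem_cen G (j + 1) hq hne hLX hpL hirr hRc a (Subgroup.zpowers_le.2 hg ha) han) ?_
      rw [mem_cgrp]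
      intro y hy
      obtain ⟨y', hy', hy'n, hy'c⟩ := exists_qpart L y hq (hpL y hy)
      have hy'X : y' ∈ X := Subgroup.zpowers_le.2 hy hy'
      have h1 : ⁅b, y'⁆ ∈ L := hKL ⟨hinX b y' hy'X,
        comm_symm_mem (commutator_mem_of_nilpotent D hD (hXR hy'X) (Subgroup.zpowers_le.2 hg hb) hq hy'n hbq)⟩
      have e1 : (QuotientGroup.mk y : Γ ⧸ L) = QuotientGroup.mk y' := QuotientGroup.eq.2 hy'c
      rw [← QuotientGroup.eq_one_iff, ← QuotientGroup.mk'_apply, map_commutatorElement, QuotientGroup.mk'_apply,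
        QuotientGroup.mk'_apply, e1, ← QuotientGroup.mk'_apply, ← QuotientGroup.mk'_apply, ← map_commutatorElement]
      exact (QuotientGroup.eq_one_iff _).2 h1
    refine ⟨q, X, L, hLn, ⟨hq, hXn, hKL, hLX, hne, hXR, hirr, hcomle, hpow, hcen, hp, hRcen, ?_, ?_, ?_,
      fun h => absurd h (Nat.succ_ne_zero j), hmax⟩, x, hxR, hxq, fun hxD => hxn ?_⟩
    · intro j' hj'
      obtain rfl : j' = j := by omega
      exact fun a ha haq l hl => hl.2 a ha haq
    · intro j' hj'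
      obtain rfl : j' = j := by omega
      refine ⟨a₁, ha₁, ha₁q, fun hc => hy₁n (cen_of_chain (T := L) hq hLX hp ha₁q
        (fun y hy => mem_cgrp.1 hc y hy) (fun l hl => hl.2 a₁ ha₁ ha₁q) y₁ hy₁).2⟩
    · intro j' hj'
      obtain rfl : j' = j := by omega
      exact qelem_cen G j' hq hne hLX hpL hirr hRcen
    · rw [show ⁅a₀, x⁆ = (a₀ * x * a₀⁻¹) * x⁻¹ from rfl]
      exact mul_mem (‹D.Normal›.conj_mem x hxD a₀) (inv_mem hxD)

/-- A tower of `n + 1` levels. -/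
structure Tower (G : Subgroup Γ) (n : ℕ) where
  X : ℕ → Subgroup Γ
  L : ℕ → Subgroup Γ
  K : ℕ → Subgroup Γ
  q : ℕ → ℕ
  nX : ∀ i, (X i).Normal
  nL : ∀ i, (L i).Normal
  nK : ∀ i, (K i).Normal
  prime : ∀ i ≤ n, (q i).Prime
  hKL : ∀ i ≤ n, K i ≤ L i
  hLX : ∀ i ≤ n, L i ≤ X i
  hne : ∀ i ≤ n, ¬ X i ≤ L i
  hXR : ∀ i ≤ n, X i ≤ R i G
  irr : ∀ i ≤ n, ∀ Y : Subgroup Γ, Y.Normal → L i ≤ Y → Y ≤ X i → Y = L i ∨ Y = X i
  com : ∀ i ≤ n, ⁅X i, X i⁆ ≤ L i
  pow : ∀ i ≤ n, ∀ x ∈ X i, x ^ q i ∈ L i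
  cen : ∀ i ≤ n, ⁅L i, X i⁆ ≤ K i
  pgrp : ∀ i ≤ n, ∀ x ∈ X i, ∃ m, x ^ q i ^ m ∈ K i
  Rcen : ∀ i ≤ n, R i G ≤ cgrp (h := nL i) (X i) (L i)
  Acen : ∀ j, j + 1 ≤ n → ∀ a ∈ R j G, (orderOf a).Coprime (q (j + 1)) → ∀ l ∈ L (j + 1), ⁅a, l⁆ ∈ K (j + 1)
  act : ∀ j, j + 1 ≤ n → ∃ a ∈ R j G, (orderOf a).Coprime (q (j + 1)) ∧ a ∉ cgrp (h := nL (j + 1)) (X (j + 1)) (L (j + 1))
  ktop : K n = ⊥
  kdef : ∀ i, i < n → K i = X i ⊓ cgrp (h := nL (i + 1)) (X (i + 1)) (L (i + 1))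
  ne : ∀ i, i < n → q i ≠ q (i + 1)
  bottom : L 0 ≤ K 0
  maxp : ∀ i ≤ n, ∀ Y : Subgroup Γ, Y.Normal → Y ≤ X i → Y ≠ X i → Y ≤ L i
  top : R (n + 1) G = ⊥

end Cfsg.Lib.FitHeight
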