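import Cfsg.Agent.FitHeight.Tower

/-!
Existence of towers.
-/

set_option autoImplicit false
set_option linter.unusedSectionVars false
set_option linter.style.haveILetI false
set_option linter.unusedVariables false

namespace Cfsg.Lib.FitHeight

open scoped commutatorElement

universe u

variable {Γ : Type u} [Group Γ] [Finite Γ]

/-- Levels up to `i` below a given kernel. -/
theorem exists_levels (G : Subgroup Γ) [G.Normal] : ∀ (i : ℕ) (D : Subgroup Γ) [D.Normal], R (i + 1) G ≤ D →
    ¬ R i G ≤ D → ∃ (X L K : ℕ → Subgroup Γ) (q : ℕ → ℕ) (hL : ∀ l, (L l).Normal), (∀ l, (X l).Normal) ∧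
      (∀ l ≤ i, ∃ (D' : Subgroup Γ) (hD' : D'.Normal), Level G l D' (X l) (L l) (q l) ∧ K l = X l ⊓ D' ∧
        (l = i → D' = D) ∧ (l < i → D' = cgrp (h := hL (l + 1)) (X (l + 1)) (L (l + 1)))) ∧
      (∀ l, l < i → q l ≠ q (l + 1)) ∧ ∃ x ∈ R i G, (∃ e, x ^ q i ^ e = 1) ∧ x ∉ D := by
  intro i
  induction i with
  | zero =>
    intro D _ hD hD'
    obtain ⟨q, X, L, hLn, hlev, hx⟩ := exists_level G 0 D hD hD'
    refine ⟨fun _ => X, fun _ => L, fun _ => X ⊓ D, fun _ => q, fun _ => hLn, fun _ => hlev.nX, fun l hl => ?_,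
      fun l hl => absurd hl (Nat.not_lt_zero l), hx⟩
    obtain rfl := Nat.le_zero.1 hl
    exact ⟨D, inferInstance, hlev, rfl, fun _ => rfl, fun h => absurd h (lt_irrefl 0)⟩
  | succ i ih =>
    intro D _ hD hD'
    obtain ⟨q', X', L', hLn', hlev, hx⟩ := exists_level G (i + 1) D hD hD'
    haveI := hLn'
    haveI := hlev.nX
    obtain ⟨a, ha, -, han⟩ := hlev.act i rfl
    obtain ⟨X, L, K, q, hL, hX, hlevs, hne, y, hy, hyq, hyn⟩ :=
      ih (cgrp X' L') hlev.Rcen (fun h => han (h ha))
    classical
    refine ⟨Function.update X (i + 1) X', Function.update L (i + 1) L', Function.update K (i + 1) (X' ⊓ D),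
      Function.update q (i + 1) q', ?_, ?_, ?_, ?_, ?_⟩
    · intro l
      by_cases h : l = i + 1
      · subst h; simpa using hLn'
      · simpa [h] using hL l
    · intro l
      by_cases h : l = i + 1
      · subst h; simpa using hlev.nX
      · simpa [h] using hX l
    · intro l hl
      by_cases h : l = i + 1
      · subst h
        refine ⟨D, inferInstance, ?_, by simp, fun _ => rfl, fun h => absurd h (lt_irrefl _)⟩
        simp only [Function.update_self]
        exact hlev
      · obtain ⟨D', hD'n, hl', hK', htop, hnext⟩ := hlevs l (by omega)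
        refine ⟨D', hD'n, ?_, by simpa [h] using hK', fun h' => absurd h' h, fun _ => ?_⟩
        · simp only [Function.update_of_ne h]
          exact hl'
        · by_cases h2 : l = i
          · subst h2
            simp only [Function.update_self]
            exact htop rfl
          · simp only [Function.update_of_ne (show l + 1 ≠ i + 1 by omega)]
            exact hnext (by omega)
    · intro l hl
      by_cases h2 : l = i
      · subst h2
        simp only [Function.update_self, Function.update_of_ne (show l ≠ l + 1 by omega)]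
        intro he
        exact hyn (hlev.qcen l rfl y hy (he ▸ hyq))
      · simp only [Function.update_of_ne (show l ≠ i + 1 by omega), Function.update_of_ne (show l + 1 ≠ i + 1 by omega)]
        exact hne l (by omega)
    · simpa using hx

/-- A group with a residual that does not vanish has a tower. -/
theorem exists_tower (G : Subgroup Γ) [G.Normal] (n : ℕ) (h1 : R n G ≠ ⊥) (h2 : R (n + 1) G = ⊥) :
    Nonempty (Tower G n) := by
  classical
  obtain ⟨X, L, K, q, hL, hX, hlev, hne, -⟩ :=
    exists_levels G n ⊥ (by rw [h2]) (fun h => h1 (le_bot_iff.1 h))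
  choose D hDn hl hK htop hnext using hlev
  let K' : ℕ → Subgroup Γ := fun i => if i ≤ n then K i else ⊥
  have hK' : ∀ i, ∀ h : i ≤ n, K' i = X i ⊓ D i h := fun i h => by
    simp only [K', if_pos h]; exact hK i h
  refine ⟨⟨X, L, K', q, hX, hL, ?_, fun i hi => (hl i hi).prime,
    fun i hi => by rw [hK' i hi]; exact (hl i hi).hDL, fun i hi => (hl i hi).hLX, fun i hi => (hl i hi).hne,
    fun i hi => (hl i hi).hXR, fun i hi => (hl i hi).irr, fun i hi => (hl i hi).com, fun i hi => (hl i hi).pow,
    fun i hi => by rw [hK' i hi]; exact (hl i hi).cen, fun i hi => by rw [hK' i hi]; exact (hl i hi).pgrp,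
    fun i hi => (hl i hi).Rcen, ?_, ?_, ?_, ?_, hne, ?_, fun i hi => (hl i hi).maxp, h2⟩⟩
  · intro i
    by_cases h : i ≤ n
    · rw [hK' i h]
      haveI := hX i
      haveI := hDn i h
      infer_instance
    · simp only [K', if_neg h]; infer_instance
  · intro j hj a ha haq l hll
    rw [hK' _ hj]
    exact (hl (j + 1) hj).Acen j rfl a ha haq l hll
  · intro j hj
    exact (hl (j + 1) hj).act j rfl
  · rw [hK' n le_rfl, htop n le_rfl rfl, inf_bot_eq]
  · intro i hi
    rw [hK' i hi.le, hnext i hi.le hi]
  · rw [hK' 0 (Nat.zero_le n)]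
    exact (hl 0 (Nat.zero_le n)).bottom rfl

end Cfsg.Lib.FitHeight
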